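import Groth.Agent.Flat2D.LocalGlobalH
import Groth.Agent.Dcoh.Restrict

/-!
Transport of the vanishing of the cohomology of the structure sheaf along open immersions and isomorphisms.
-/

set_option autoImplicit false
universe u

namespace Groth.Agent.Flat2G.StructHH

open AlgebraicGeometry CategoryTheory Limits
open Groth.Agent.Flat2D.LocalGlobalH

/-- Cohomology of the structure sheaf over the range of an open immersion. -/
theorem HHon_iff {W X : Scheme.{u}} (k : W ⟶ X) [IsOpenImmersion k] (U : X.Opens) (hU : U = k ''ᵁ ⊤) (n : ℕ) :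
    Subsingleton (Coh.HHon X (Coh.structureModule X) U n) ↔ Subsingleton (Coh.HH W (Coh.structureModule W) n) := by
  rw [← HU_iff_HHon, HU_iff_restrict k (Coh.structureModule X) U hU n]
  exact ⟨subsingleton_HH_of_iso (Groth.Agent.Dcoh.Restrict.restrictUnit k) n,
    subsingleton_HH_of_iso (Groth.Agent.Dcoh.Restrict.restrictUnit k).symm n⟩

theorem HHon_top_iff (X : Scheme.{u}) (n : ℕ) :
    Subsingleton (Coh.HHon X (Coh.structureModule X) ⊤ n) ↔ Subsingleton (Coh.HH X (Coh.structureModule X) n) := by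
  rw [← HU_iff_HHon, HU_top_iff]

theorem HH_iso_iff {X X' : Scheme.{u}} (e : X ≅ X') (n : ℕ) :
    Subsingleton (Coh.HH X (Coh.structureModule X) n) ↔ Subsingleton (Coh.HH X' (Coh.structureModule X') n) := by
  rw [← HHon_iff e.hom ⊤ (by rw [Scheme.Hom.image_top_eq_opensRange, Scheme.Hom.opensRange_of_isIso]) n,
    HHon_top_iff]

/-- Transport along an open immersion. -/
theorem HHon_iff_image {W X : Scheme.{u}} (k : W ⟶ X) [IsOpenImmersion k] (V : W.Opens) (U : X.Opens)
    (hU : U = k ''ᵁ V) (n : ℕ) :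
    Subsingleton (Coh.HHon X (Coh.structureModule X) U n) ↔
      Subsingleton (Coh.HHon W (Coh.structureModule W) V n) := by
  rw [HHon_iff (V.ι ≫ k) U (by rw [hU, Scheme.Hom.comp_image, Scheme.Opens.ι_image_top]) n,
    HHon_iff V.ι V (by simp) n]

/-- Cohomology over the preimage of an open `W` in terms of the base change to `W`. -/
theorem HHon_preimage_iff {X Y W P : Scheme.{u}} {f : X ⟶ Y} {j : W ⟶ Y} [IsOpenImmersion j] {p : P ⟶ X} {q : P ⟶ W}
    (H : IsPullback p q f j) (U : Y.Opens) (hU : U = j ''ᵁ ⊤) (n : ℕ) :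
    Subsingleton (Coh.HHon X (Coh.structureModule X) (f ⁻¹ᵁ U) n) ↔
      Subsingleton (Coh.HH P (Coh.structureModule P) n) := by
  have : IsOpenImmersion p := MorphismProperty.of_isPullback (P := @IsOpenImmersion) H.flip inferInstance
  refine HHon_iff p _ ?_ n
  rw [hU, Scheme.Hom.image_top_eq_opensRange, Scheme.Hom.image_top_eq_opensRange]
  have h1 : p = H.isoPullback.hom ≫ pullback.fst f j := (H.isoPullback_hom_fst).symm
  ext x
  have h2 : Set.range (pullback.fst f j) = f ⁻¹' Set.range j := Scheme.Pullback.range_fst f j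
  have h3 : Set.range p = Set.range (pullback.fst f j) := by
    rw [h1]
    have h4 : (H.isoPullback.hom ≫ pullback.fst f j : P → X) = (pullback.fst f j) ∘ H.isoPullback.hom := by
      ext y
      exact Scheme.Hom.comp_apply _ _ _
    rw [h4, Function.Surjective.range_comp]
    exact H.isoPullback.hom.homeomorph.surjective
  change f x ∈ Set.range j ↔ x ∈ Set.range p
  rw [h3, h2]
  rfl

/-- The conclusion of S1367 over affine opens. -/
theorem subsingleton_of_universal {X Y : Scheme.{u}} (f : X ⟶ Y) (V : Y.Opens) (n : ℕ)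
    (h : ∀ (Y' : Scheme.{u}) (g : Y' ⟶ (V : Scheme.{u})) (U : Y'.Opens), IsAffineOpen U →
      Subsingleton (Coh.HHon (pullback f (g ≫ V.ι)) (Coh.structureModule (pullback f (g ≫ V.ι)))
        (pullback.snd f (g ≫ V.ι) ⁻¹ᵁ U) n)) (W : Y.Opens) (hW : IsAffineOpen W) (hWV : W ≤ V) :
    Subsingleton (Coh.HHon X (Coh.structureModule X) (f ⁻¹ᵁ W) n) := by
  have : IsAffine W := hW
  have h1 := h W (Y.homOfLE hWV) ⊤ (isAffineOpen_top _)
  have h2 := (HHon_top_iff (pullback f (Y.homOfLE hWV ≫ V.ι)) n).mp h1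
  rw [HHon_preimage_iff (IsPullback.of_hasPullback f (Y.homOfLE hWV ≫ V.ι)) W (by simp) n]
  exact h2

end Groth.Agent.Flat2G.StructHH
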