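import Groth.Agent.Flat2G.FibreRestrict
import Groth.Agent.Flat2G.ProperDim
import Groth.Agent.S0386

/-!
# Reduction of the contraction theorems (S1466, S1473) to the affine local statements
-/

set_option autoImplicit false
universe u
open CategoryTheory Limits AlgebraicGeometry TopologicalSpace Opposite

namespace Groth.Agent.Flat2G.ContrGlue

open FibreRestrict

/-- A point of `Y` over `s` comes from the fibre. -/
lemma exists_fiber_point {Y S : Scheme.{u}} (g : Y ⟶ S) (s : S) (y : Y) (hy : g y = s) :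
    ∃ z : g.fiber s, g.fiberι s z = y := by
  have : y ∈ Set.range (g.fiberι s) := by
    rw [Scheme.Hom.range_fiberι]
    exact hy
  exact this

section Restrict

variable {X Y S X' Y' S' : Scheme.{u}} (f : X ⟶ Y) (g : Y ⟶ S) (f' : X' ⟶ Y') (g' : Y' ⟶ S')
  (i : X' ⟶ X) (j : Y' ⟶ Y) (k : S' ⟶ S) (H : IsPullback i f' f j) (w₂ : g' ≫ k = j ≫ g) (s' : S')
  [IsOpenImmersion j] [IsOpenImmersion k]

omit [IsOpenImmersion j] [IsOpenImmersion k] in
include H w₂ in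
lemma dim_restrict [LocallyOfFiniteType f]
    (hdim : ∀ z : ↥(g.fiber (k s')), topologicalKrullDim ↑((MoreMor.fiberMap f g (k s')).fiber z) ≤ 1)
    (y' : Y') (hy' : g' y' = s') : topologicalKrullDim ↑(f'.fiber y') ≤ 1 := by
  have h1 : g (j y') = k s' := by
    rw [← Scheme.Hom.comp_apply, ← w₂, Scheme.Hom.comp_apply, hy']
  obtain ⟨z, hz⟩ := exists_fiber_point g (k s') (j y') h1
  have h2 := hdim z
  rw [ProperDim.topologicalKrullDim_fiber_baseChange f _ _ _ (isPullback_fiberMap f g (k s')) z, hz] at h2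
  rwa [ProperDim.topologicalKrullDim_fiber_baseChange f f' i j H y']

include H w₂ in
lemma fiber_facts [IsAffine Y'] [IsAffine S']
    (hR1 : ∀ U : (g.fiber (k s')).Opens, IsAffineOpen U →
      Subsingleton (Coh.HHon ((f ≫ g).fiber (k s')) (Coh.structureModule ((f ≫ g).fiber (k s')))
        (MoreMor.fiberMap f g (k s') ⁻¹ᵁ U) 1)) :
    Subsingleton (Coh.HH ((f' ≫ g').fiber s') (Coh.structureModule ((f' ≫ g').fiber s')) 1) ∧
    ∃ (U : (g.fiber (k s')).Opens) (_ : IsAffineOpen U) (a : Γ(g.fiber (k s'), U) ⟶ Γ(g'.fiber s', ⊤))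
      (b : Γ((f ≫ g).fiber (k s'), MoreMor.fiberMap f g (k s') ⁻¹ᵁ U) ⟶ Γ((f' ≫ g').fiber s', ⊤)),
      IsIso a ∧ IsIso b ∧ (MoreMor.fiberMap f g (k s')).app U ≫ b =
        a ≫ (MoreMor.fiberMap f' g' s').app ⊤ := by
  have w₁ : f' ≫ j = i ≫ f := H.w.symm
  have w : (f' ≫ g') ≫ k = i ≫ f ≫ g := by rw [Category.assoc, w₂, reassoc_of% w₁]
  have hi : IsOpenImmersion i := MorphismProperty.of_isPullback (P := @IsOpenImmersion) H.flip ‹_›
  let ιX := fibIncl (f ≫ g) (f' ≫ g') i k w s'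
  let ιY := fibIncl g g' j k w₂ s'
  have HX : IsPullback ιX ((f' ≫ g').fiberι s') ((f ≫ g).fiberι (k s')) i := isPullback_fibIncl _ _ _ _ _ _
  have HY : IsPullback ιY (g'.fiberι s') (g.fiberι (k s')) j := isPullback_fibIncl _ _ _ _ _ _
  have hX : IsOpenImmersion ιX := MorphismProperty.of_isPullback (P := @IsOpenImmersion) HX.flip ‹_›
  have hY : IsOpenImmersion ιY := MorphismProperty.of_isPullback (P := @IsOpenImmersion) HY.flip ‹_›
  have HXY : IsPullback ιX (MoreMor.fiberMap f' g' s') (MoreMor.fiberMap f g (k s')) ιY :=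
    isPullback_fibIncl_fiberMap f g f' g' i j k w₁ w₂ w s' H
  have hYaff : IsAffine (g'.fiber s') := by
    unfold Scheme.Hom.fiber; infer_instance
  have hU : IsAffineOpen (ιY ''ᵁ ⊤) := (isAffineOpen_top (g'.fiber s')).image_of_isOpenImmersion ιY
  obtain ⟨a, b, ha, hb, hab⟩ := exists_iso_app (MoreMor.fiberMap f g (k s')) (MoreMor.fiberMap f' g' s')
    ιX ιY HXY ⊤ (ιY ''ᵁ ⊤) rfl
  refine ⟨?_, ιY ''ᵁ ⊤, hU, a, b, ha, hb, hab⟩
  have h1 : MoreMor.fiberMap f g (k s') ⁻¹ᵁ (ιY ''ᵁ ⊤) = ιX ''ᵁ ⊤ :=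
    (IsOpenImmersion.image_preimage_eq_preimage_image_of_isPullback HXY.flip ⊤).symm
  exact (subsingleton_HHon_iff ιX _ h1 1).1 (hR1 _ hU)

end Restrict

section Flat

lemma flat_comp_iff {Z X S : Scheme.{u}} (i : Z ⟶ X) [IsOpenImmersion i] (h : X ⟶ S) :
    Flat (i ≫ h) ↔ ∀ z, (h.stalkMap (i z)).hom.Flat := by
  rw [Flat.iff_flat_stalkMap]
  refine forall_congr' fun z => ?_
  rw [Scheme.Hom.stalkMap_comp]
  exact RingHom.Flat.respectsIso.cancel_right_isIso _ _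

lemma flat_ι_comp_iff {X S : Scheme.{u}} (U : X.Opens) (h : X ⟶ S) :
    Flat (U.ι ≫ h) ↔ ∀ x ∈ U, (h.stalkMap x).hom.Flat := by
  rw [flat_comp_iff]
  exact ⟨fun H x hx => H ⟨x, hx⟩, fun H z => H z.1 z.2⟩

lemma flat_of_comp_openImmersion {Z S S' : Scheme.{u}} (h : Z ⟶ S') (k : S' ⟶ S) [IsOpenImmersion k]
    (hk : Flat (h ≫ k)) : Flat h := by
  rw [Flat.iff_flat_stalkMap] at hk ⊢
  intro z
  have := hk z
  rw [Scheme.Hom.stalkMap_comp] at this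
  exact (RingHom.Flat.respectsIso.cancel_left_isIso _ _).1 this

end Flat

section Chart

/-- The affine chart around a point of `Y` over `s`. -/
theorem exists_chart {X Y S : Scheme.{u}} (f : X ⟶ Y) (g : Y ⟶ S) [IsProper f]
    [LocallyOfFinitePresentation (f ≫ g)] (s : S)
    (hflat : ∀ x : X, g (f x) = s → ((f ≫ g).stalkMap x).hom.Flat) (y : Y) (hy : g y = s) :
    ∃ (S₁ : S.Opens) (Y₁ : Y.Opens) (e : Y₁ ≤ g ⁻¹ᵁ S₁), IsAffineOpen S₁ ∧ IsAffineOpen Y₁ ∧ s ∈ S₁ ∧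
      y ∈ Y₁ ∧ Flat (f ∣_ Y₁ ≫ g.resLE S₁ Y₁ e) ∧ Flat ((f ⁻¹ᵁ Y₁).ι ≫ f ≫ g) := by
  have hopen := Groth.Agent.S0386.result (f ≫ g)
  let Y₀ : Y.Opens := ⟨(f '' {x : X | ((f ≫ g).stalkMap x).hom.Flat}ᶜ)ᶜ,
    (f.isClosedMap _ hopen.isClosed_compl).isOpen_compl⟩
  have hY₀ : ∀ x : X, f x ∈ Y₀ → ((f ≫ g).stalkMap x).hom.Flat := by
    intro x hx
    by_contra hne
    exact hx ⟨x, hne, rfl⟩
  have hyY₀ : y ∈ Y₀ := by
    rintro ⟨x, hx, rfl⟩
    exact hx (hflat x hy)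
  obtain ⟨S₁, hS₁, hsS₁, -⟩ := exists_isAffineOpen_mem_and_subset (X := S) (x := s) (U := ⊤) trivial
  obtain ⟨Y₁, hY₁, hyY₁, hle⟩ := exists_isAffineOpen_mem_and_subset (X := Y) (x := y)
    (U := g ⁻¹ᵁ S₁ ⊓ Y₀) ⟨by change g y ∈ S₁; rwa [hy], hyY₀⟩
  have e : Y₁ ≤ g ⁻¹ᵁ S₁ := fun z hz => (hle hz).1
  have hfl : Flat ((f ⁻¹ᵁ Y₁).ι ≫ f ≫ g) := by
    rw [flat_ι_comp_iff]
    intro x hx
    exact hY₀ x (hle hx).2
  refine ⟨S₁, Y₁, e, hS₁, hY₁, hsS₁, hyY₁, ?_, hfl⟩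
  apply flat_of_comp_openImmersion _ S₁.ι
  rw [Category.assoc, Scheme.Hom.resLE_comp_ι, ← Category.assoc, morphismRestrict_ι, Category.assoc]
  exact hfl

end Chart

end Groth.Agent.Flat2G.ContrGlue
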