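import Mathlib.AlgebraicGeometry.Morphisms.Proper
import Groth.Agent.Sga3C.DimTop
import Groth.Agent.VarietyB.DimTop
import Groth.Agent.FlatA.FibreDim

/-!
Let `f : X → Y` be proper and `q : Y → Y'` affine such that `X → Y'` is universally closed. Then fibres of `X → Y'` do
not have larger dimension than the fibres of `X → Y`.
-/

set_option autoImplicit false
universe u

namespace Groth.Agent.Flat2G.ContrRed

open AlgebraicGeometry CategoryTheory Limits TopologicalSpace

theorem isIntegralHom_imageι_comp {X Y Y' : Scheme.{u}} (f : X ⟶ Y) (q : Y ⟶ Y') [IsProper f] [IsAffineHom q]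
    [UniversallyClosed (f ≫ q)] : IsIntegralHom (f.imageι ≫ q) ∧ Function.Surjective f.toImage := by
  have h1 : IsProper (f.toImage ≫ f.imageι) := by rw [f.toImage_imageι]; infer_instance
  have h2 : IsProper f.toImage := IsProper.of_comp f.toImage f.imageι
  have h3 : Surjective f.toImage := by
    refine ⟨?_⟩
    have hd : DenseRange f.toImage := f.toImage.denseRange
    have hc : IsClosed (Set.range f.toImage) := f.toImage.isClosedMap.isClosed_range
    rw [← Set.range_eq_univ, ← hc.closure_eq, hd.closure_range]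
  have h4 : UniversallyClosed (f.toImage ≫ f.imageι ≫ q) := by
    rw [f.toImage_imageι_assoc]
    infer_instance
  have h5 : UniversallyClosed (f.imageι ≫ q) := .of_comp_surjective f.toImage (f.imageι ≫ q)
  exact ⟨IsIntegralHom.iff_universallyClosed_and_isAffineHom.mpr ⟨h5, inferInstance⟩, h3.surj⟩

theorem eq_of_specializes {X Y Y' : Scheme.{u}} (f : X ⟶ Y) (q : Y ⟶ Y') [IsProper f] [IsAffineHom q]
    [UniversallyClosed (f ≫ q)] {x x' : X} (h : x ⤳ x') (he : q (f x) = q (f x')) : f x = f x' := by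
  have h1 := (isIntegralHom_imageι_comp f q).1
  have h2 : ∀ x, f.imageι (f.toImage x) = f x := fun x => by
    rw [← Scheme.Hom.comp_apply, f.toImage_imageι]
  have h3 := Sga3C.DimTop.eq_of_specializes_of_isIntegralHom (f.imageι ≫ q) (f.toImage x) (f.toImage x')
    (h.map f.toImage.continuous) (by
      rw [Scheme.Hom.comp_apply, Scheme.Hom.comp_apply, h2, h2, he])
  rw [← h2 x, h3, h2]

theorem topologicalKrullDim_fiber_comp_le {X Y Y' : Scheme.{u}} (f : X ⟶ Y) (q : Y ⟶ Y') [IsProper f] [IsAffineHom q]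
    [UniversallyClosed (f ≫ q)] (y' : Y') (d : WithBot ℕ∞)
    (hd : ∀ y : Y, q y = y' → topologicalKrullDim (f.fiber y) ≤ d) :
    topologicalKrullDim ((f ≫ q).fiber y') ≤ d := by
  rw [VarietyB.DimTop.topologicalKrullDim_eq_iSup_irreducibleComponents, iSup_le_iff]
  rintro ⟨Z, hZ⟩
  have hirr : IsIrreducible Z := hZ.1
  have hcl : IsClosed Z := isClosed_of_mem_irreducibleComponents Z hZ
  obtain ⟨η, hη⟩ := QuasiSober.sober hirr hcl
  have hq : ∀ z : (f ≫ q).fiber y', q (f ((f ≫ q).fiberι y' z)) = y' := fun z => by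
    have := (f ≫ q).fiberHomeo y' z |>.2
    rw [← Scheme.Hom.comp_apply]
    exact this
  have h1 : ∀ z ∈ Z, (f ≫ q).fiberι y' z ∈ (f : X → Y) ⁻¹' {f ((f ≫ q).fiberι y' η)} := by
    intro z hz
    have hs : η ⤳ z := by
      rw [specializes_iff_mem_closure, hη.def]
      exact hz
    have h2 := eq_of_specializes f q (hs.map ((f ≫ q).fiberι y').continuous) (by rw [hq, hq])
    exact h2.symm
  refine le_trans ?_ (hd (f ((f ≫ q).fiberι y' η)) (hq η))
  rw [FlatA.FibreDim.topologicalKrullDim_fiber_eq]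
  exact VarietyB.DimTop.topologicalKrullDim_le_of_isEmbedding ((f ≫ q).fiberι y').isEmbedding.isInducing _ _ h1

end Groth.Agent.Flat2G.ContrRed
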