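import Groth.Agent.Flat2G.ContrModel

/-!
Let `X → Y → S` with `Y`, `S` affine, `X → Y` proper and `X → S` of finite type. Then `Y` can be replaced by an affine
space over `S`: there are finitely many functions on `Y` such that the induced `X → 𝔸ⁿ_S` is proper.
-/

set_option autoImplicit false
universe u

namespace Groth.Agent.Flat2G.ContrRed

open AlgebraicGeometry CategoryTheory Limits TopologicalSpace

/-- The morphism to an affine scheme `Spec P` given by functions. -/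
noncomputable def toSpec {Y : Scheme.{u}} {P : CommRingCat.{u}} (ψ : P ⟶ Γ(Y, ⊤)) : Y ⟶ Spec P :=
  Y.toSpecΓ ≫ Spec.map ψ

theorem toSpec_appTop {Y : Scheme.{u}} {P : CommRingCat.{u}} (ψ : P ⟶ Γ(Y, ⊤)) :
    (toSpec ψ).appTop = (Scheme.ΓSpecIso P).hom ≫ ψ := by
  rw [toSpec, Scheme.Hom.comp_appTop, Scheme.toSpecΓ_appTop, Scheme.ΓSpecIso_naturality]

theorem toSpec_comp {Y : Scheme.{u}} {P Q : CommRingCat.{u}} (ψ : P ⟶ Γ(Y, ⊤)) (θ : Q ⟶ P) :
    toSpec ψ ≫ Spec.map θ = toSpec (θ ≫ ψ) := by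
  rw [toSpec, toSpec, Category.assoc, Spec.map_comp]

theorem toSpec_isoSpec_inv {Y T : Scheme.{u}} [IsAffine T] (t : Y ⟶ T) :
    toSpec t.appTop ≫ T.isoSpec.inv = t := by
  rw [toSpec, Category.assoc, ← Scheme.toSpecΓ_naturality_assoc]
  rw [← Scheme.isoSpec_hom, Iso.hom_inv_id, Category.comp_id]

theorem range_toSpec {Y : Scheme.{u}} {P : CommRingCat.{u}} (ψ : P ⟶ Γ(Y, ⊤)) :
    Set.range (toSpec ψ).appTop.hom = Set.range ψ.hom := by
  rw [toSpec_appTop]
  ext x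
  constructor
  · rintro ⟨a, rfl⟩
    exact ⟨_, rfl⟩
  · rintro ⟨a, rfl⟩
    refine ⟨(Scheme.ΓSpecIso P).inv.hom a, ?_⟩
    have := congrArg (fun k => ψ.hom (k.hom a)) (Scheme.ΓSpecIso P).inv_hom_id
    exact this

theorem exists_finset_closure_eq_top (T : Scheme.{u}) [IsAffine T]
    [h : LocallyOfFiniteType (specULiftZIsTerminal.from T)] :
    ∃ G : Finset Γ(T, ⊤), Subring.closure (G : Set Γ(T, ⊤)) = ⊤ := by
  have h1 : ((specULiftZIsTerminal.from T).appTop).hom.FiniteType := by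
    have := (specULiftZIsTerminal.from T).finiteType_appLE (isAffineOpen_top _) (isAffineOpen_top _) le_top
    rw [Scheme.Hom.appTop, Scheme.Hom.app_eq_appLE]
    exact this
  set ζ := ((specULiftZIsTerminal.from T).appTop).hom with hζ
  algebraize [ζ]
  obtain ⟨G, hG⟩ := h1.1
  refine ⟨G, ?_⟩
  rw [eq_top_iff]
  intro x _
  have hx : x ∈ Algebra.adjoin Γ(Spec (CommRingCat.of (ULift.{u} ℤ)), ⊤) (G : Set Γ(T, ⊤)) := by
    rw [hG]; trivial
  rw [Algebra.mem_adjoin_iff] at hx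
  refine Subring.closure_le.mpr (Set.union_subset ?_ Subring.subset_closure) hx
  rintro _ ⟨a, rfl⟩
  let e := (Scheme.ΓSpecIso (CommRingCat.of (ULift.{u} ℤ))).commRingCatIsoToRingEquiv.trans ULift.ringEquiv
  have ha : a = e.symm (e a) := (e.symm_apply_apply a).symm
  rw [ha]
  have h2 : ζ (e.symm (e a)) = ((e a : ℤ) : Γ(T, ⊤)) := by
    have := eq_intCast (ζ.comp e.symm.toRingHom) (e a)
    exact this
  change ζ _ ∈ _
  rw [h2]
  exact intCast_mem _ _

/-- The polynomial ring over `Γ(S, ⊤)`. -/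
noncomputable abbrev poly (S : Scheme.{u}) (n : ℕ) : CommRingCat.{u} :=
  CommRingCat.of (MvPolynomial (Fin n) Γ(S, ⊤))

/-- The structure map of the affine space over an affine scheme. -/
noncomputable abbrev polyMap (S : Scheme.{u}) [IsAffine S] (n : ℕ) : Spec (poly S n) ⟶ S :=
  Spec.map (CommRingCat.ofHom (MvPolynomial.C (R := Γ(S, ⊤)) (σ := Fin n))) ≫ S.isoSpec.inv

/-- Main reduction: a proper `f : X ⟶ Y` with `Y`, `S` affine and `X` of finite type over `S`; then `X ⟶ 𝔸ⁿ_S` is proper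
for suitable functions on `Y`, among which we may prescribe a finite set. -/
theorem exists_poly {X Y S : Scheme.{u}} [IsAffine Y] [IsAffine S] (f : X ⟶ Y) [IsProper f] (g : Y ⟶ S)
    [LocallyOfFiniteType (f ≫ g)] (E : Finset Γ(Y, ⊤)) :
    ∃ (n : ℕ) (ψ : poly S n ⟶ Γ(Y, ⊤)), toSpec ψ ≫ polyMap S n = g ∧ (E : Set Γ(Y, ⊤)) ⊆ Set.range ψ.hom ∧
      IsProper (f ≫ toSpec ψ) := by
  classical
  obtain ⟨Z, T, z, t, h, w, _, _, _, _, _⟩ := exists_closed_model f
  obtain ⟨E₁, hE₁⟩ := exists_finset h f z t w g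
  obtain ⟨G, hG⟩ := exists_finset_closure_eq_top T
  let E' : Finset Γ(Y, ⊤) := E ∪ E₁ ∪ G.image t.appTop.hom
  let n := E'.card
  let v : Fin n → Γ(Y, ⊤) := fun i => (E'.equivFin.symm i).1
  have hv : (E' : Set Γ(Y, ⊤)) ⊆ Set.range v := by
    intro x hx
    refine ⟨E'.equivFin ⟨x, hx⟩, ?_⟩
    simp [v]
  let ψ : poly S n ⟶ Γ(Y, ⊤) := CommRingCat.ofHom (MvPolynomial.eval₂Hom g.appTop.hom v)
  have hψ : ∀ i, ψ.hom (MvPolynomial.X i) = v i := fun i => MvPolynomial.eval₂Hom_X' _ _ _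
  have hψE : (E' : Set Γ(Y, ⊤)) ⊆ Set.range ψ.hom := by
    intro x hx
    obtain ⟨i, rfl⟩ := hv hx
    exact ⟨_, hψ i⟩
  let K : Subring Γ(Y, ⊤) := ψ.hom.range
  have hτ : ∀ a, t.appTop.hom a ∈ K := by
    intro a
    have ha : a ∈ Subring.closure (G : Set Γ(T, ⊤)) := by rw [hG]; trivial
    have h1 : Subring.closure (G : Set Γ(T, ⊤)) ≤ K.comap t.appTop.hom := by
      rw [Subring.closure_le]
      intro b hb
      refine hψE ?_
      simp only [E', Finset.coe_union, Finset.coe_image]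
      exact Or.inr ⟨b, hb, rfl⟩
    exact h1 ha
  have hC : CommRingCat.ofHom (MvPolynomial.C (R := Γ(S, ⊤)) (σ := Fin n)) ≫ ψ = g.appTop := by
    ext a
    exact MvPolynomial.eval₂Hom_C _ _ _
  let K' : CommRingCat.{u} := CommRingCat.of K
  let ι : K' ⟶ Γ(Y, ⊤) := CommRingCat.ofHom K.subtype
  let ρ : poly S n ⟶ K' := CommRingCat.ofHom ψ.hom.rangeRestrict
  have hρ : Function.Surjective ρ.hom := ψ.hom.rangeRestrict_surjective
  have hρι : ρ ≫ ι = ψ := rfl
  let τ : Γ(T, ⊤) ⟶ K' := CommRingCat.ofHom (t.appTop.hom.codRestrict K hτ)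
  have hτι : τ ≫ ι = t.appTop := rfl
  have hcl := hE₁ (Spec K') (toSpec ι) (Spec.map τ ≫ T.isoSpec.inv) (Spec.map ρ ≫ polyMap S n) (by
      rw [← Category.assoc, toSpec_comp, hτι, toSpec_isoSpec_inv]) (by
      rw [← Category.assoc, toSpec_comp, hρι, ← Category.assoc, toSpec_comp, hC, toSpec_isoSpec_inv]) (by
      rw [range_toSpec]
      intro x hx
      have hx' : x ∈ Set.range ψ.hom := hψE (by
        simp only [E', Finset.coe_union]
        exact Or.inl (Or.inr hx))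
      obtain ⟨a, rfl⟩ := hx'
      exact ⟨ρ.hom a, rfl⟩)
  refine ⟨n, ψ, ?_, ?_, ?_⟩
  · rw [← Category.assoc, toSpec_comp, hC, toSpec_isoSpec_inv]
  · intro x hx
    refine hψE ?_
    simp only [E', Finset.coe_union]
    exact Or.inl (Or.inl hx)
  · have h1 : f ≫ toSpec ψ = (pullback.lift h (f ≫ toSpec ι) (by
        rw [w, Category.assoc, ← Category.assoc (toSpec ι), toSpec_comp, hτι, toSpec_isoSpec_inv]) ≫
        pullback.snd z (Spec.map τ ≫ T.isoSpec.inv)) ≫ Spec.map ρ := by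
      rw [pullback.lift_snd, Category.assoc, toSpec_comp, hρι]
    have h2 : IsClosedImmersion (Spec.map ρ) := IsClosedImmersion.spec_of_surjective ρ hρ
    rw [h1]
    infer_instance

end Groth.Agent.Flat2G.ContrRed
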