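import Mathlib.AlgebraicGeometry.Fiber
import Mathlib.AlgebraicGeometry.Morphisms.OpenImmersion
import Groth.Prelude.Def_MoreMor
import Groth.Prelude.Def_Coh
import Groth.Agent.CohqA.HOpen
import Groth.Agent.CohqA.DirectSum

/-!
# Fibres over a point of restrictions of morphisms to open subschemes
-/

set_option autoImplicit false
universe u
open CategoryTheory Limits AlgebraicGeometry TopologicalSpace Opposite

namespace Groth.Agent.Flat2G.FibreRestrict

section

variable {Y S Y' S' : Scheme.{u}} (g : Y ⟶ S) (g' : Y' ⟶ S') (j : Y' ⟶ Y) (k : S' ⟶ S)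
  (w : g' ≫ k = j ≫ g) (s' : S')

/-- The map of fibres induced by a commutative square. -/
noncomputable def fibIncl : g'.fiber s' ⟶ g.fiber (k s') :=
  pullback.lift (g'.fiberι s' ≫ j) (g'.fiberToSpecResidueField s' ≫ Spec.map (k.residueFieldMap s'))
    (by
      rw [Category.assoc, Category.assoc, ← w, Scheme.Hom.SpecMap_residueFieldMap_fromSpecResidueField,
        ← Category.assoc, ← Category.assoc, Scheme.Hom.fiber_fac])

lemma fibIncl_fiberι : fibIncl g g' j k w s' ≫ g.fiberι (k s') = g'.fiberι s' ≫ j :=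
  pullback.lift_fst _ _ _

lemma fibIncl_toSpec : fibIncl g g' j k w s' ≫ g.fiberToSpecResidueField (k s') =
    g'.fiberToSpecResidueField s' ≫ Spec.map (k.residueFieldMap s') :=
  pullback.lift_snd _ _ _

/-- If `k` is an open immersion, the fibre of `g'` is the preimage of `Y'` in the fibre of `g`. -/
lemma isPullback_fibIncl [IsOpenImmersion k] :
    IsPullback (fibIncl g g' j k w s') (g'.fiberι s') (g.fiberι (k s')) j := by
  have h1 : IsPullback (g.fiberι (k s')) (g.fiberToSpecResidueField (k s')) g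
      (S.fromSpecResidueField (k s')) := IsPullback.of_hasPullback _ _
  have h2 : IsPullback (g'.fiberι s') (g'.fiberToSpecResidueField s') g'
      (S'.fromSpecResidueField s') := IsPullback.of_hasPullback _ _
  have hiso : IsIso (Spec.map (k.residueFieldMap s')) := inferInstance
  have h3 : IsPullback (S'.fromSpecResidueField s') (Spec.map (k.residueFieldMap s')) k
      (S.fromSpecResidueField (k s')) := by
    have e := Scheme.Hom.SpecMap_residueFieldMap_fromSpecResidueField k s'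
    refine ⟨⟨e.symm⟩, ⟨PullbackCone.IsLimit.mk _
      (fun c => c.snd ≫ inv (Spec.map (k.residueFieldMap s'))) (fun c => ?_) (fun c => ?_)
      (fun c m _ h2 => ?_)⟩⟩
    · rw [← cancel_mono k, Category.assoc, Category.assoc, ← e, IsIso.inv_hom_id_assoc, c.condition]
    · rw [Category.assoc, IsIso.inv_hom_id, Category.comp_id]
    · rw [← h2, Category.assoc, IsIso.hom_inv_id, Category.comp_id]
  have h4 := h2.paste_vert h3
  rw [← fibIncl_toSpec g g' j k w s', w] at h4
  exact (IsPullback.of_bot h4 (fibIncl_fiberι g g' j k w s').symm h1).flip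

end

section

variable {X Y S X' Y' S' : Scheme.{u}} (f : X ⟶ Y) (g : Y ⟶ S) (f' : X' ⟶ Y') (g' : Y' ⟶ S')
  (i : X' ⟶ X) (j : Y' ⟶ Y) (k : S' ⟶ S) (w₁ : f' ≫ j = i ≫ f) (w₂ : g' ≫ k = j ≫ g)
  (w : (f' ≫ g') ≫ k = i ≫ f ≫ g) (s' : S')

lemma fiberMap_fiberι (s : S) : MoreMor.fiberMap f g s ≫ g.fiberι s = (f ≫ g).fiberι s ≫ f :=
  pullback.lift_fst _ _ _

lemma fiberMap_toSpec (s : S) : MoreMor.fiberMap f g s ≫ g.fiberToSpecResidueField s =
    (f ≫ g).fiberToSpecResidueField s :=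
  pullback.lift_snd _ _ _

/-- The square of fibres `X_s → Y_s` over `X → Y`. -/
lemma isPullback_fiberMap (s : S) :
    IsPullback ((f ≫ g).fiberι s) (MoreMor.fiberMap f g s) f (g.fiberι s) := by
  have h1 : IsPullback (g.fiberι s) (g.fiberToSpecResidueField s) g (S.fromSpecResidueField s) :=
    IsPullback.of_hasPullback _ _
  have h2 : IsPullback ((f ≫ g).fiberι s) ((f ≫ g).fiberToSpecResidueField s) (f ≫ g)
      (S.fromSpecResidueField s) := IsPullback.of_hasPullback _ _
  rw [← fiberMap_toSpec] at h2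
  exact (IsPullback.of_right h2.flip (fiberMap_fiberι f g s) h1.flip).flip

include w₁ in
lemma fiberMap_fibIncl : MoreMor.fiberMap f' g' s' ≫ fibIncl g g' j k w₂ s' =
    fibIncl (f ≫ g) (f' ≫ g') i k w s' ≫ MoreMor.fiberMap f g (k s') := by
  apply pullback.hom_ext
  · change _ ≫ g.fiberι (k s') = _ ≫ g.fiberι (k s')
    rw [Category.assoc, Category.assoc, fibIncl_fiberι, fiberMap_fiberι, ← Category.assoc,
      ← Category.assoc, fibIncl_fiberι, fiberMap_fiberι, Category.assoc, Category.assoc, w₁]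
  · change _ ≫ g.fiberToSpecResidueField (k s') = _ ≫ g.fiberToSpecResidueField (k s')
    rw [Category.assoc, Category.assoc, fibIncl_toSpec, fiberMap_toSpec, ← Category.assoc,
      fiberMap_toSpec, fibIncl_toSpec]

include w₁ in
lemma isPullback_fibIncl_fiberMap [IsOpenImmersion k] (H : IsPullback i f' f j) :
    IsPullback (fibIncl (f ≫ g) (f' ≫ g') i k w s') (MoreMor.fiberMap f' g' s')
      (MoreMor.fiberMap f g (k s')) (fibIncl g g' j k w₂ s') := by
  have h1 := isPullback_fibIncl g g' j k w₂ s'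
  have h2 := (isPullback_fibIncl (f ≫ g) (f' ≫ g') i k w s').paste_vert H
  rw [← fiberMap_fiberι, ← fiberMap_fiberι] at h2
  exact IsPullback.of_bot h2 (fiberMap_fibIncl f g f' g' i j k w₁ w₂ w s').symm h1

end

section

open CohqA.HOpen

/-- `H^n(W, O_X) = H^n(Z, O_Z)` for an open immersion `Z ⟶ X` with image `W`. -/
lemma subsingleton_HHon_iff {Z X : Scheme.{u}} (i : Z ⟶ X) [IsOpenImmersion i] (W : X.Opens)
    (hW : W = i ''ᵁ ⊤) (n : ℕ) :
    Subsingleton (Coh.HHon X (Coh.structureModule X) W n) ↔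
      Subsingleton (Coh.HH Z (Coh.structureModule Z) n) := by
  rw [← (HHonEquiv (Coh.structureModule X) W n).toEquiv.subsingleton_congr,
    (HHEquiv i (Coh.structureModule X) W hW n).toEquiv.subsingleton_congr]
  exact ⟨CohqA.DirectSum.subsingleton_of_iso (Scheme.Modules.restrictUnitIso i) n,
    CohqA.DirectSum.subsingleton_of_iso (Scheme.Modules.restrictUnitIso i).symm n⟩

/-- `H^n(V, O_Z) = H^n(i(V), O_X)` for an open immersion `i : Z ⟶ X` and an open `V` of `Z`. -/
lemma subsingleton_HHon_image_iff {Z X : Scheme.{u}} (i : Z ⟶ X) [IsOpenImmersion i] (V : Z.Opens)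
    (W : X.Opens) (hW : W = i ''ᵁ V) (n : ℕ) :
    Subsingleton (Coh.HHon X (Coh.structureModule X) W n) ↔
      Subsingleton (Coh.HHon Z (Coh.structureModule Z) V n) := by
  rw [subsingleton_HHon_iff V.ι V (by simp) n, subsingleton_HHon_iff (V.ι ≫ i) W (by
    rw [hW, Scheme.Hom.comp_image]; simp) n]

lemma isIso_appLE_of_isOpenImmersion {Z X : Scheme.{u}} (i : Z ⟶ X) [IsOpenImmersion i] (W : X.Opens)
    (V : Z.Opens) (hW : W = i ''ᵁ V) (e : V ≤ i ⁻¹ᵁ W) : IsIso (i.appLE W V e) := by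
  subst hW
  rw [← i.appIso_hom']
  infer_instance

/-- sections of `f` over `j(V)` and sections of the restriction. -/
lemma exists_iso_app {X Y X' Y' : Scheme.{u}} (f : X ⟶ Y) (f' : X' ⟶ Y') (i : X' ⟶ X) (j : Y' ⟶ Y)
    [IsOpenImmersion j] (H : IsPullback i f' f j) (V : Y'.Opens) (W : Y.Opens) (hW : W = j ''ᵁ V) :
    ∃ (a : Γ(Y, W) ⟶ Γ(Y', V)) (b : Γ(X, f ⁻¹ᵁ W) ⟶ Γ(X', f' ⁻¹ᵁ V)), IsIso a ∧ IsIso b ∧
      f.app W ≫ b = a ≫ f'.app V := by
  have hi : IsOpenImmersion i := MorphismProperty.of_isPullback (P := @IsOpenImmersion) H.flip ‹_›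
  have e1 : V ≤ j ⁻¹ᵁ W := by rw [hW, j.preimage_image_eq]
  have hWX : f ⁻¹ᵁ W = i ''ᵁ (f' ⁻¹ᵁ V) := by
    rw [hW]
    exact (IsOpenImmersion.image_preimage_eq_preimage_image_of_isPullback H.flip V).symm
  have e2 : f' ⁻¹ᵁ V ≤ i ⁻¹ᵁ (f ⁻¹ᵁ W) := by rw [hWX, i.preimage_image_eq]
  refine ⟨j.appLE W V e1, i.appLE (f ⁻¹ᵁ W) (f' ⁻¹ᵁ V) e2, isIso_appLE_of_isOpenImmersion j W V hW e1,
    isIso_appLE_of_isOpenImmersion i _ _ hWX e2, ?_⟩
  rw [Scheme.Hom.app_eq_appLE, Scheme.Hom.appLE_comp_appLE, Scheme.Hom.app_eq_appLE,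
    Scheme.Hom.appLE_comp_appLE]
  simp only [H.w]

end

end Groth.Agent.Flat2G.FibreRestrict
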