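import Mathlib.AlgebraicGeometry.AffineScheme

set_option autoImplicit false
universe u

open CategoryTheory CategoryTheory.Limits AlgebraicGeometry Opposite TopologicalSpace

namespace Groth.Agent.Flat2G.AffPrimes

variable {X : Scheme.{u}} {U : X.Opens} (hU : IsAffineOpen U)

/-- points of an affine open versus primes: specialization. -/
theorem primeIdealOf_le_iff (x y : X) (hx : x ∈ U) (hy : y ∈ U) :
    (hU.primeIdealOf ⟨x, hx⟩).asIdeal ≤ (hU.primeIdealOf ⟨y, hy⟩).asIdeal ↔ x ⤳ y := by
  rw [PrimeSpectrum.asIdeal_le_asIdeal, PrimeSpectrum.le_iff_specializes]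
  have h1 := hU.fromSpec_primeIdealOf ⟨x, hx⟩
  have h2 := hU.fromSpec_primeIdealOf ⟨y, hy⟩
  refine Iff.trans (hU.fromSpec.isOpenEmbedding.isInducing.specializes_iff).symm ?_
  rw [h1, h2]

theorem fromSpec_mem (p : PrimeSpectrum Γ(X, U)) : hU.fromSpec p ∈ U := by
  have : hU.fromSpec p ∈ Set.range hU.fromSpec := ⟨p, rfl⟩
  rwa [hU.range_fromSpec] at this

theorem primeIdealOf_fromSpec (p : PrimeSpectrum Γ(X, U)) :
    hU.primeIdealOf ⟨hU.fromSpec p, fromSpec_mem hU p⟩ = p := by
  apply hU.fromSpec.isOpenEmbedding.injective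
  exact hU.fromSpec_primeIdealOf _

theorem primeIdealOf_injective (x y : X) (hx : x ∈ U) (hy : y ∈ U)
    (h : (hU.primeIdealOf ⟨x, hx⟩).asIdeal = (hU.primeIdealOf ⟨y, hy⟩).asIdeal) : x = y := by
  have h1 := hU.fromSpec_primeIdealOf ⟨x, hx⟩
  have h2 := hU.fromSpec_primeIdealOf ⟨y, hy⟩
  rw [PrimeSpectrum.ext h] at h1
  exact h1.symm.trans h2

/-- a point which is generic in an irreducible component has no proper generization. -/
theorem eq_of_specializes_of_isGenericPoint {T : Type*} [TopologicalSpace T] [T0Space T] {C : Set T}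
    (hC : C ∈ irreducibleComponents T) {x z : T} (hx : IsGenericPoint x C) (h : z ⤳ x) : z = x := by
  have h1 : C ⊆ closure {z} := by
    rw [← hx.def]
    exact closure_minimal (by simpa using h.mem_closure) isClosed_closure
  have h2 : closure {z} ⊆ C := hC.2 isIrreducible_singleton.closure h1
  have h3 : x ⤳ z := by
    rw [specializes_iff_mem_closure, hx.def]
    exact h2 (subset_closure rfl)
  exact (h.antisymm h3).eq

end Groth.Agent.Flat2G.AffPrimes
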