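import Groth.Agent.Flat2G.StratBase
import Groth.Agent.Ega1.ReducedSub
import Mathlib.AlgebraicGeometry.Noetherian

/-!
# Smooth stratifications over perfect fields

A quasi-compact scheme locally of finite type over a perfect field has a smooth stratification.
-/

set_option autoImplicit false
universe u

open AlgebraicGeometry CategoryTheory Limits TopologicalSpace

namespace Groth.Agent.Flat2G.StratPerfect

open Groth.Agent.Flat2G.StratBase Groth.Agent.Ega1.ReducedSub

variable {X Y : Scheme.{u}}

/-- The complement, in `X`, of the smooth locus of the reduced closed subscheme on `Z`, inside `Z`. -/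
noncomputable def nextClosed (f : X ⟶ Y) [IsLocallyNoetherian Y] [LocallyOfFiniteType f] (Z : Closeds X) :
    Closeds X :=
  ⟨(Scheme.IdealSheafData.vanishingIdeal Z).subschemeι ''
    (((Scheme.IdealSheafData.vanishingIdeal Z).subschemeι ≫ f).smoothLocus : Set _)ᶜ,
    (Scheme.IdealSheafData.vanishingIdeal Z).subschemeι.isClosedEmbedding.isClosedMap _
      (((Scheme.IdealSheafData.vanishingIdeal Z).subschemeι ≫ f).smoothLocus.isOpen.isClosed_compl)⟩

lemma nextClosed_le (f : X ⟶ Y) [IsLocallyNoetherian Y] [LocallyOfFiniteType f] (Z : Closeds X) :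
    nextClosed f Z ≤ Z := by
  rintro _ ⟨z, -, rfl⟩
  have : (Scheme.IdealSheafData.vanishingIdeal Z).subschemeι z ∈
      Set.range (Scheme.IdealSheafData.vanishingIdeal Z).subschemeι := ⟨z, rfl⟩
  rw [Scheme.IdealSheafData.range_subschemeι, Scheme.IdealSheafData.coe_support_vanishingIdeal] at this
  exact this

lemma smooth_strat (f : X ⟶ Y) [IsLocallyNoetherian Y] [LocallyOfFiniteType f] (Z : Closeds X) :
    Smooth (stratι (Scheme.IdealSheafData.vanishingIdeal Z)
      (Scheme.IdealSheafData.vanishingIdeal (nextClosed f Z)) ≫ f) := by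
  set I := Scheme.IdealSheafData.vanishingIdeal Z with hI
  rw [Category.assoc, ← Scheme.Hom.smoothLocus_eq_top_iff, ← Scheme.Hom.preimage_smoothLocus_eq,
    ← top_le_iff]
  rintro x -
  change ((I.subschemeι ⁻¹ᵁ _).ι x) ∈ (I.subschemeι ≫ f).smoothLocus
  by_contra h
  have h2 : I.subschemeι ((I.subschemeι ⁻¹ᵁ
    (Scheme.IdealSheafData.vanishingIdeal (nextClosed f Z)).support.compl).ι x) ∈ nextClosed f Z :=
    ⟨_, h, rfl⟩
  have h3 := x.2
  apply h3
  rw [Scheme.IdealSheafData.coe_support_vanishingIdeal]
  exact h2

lemma eq_bot_of_nextClosed_eq {K : Type u} [Field K] [PerfectField K] (f : X ⟶ Spec (.of K))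
    [LocallyOfFiniteType f] (Z : Closeds X) (h : nextClosed f Z = Z) : Z = ⊥ := by
  have hred := isReduced_subscheme_vanishingIdeal Z
  have hsupp : ((Scheme.IdealSheafData.vanishingIdeal Z).support : Set X) = Z :=
    Scheme.IdealSheafData.coe_support_vanishingIdeal ..
  set I := Scheme.IdealSheafData.vanishingIdeal Z with hI
  have hd := (I.subschemeι ≫ f).dense_smoothLocus_of_perfectField
  have hempty : ((I.subschemeι ≫ f).smoothLocus : Set I.subscheme) = ∅ := by
    rw [Set.eq_empty_iff_forall_notMem]
    intro y hy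
    have h1 : I.subschemeι y ∈ Z := by
      have : I.subschemeι y ∈ Set.range I.subschemeι := ⟨y, rfl⟩
      rw [Scheme.IdealSheafData.range_subschemeι, hsupp] at this
      exact this
    rw [← h] at h1
    obtain ⟨y', hy', e⟩ := h1
    exact hy' (I.subschemeι.isClosedEmbedding.injective e ▸ hy)
  rw [hempty, dense_iff_closure_eq, closure_empty] at hd
  ext x
  constructor
  · intro hx
    have : x ∈ Set.range I.subschemeι := by
      rw [Scheme.IdealSheafData.range_subschemeι, hsupp]
      exact hx
    obtain ⟨y, -⟩ := this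
    have : y ∈ (∅ : Set I.subscheme) := hd ▸ Set.mem_univ y
    exact this.elim
  · exact fun h ↦ h.elim

/-- The decreasing chain of closed subsets. -/
noncomputable def chain (f : X ⟶ Y) [IsLocallyNoetherian Y] [LocallyOfFiniteType f] : ℕ → Closeds X
  | 0 => ⊤
  | n + 1 => nextClosed f (chain f n)

lemma chain_antitone (f : X ⟶ Y) [IsLocallyNoetherian Y] [LocallyOfFiniteType f] :
    Antitone (chain f) :=
  antitone_nat_of_succ_le fun n ↦ nextClosed_le f (chain f n)

/-- A quasi-compact scheme locally of finite type over a perfect field has a smooth stratification. -/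
theorem hasSmoothStrat_of_perfectField {K : Type u} [Field K] [PerfectField K] (f : X ⟶ Spec (.of K))
    [LocallyOfFiniteType f] [CompactSpace X] : HasSmoothStrat f := by
  have : IsNoetherian X := { __ := LocallyOfFiniteType.isLocallyNoetherian f }
  obtain ⟨t, ht⟩ : ∃ n, ∀ m, n ≤ m → chain f n = chain f m :=
    WellFoundedGT.monotone_chain_condition (α := (Closeds X)ᵒᵈ)
      ⟨fun n ↦ OrderDual.toDual (chain f n), fun _ _ h ↦ chain_antitone f h⟩
  have hbot : chain f t = ⊥ := eq_bot_of_nextClosed_eq f _ (ht (t + 1) t.le_succ).symm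
  refine ⟨t, fun i ↦ Scheme.IdealSheafData.vanishingIdeal (chain f i), ?_, ?_, ?_, ?_, ?_⟩
  · intro i j hij
    exact Scheme.IdealSheafData.vanishingIdeal_antimono (chain_antitone f hij)
  · simp [hbot]
  · simp [chain]
  · intro i O
    have : IsNoetherianRing Γ(X, O) := IsLocallyNoetherian.component_noetherian O
    exact (isNoetherianRing_iff_ideal_fg _).mp this _
  · intro i
    exact smooth_strat f (chain f i)

end Groth.Agent.Flat2G.StratPerfect
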