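import Groth.Agent.Flat2G.StratBase
import Groth.Agent.Flat2G.StratPerfect
import Mathlib.AlgebraicGeometry.Morphisms.Flat
import Mathlib.FieldTheory.PurelyInseparable.PerfectClosure
import Mathlib.FieldTheory.IsAlgClosed.AlgebraicClosure

/-!
# Smooth stratifications over a finite purely inseparable extension

A quasi-compact scheme locally of finite type over a field acquires a smooth stratification after a finite
purely inseparable extension of the field.
-/

set_option autoImplicit false
universe u

open AlgebraicGeometry CategoryTheory Limits TopologicalSpace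

namespace Groth.Agent.Flat2G.StratField

open Groth.Agent.Flat2G.StratBase Groth.Agent.Divis.IdealComap Groth.Agent.Divis.IdealFT

/-- A pushout of commutative rings is generated by the two images. -/
lemma mem_closure_of_isPushout {R A B C : CommRingCat.{u}} {f : R ⟶ A} {g : R ⟶ B} {h : A ⟶ C}
    {k : B ⟶ C} (H : IsPushout f g h k) (c : C) :
    c ∈ Subring.closure (Set.range h.hom ∪ Set.range k.hom) := by
  set T := Subring.closure (Set.range h.hom ∪ Set.range k.hom) with hT
  let h' : A ⟶ CommRingCat.of T := CommRingCat.ofHom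
    (h.hom.codRestrict T fun a ↦ Subring.subset_closure (Or.inl ⟨a, rfl⟩))
  let k' : B ⟶ CommRingCat.of T := CommRingCat.ofHom
    (k.hom.codRestrict T fun b ↦ Subring.subset_closure (Or.inr ⟨b, rfl⟩))
  let ι : CommRingCat.of T ⟶ C := CommRingCat.ofHom T.subtype
  have hh : h' ≫ ι = h := by ext; rfl
  have hk : k' ≫ ι = k := by ext; rfl
  have hw : f ≫ h' = g ≫ k' := by
    ext x
    exact congr(($H.w).hom x)
  have hs : H.desc h' k' hw ≫ ι = 𝟙 C := by
    apply H.hom_ext
    · simp [hh]
    · simp [hk]
  have := congr(($hs).hom c)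
  change ((H.desc h' k' hw).hom c).1 = c at this
  rw [← this]
  exact ((H.desc h' k' hw).hom c).2

variable {X Y : Scheme.{u}}

/-- If an ideal sheaf on the source of an affine morphism `p` is generated on an affine cover by sections from
the target, then it is the inverse image of its direct image. -/
lemma comap_map_eq (J : Y.IdealSheafData) (p : Y ⟶ X) [QuasiCompact p] {ι : Type*} (U : ι → X.affineOpens)
    (V : ι → Y.affineOpens) (hV : ∀ i, (V i).1 = p ⁻¹ᵁ (U i).1) (hcov : ⨆ i, (V i).1 = ⊤)
    (h : ∀ i, J.ideal (V i) ≤ Ideal.span {b | b ∈ J.ideal (V i) ∧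
      b ∈ Set.range (p.appLE (U i).1 (V i).1 (hV i).le).hom}) :
    (J.map p).comap p = J := by
  apply le_antisymm (Scheme.IdealSheafData.comap_map_le _ _)
  refine Scheme.IdealSheafData.le_of_iSup_eq_top V hcov fun i ↦ (h i).trans ?_
  rw [ideal_comap _ p (U i) (V i) (hV i).le, Ideal.span_le]
  rintro _ ⟨hb, a, rfl⟩
  refine Ideal.mem_map_of_mem _ ?_
  rw [mem_ideal_map_iff]
  intro V' e
  have e' : V'.1 ≤ (V i).1 := (hV i) ▸ e
  have h2 : (p.appLE (U i).1 V'.1 e).hom a =
      (Y.presheaf.map (homOfLE e').op).hom ((p.appLE (U i).1 (V i).1 (hV i).le).hom a) := by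
    rw [← RingHom.comp_apply, ← CommRingCat.hom_comp, Scheme.Hom.appLE_map]
  rw [h2, ← J.map_ideal (U := V') (V := V i) e']
  exact Ideal.mem_map_of_mem _ hb

/-- A quasi-compact scheme has a finite affine open cover. -/
lemma exists_finset_affine_cover (X : Scheme.{u}) [CompactSpace X] :
    ∃ s : Finset X.affineOpens, ⨆ U : s, (U.1.1 : X.Opens) = ⊤ := by
  obtain ⟨s, hs⟩ := isCompact_univ.elim_finite_subcover (fun U : X.affineOpens ↦ (U.1 : Set X))
    (fun U ↦ U.1.isOpen) (by
      intro x _
      obtain ⟨U, hU, hxU, -⟩ := exists_isAffineOpen_mem_and_subset (U := ⊤) (x := x) trivial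
      exact Set.mem_iUnion.mpr ⟨⟨U, hU⟩, hxU⟩)
  refine ⟨s, ?_⟩
  rw [← top_le_iff]
  intro x hx
  obtain ⟨U, hU, hxU⟩ := Set.mem_iUnion₂.mp (hs (Set.mem_univ x))
  exact Opens.mem_iSup.mpr ⟨⟨U, hU⟩, hxU⟩

section Field

variable {K : Type u} [Field K] {P : Type u} [Field P] [Algebra K P]

/-- The morphism `Spec L ⟶ Spec K` of an intermediate field. -/
noncomputable abbrev specK (L : IntermediateField K P) : Spec (CommRingCat.of L) ⟶ Spec (CommRingCat.of K) :=
  Spec.map (CommRingCat.ofHom (algebraMap K L))

variable (K P) in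
/-- The morphism `Spec P ⟶ Spec K`. -/
noncomputable abbrev specKP : Spec (CommRingCat.of P) ⟶ Spec (CommRingCat.of K) :=
  Spec.map (CommRingCat.ofHom (algebraMap K P))

/-- The morphism `Spec P ⟶ Spec L`. -/
noncomputable abbrev specL (L : IntermediateField K P) : Spec (CommRingCat.of P) ⟶ Spec (CommRingCat.of L) :=
  Spec.map (CommRingCat.ofHom (algebraMap L P))

lemma specL_specK (L : IntermediateField K P) : specL L ≫ specK L = specKP K P := by
  rw [← Spec.map_comp]
  rfl

variable {Z : Scheme.{u}} (f : Z ⟶ Spec (CommRingCat.of K))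

/-- The transition morphism `Z_P ⟶ Z_L`. -/
noncomputable def trans (L : IntermediateField K P) :
    pullback f (specKP K P) ⟶ pullback f (specK L) :=
  pullback.lift (pullback.fst _ _) (pullback.snd _ _ ≫ specL L) (by
    rw [Category.assoc, specL_specK, pullback.condition])

@[reassoc (attr := simp)]
lemma trans_fst (L : IntermediateField K P) : trans f L ≫ pullback.fst _ _ = pullback.fst _ _ :=
  pullback.lift_fst _ _ _

@[reassoc (attr := simp)]
lemma trans_snd (L : IntermediateField K P) :
    trans f L ≫ pullback.snd _ _ = pullback.snd _ _ ≫ specL L :=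
  pullback.lift_snd _ _ _

lemma isPullback_trans (L : IntermediateField K P) :
    IsPullback (trans f L) (pullback.snd _ _) (pullback.snd _ _) (specL L) := by
  have h1 : IsPullback (trans f L ≫ pullback.fst _ _) (pullback.snd f (specKP K P)) f
      (specL L ≫ specK L) := by
    rw [trans_fst, specL_specK]
    exact .of_hasPullback _ _
  exact (IsPullback.of_right h1 (trans_snd f L) (.of_hasPullback _ _))

/-- The inverse image of `O` in `Z_L`. -/
noncomputable abbrev opL (L : IntermediateField K P) (O : Z.Opens) : (pullback f (specK L)).Opens :=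
  pullback.fst f (specK L) ⁻¹ᵁ O

variable (P) in
/-- The inverse image of `O` in `Z_P`. -/
noncomputable abbrev opP (O : Z.Opens) : (pullback f (specKP K P)).Opens :=
  pullback.fst f (specKP K P) ⁻¹ᵁ O

lemma opP_eq (L : IntermediateField K P) (O : Z.Opens) : opP P f O = trans f L ⁻¹ᵁ (opL f L O) := by
  rw [← Scheme.Hom.comp_preimage, trans_fst]

/-- Every section over `O_P` comes from `O_L` for all large `L`. -/
lemma exists_finset_mem_range (O : Z.Opens) (hO : IsAffineOpen O) (b : Γ(pullback f (specKP K P), opP P f O)) :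
    ∃ s : Finset P, ∀ L : IntermediateField K P, (s : Set P) ⊆ L →
      b ∈ Set.range ((trans f L).appLE (opL f L O) (opP P f O) (opP_eq f L O).le).hom := by
  classical
  have H := IsPullback.of_hasPullback f (specKP K P)
  have hUY : opP P f O = pullback.fst f (specKP K P) ⁻¹ᵁ O ⊓ pullback.snd f (specKP K P) ⁻¹ᵁ ⊤ := by simp
  have h1 := (isIso_pushoutSection_iff ..).mp
    (isIso_pushoutSection_of_isAffineOpen H (US := ⊤) (UT := ⊤) (UX := O) (by simp) (by simp) hUY
    (isAffineOpen_top _) (isAffineOpen_top _) hO)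
  have hb := mem_closure_of_isPushout h1 b
  induction hb using Subring.closure_induction with
  | mem x hx =>
    rcases hx with ⟨a, rfl⟩ | ⟨c, rfl⟩
    · refine ⟨∅, fun L _ ↦ ⟨((pullback.fst f (specK L)).appLE O (opL f L O) le_rfl).hom a, ?_⟩⟩
      rw [← RingHom.comp_apply, ← CommRingCat.hom_comp, Scheme.Hom.appLE_comp_appLE]
      congr 2
      simp only [trans_fst]
    · refine ⟨{(Scheme.ΓSpecIso (CommRingCat.of P)).hom.hom c}, fun L hL ↦ ?_⟩
      simp only [Finset.coe_singleton, Set.singleton_subset_iff, SetLike.mem_coe] at hL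
      let c' : L := ⟨_, hL⟩
      have hc : c = (specL L).appTop.hom ((Scheme.ΓSpecIso (CommRingCat.of L)).inv.hom c') := by
        have h2 := Scheme.ΓSpecIso_inv_naturality (CommRingCat.ofHom (algebraMap L P))
        have h3 := congr(($h2).hom c')
        simp only [CommRingCat.hom_comp, RingHom.comp_apply] at h3
        rw [← h3]
        change c = (Scheme.ΓSpecIso (CommRingCat.of P)).inv.hom
          ((Scheme.ΓSpecIso (CommRingCat.of P)).hom.hom c)
        rw [← RingHom.comp_apply, ← CommRingCat.hom_comp, Iso.hom_inv_id]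
        rfl
      have e1 : opL f L O ≤ pullback.snd f (specK L) ⁻¹ᵁ ⊤ := le_top
      have e3 : opP P f O ≤ pullback.snd f (specKP K P) ⁻¹ᵁ ⊤ := le_top
      have e4 : (⊤ : (Spec (CommRingCat.of P)).Opens) ≤ specL L ⁻¹ᵁ ⊤ := le_top
      have key : (pullback.snd f (specK L)).appLE ⊤ (opL f L O) e1 ≫
          (trans f L).appLE (opL f L O) (opP P f O) (opP_eq f L O).le =
          (specL L).appLE ⊤ ⊤ e4 ≫ (pullback.snd f (specKP K P)).appLE ⊤ (opP P f O) e3 := by
        rw [Scheme.Hom.appLE_comp_appLE, Scheme.Hom.appLE_comp_appLE]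
        congr 1
        simp only [trans_snd]
      refine ⟨((pullback.snd f (specK L)).appLE ⊤ (opL f L O) e1).hom
        ((Scheme.ΓSpecIso (CommRingCat.of L)).inv.hom c'), ?_⟩
      have key2 := congr(($key).hom ((Scheme.ΓSpecIso (CommRingCat.of L)).inv.hom c'))
      simp only [CommRingCat.hom_comp, RingHom.comp_apply] at key2
      rw [key2, hc, Scheme.Hom.appTop, ← Scheme.Hom.appLE_eq_app]
      rfl
  | zero => exact ⟨∅, fun L _ ↦ ⟨0, map_zero _⟩⟩
  | one => exact ⟨∅, fun L _ ↦ ⟨1, map_one _⟩⟩
  | add x y _ _ hx hy =>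
    obtain ⟨s, hs⟩ := hx
    obtain ⟨t, ht⟩ := hy
    refine ⟨s ∪ t, fun L hL ↦ ?_⟩
    rw [Finset.coe_union, Set.union_subset_iff] at hL
    obtain ⟨a, ha⟩ := hs L hL.1
    obtain ⟨b, hb⟩ := ht L hL.2
    exact ⟨a + b, by rw [map_add, ha, hb]⟩
  | neg x _ hx =>
    obtain ⟨s, hs⟩ := hx
    refine ⟨s, fun L hL ↦ ?_⟩
    obtain ⟨a, ha⟩ := hs L hL
    exact ⟨-a, by rw [map_neg, ha]⟩
  | mul x y _ _ hx hy =>
    obtain ⟨s, hs⟩ := hx
    obtain ⟨t, ht⟩ := hy
    refine ⟨s ∪ t, fun L hL ↦ ?_⟩
    rw [Finset.coe_union, Set.union_subset_iff] at hL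
    obtain ⟨a, ha⟩ := hs L hL.1
    obtain ⟨b, hb⟩ := ht L hL.2
    exact ⟨a * b, by rw [map_mul, ha, hb]⟩

/-- Ideals on affine opens of `Z_P` of finite type are generated by sections over `Z_L` for large `L`. -/
lemma exists_finset_le_span (O : Z.affineOpens) (V : (pullback f (specKP K P)).affineOpens) (hV : V.1 = opP P f O.1)
    (I : Ideal Γ(pullback f (specKP K P), V)) (hI : I.FG) :
    ∃ s : Finset P, ∀ L : IntermediateField K P, (s : Set P) ⊆ L →
      I ≤ Ideal.span {b | b ∈ I ∧ b ∈ Set.range ((trans f L).appLE (opL f L O.1) V.1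
        (hV.trans (opP_eq f L O.1)).le).hom} := by
  classical
  obtain ⟨V, hV'⟩ := V
  obtain rfl : V = opP P f O.1 := hV
  obtain ⟨T, rfl⟩ := hI
  choose s hs using exists_finset_mem_range (P := P) f O.1 O.2
  refine ⟨T.biUnion s, fun L hL ↦ ?_⟩
  rw [Ideal.span_le]
  intro b hb
  refine Ideal.subset_span ⟨Ideal.subset_span hb, hs b L (subset_trans ?_ hL)⟩
  rw [Finset.coe_subset]
  exact Finset.subset_biUnion_of_mem s hb

/-- A quasi-compact scheme locally of finite type over `K` has a smooth stratification over a finite subextension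
of a perfect algebraic extension. -/
theorem exists_finite_hasSmoothStrat [PerfectField P] [Algebra.IsAlgebraic K P] [LocallyOfFiniteType f]
    [CompactSpace Z] :
    ∃ L : IntermediateField K P, FiniteDimensional K L ∧ HasSmoothStrat (pullback.snd f (specK L)) := by
  classical
  obtain ⟨t, J, hmono, hlast, hsupp, hfg, hsm⟩ :=
    StratPerfect.hasSmoothStrat_of_perfectField (pullback.snd f (specKP K P))
  obtain ⟨U, hU⟩ := exists_finset_affine_cover Z
  have ha1 : IsAffineHom (pullback.fst f (specKP K P)) := MorphismProperty.pullback_fst _ _ inferInstance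
  have ha2 (L : IntermediateField K P) : IsAffineHom (pullback.fst f (specK L)) :=
    MorphismProperty.pullback_fst _ _ inferInstance
  let V : U → (pullback f (specKP K P)).affineOpens := fun k ↦
    ⟨opP P f k.1.1, k.1.2.preimage (pullback.fst f (specKP K P))⟩
  choose s hs using fun (i : Fin (t + 1)) (k : U) ↦
    exists_finset_le_span f k.1 (V k) rfl ((J i).ideal (V k)) (hfg i (V k))
  let S : Finset P := Finset.univ.biUnion fun i ↦ Finset.univ.biUnion fun k ↦ s i k
  let L : IntermediateField K P := IntermediateField.adjoin K (S : Set P)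
  have hL : (S : Set P) ⊆ L := IntermediateField.subset_adjoin K _
  have hfd : FiniteDimensional K L := IntermediateField.finiteDimensional_adjoin
    fun x _ ↦ (Algebra.IsAlgebraic.isAlgebraic x).isIntegral
  have hcomap : ∀ i, ((J i).map (trans f L)).comap (trans f L) = J i := by
    intro i
    refine comap_map_eq (J i) (trans f L)
      (fun k : U ↦ ⟨opL f L k.1.1, k.1.2.preimage (pullback.fst f (specK L))⟩) V
      (fun k ↦ opP_eq f L k.1.1) ?_ ?_
    · rw [← top_le_iff]
      intro x _
      have hx := hU.ge (show pullback.fst f (specKP K P) x ∈ (⊤ : Z.Opens) from trivial)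
      obtain ⟨k, hk⟩ := Opens.mem_iSup.mp hx
      exact Opens.mem_iSup.mpr ⟨k, hk⟩
    · intro k
      refine hs i k L (subset_trans ?_ hL)
      rw [Finset.coe_subset]
      exact (Finset.subset_biUnion_of_mem (fun k ↦ s i k) (Finset.mem_univ k)).trans
        (Finset.subset_biUnion_of_mem (fun i ↦ Finset.univ.biUnion fun k ↦ s i k) (Finset.mem_univ i))
  have hff : Flat (specL L) ∧ Surjective (specL L) := by
    rw [flat_and_surjective_SpecMap_iff]
    change (algebraMap L P).FaithfullyFlat
    rw [RingHom.faithfullyFlat_algebraMap_iff]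
    infer_instance
  have hsurj : Function.Surjective (trans f L) := by
    have : Surjective (trans f L) := MorphismProperty.of_isPullback (isPullback_trans f L).flip hff.2
    exact this.surj
  refine ⟨L, hfd, t, fun i ↦ (J i).map (trans f L),
    fun i j hij ↦ Scheme.IdealSheafData.map_mono _ (hmono hij), ?_, ?_, ?_, ?_⟩
  · change (J (Fin.last t)).map _ = ⊤
    rw [hlast, Scheme.IdealSheafData.map_top]
  · change (((J 0).map (trans f L)).support : Set ↥(pullback f (specK L))) = _
    rw [Scheme.IdealSheafData.support_map]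
    change closure ((trans f L) '' ((J 0).support : Set _)) = _
    rw [hsupp, Set.image_univ, hsurj.range_eq, closure_univ]
  · intro i O
    have : IsLocallyNoetherian (pullback f (specK L)) := inferInstance
    have : IsNoetherianRing Γ(pullback f (specK L), O) := IsLocallyNoetherian.component_noetherian O
    exact (isNoetherianRing_iff_ideal_fg _).mp this _
  · intro i
    obtain ⟨g, hg⟩ := exists_isPullback_strat_base (isPullback_trans f L) ((J i.castSucc).map (trans f L))
      ((J i.succ).map (trans f L))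
    refine MorphismProperty.of_isPullback_of_descendsAlong (P := @Smooth)
      (Q := @Surjective ⊓ @Flat ⊓ @QuasiCompact) hg.flip ⟨⟨?_, ?_⟩, ?_⟩ ?_
    · exact hff.2
    · exact hff.1
    · exact (inferInstance : QuasiCompact (specL L))
    · rw [hcomap, hcomap]
      exact hsm i

end Field

end Groth.Agent.Flat2G.StratField
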