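import Mathlib.AlgebraicGeometry.AffineTransitionLimit
import Mathlib.AlgebraicGeometry.Noetherian
import Groth.Agent.Flat2G.ProperDim
import Groth.Agent.S0590
import Groth.Agent.S2079
import Groth.Agent.FlatA.ProperApprox

/-!
Approximation of a proper morphism with fibres of dimension `≤ d` by proper morphisms of finite type over `ℤ` with
fibres of dimension `≤ d`.
-/

set_option autoImplicit false
universe u v w

namespace Groth.Agent.Flat2G.ProperApprox

open AlgebraicGeometry CategoryTheory Limits TopologicalSpace ProperDim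

section Cat

variable {C : Type u} [Category.{v} C] {I : Type w} [SmallCategory I]
  {D DX DS : I ⥤ C} {φ : DX ⟶ DS} {T : C} {g : ∀ i, T ⟶ DS.obj i}
  {pX : D ⟶ DX} {qT : ∀ i, D.obj i ⟶ T} (hqT : ∀ (i j : I) (a : i ⟶ j), D.map a ≫ qT j = qT i)
  (hD : ∀ i, IsPullback (pX.app i) (qT i) (φ.app i) (g i))
  {cX : Cone DX} {cS : Cone DS} (hcX : IsLimit cX) (hcS : IsLimit cS)
  {f : cX.pt ⟶ cS.pt} {t : T ⟶ cS.pt}
  (hf : ∀ i, cX.π.app i ≫ φ.app i = f ≫ cS.π.app i)
  (hg : ∀ i, g i = t ≫ cS.π.app i)

include hcX hcS hf hg hD hqT in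
/-- The limit of the base changes is the base change of the limit. -/
theorem nonempty_isLimit_bc [IsCofiltered I] {cD : Cone D} {p : cD.pt ⟶ cX.pt} {q : cD.pt ⟶ T} (hP : IsPullback p q f t)
    (hp : ∀ i, cD.π.app i ≫ pX.app i = p ≫ cX.π.app i) (hq : ∀ i, cD.π.app i ≫ qT i = q) : Nonempty (IsLimit cD) := by
  obtain ⟨i₀⟩ := IsCofiltered.nonempty (C := I)
  have hsnd : ∀ (s : Cone D) (i : I), s.π.app i ≫ qT i = s.π.app i₀ ≫ qT i₀ := by
    intro s i
    have h1 : ∀ {i j : I} (a : i ⟶ j), s.π.app i ≫ qT i = s.π.app j ≫ qT j := by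
      intro i j a
      rw [← s.w a, Category.assoc, hqT]
    rw [← h1 (IsCofiltered.minToLeft i i₀), h1 (IsCofiltered.minToRight i i₀)]
  let sX (s : Cone D) : Cone DX := (Cone.postcompose pX).obj s
  have hsX : ∀ s i, hcX.lift (sX s) ≫ cX.π.app i = s.π.app i ≫ pX.app i :=
    fun s i => hcX.fac (sX s) i
  have hw : ∀ s : Cone D, hcX.lift (sX s) ≫ f = (s.π.app i₀ ≫ qT i₀) ≫ t := by
    intro s
    apply hcS.hom_ext
    intro i
    rw [Category.assoc, ← hf, reassoc_of% (hsX s i), (hD i).w, reassoc_of% (hsnd s i), hg, Category.assoc,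
      Category.assoc]
  refine ⟨{ lift := fun s => hP.lift (hcX.lift (sX s)) (s.π.app i₀ ≫ qT i₀) (hw s),
            fac := ?_, uniq := ?_ }⟩
  · intro s i
    apply (hD i).hom_ext
    · rw [Category.assoc, hp, hP.lift_fst_assoc, hsX]
    · rw [Category.assoc, hq, hP.lift_snd]
      exact (hsnd s i).symm
  · intro s m hm
    apply hP.hom_ext
    · rw [hP.lift_fst]
      apply hcX.hom_ext
      intro i
      rw [hsX, ← hm i, Category.assoc, Category.assoc, hp]
    · rw [hP.lift_snd, ← hm i₀, Category.assoc, hq]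

include hD hf hg hqT in
theorem exists_cone {P : C} {p : P ⟶ cX.pt} {q : P ⟶ T} (hP : IsPullback p q f t) :
    ∃ (cD : Cone D) (p' : cD.pt ⟶ cX.pt) (q' : cD.pt ⟶ T) (e : cD.pt ≅ P), e.hom ≫ p = p' ∧ e.hom ≫ q = q' ∧
    (∀ i, cD.π.app i ≫ pX.app i = p' ≫ cX.π.app i) ∧ (∀ i, cD.π.app i ≫ qT i = q') := by
  have w : ∀ i, (p ≫ cX.π.app i) ≫ φ.app i = q ≫ g i := by
    intro i
    rw [Category.assoc, hf, hg]
    exact hP.w_assoc _
  refine ⟨{ pt := P, π := { app i := (hD i).lift (p ≫ cX.π.app i) q (w i), naturality i j a := ?_ } }, p, q,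
    Iso.refl _, Category.id_comp _, Category.id_comp _, fun i => (hD i).lift_fst _ _ _, fun i => (hD i).lift_snd _ _ _⟩
  rw [Functor.const_obj_map]
  refine (Category.id_comp _).trans ?_
  apply (hD j).hom_ext
  · rw [Category.assoc, pX.naturality, IsPullback.lift_fst, IsPullback.lift_fst_assoc, Category.assoc, cX.w]
  · rw [Category.assoc, hqT, IsPullback.lift_snd, IsPullback.lift_snd]

end Cat

/-- Topological core: if the image of `G ⟶ G'` is contained in the closed image of the integral `Z ⟶ G'`, then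
`dim G ≤ dim Z`. -/
theorem topologicalKrullDim_le_of_range_subset {G G' Z : Scheme.{u}} (a : G ⟶ G') (b : Z ⟶ G') [IsIntegralHom a]
    [IsIntegralHom b] (h : Set.range a ⊆ Set.range b) : topologicalKrullDim G ≤ topologicalKrullDim Z := by
  have hcl : IsClosed (Set.range b) := b.isClosedMap.isClosed_range
  have : QuasiSober (Set.range b) := hcl.isClosedEmbedding_subtypeVal.quasiSober
  have h1 : topologicalKrullDim G ≤ topologicalKrullDim (Set.range b) := by
    refine Desc.DimMap.topologicalKrullDim_le_of_fibres (fun x : G => (⟨a x, h ⟨x, rfl⟩⟩ : Set.range b))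
      (a.continuous.subtype_mk _) ?_
    intro x y hxy he
    exact Sga3C.DimTop.eq_of_specializes_of_isIntegralHom a x y hxy (congrArg Subtype.val he)
  have h2 : topologicalKrullDim Z = topologicalKrullDim (Set.range b) := by
    refine Sga3C.DimTop.topologicalKrullDim_eq_of_closedMap (Set.rangeFactorization b)
      (b.continuous.subtype_mk _) ?_ Set.rangeFactorization_surjective ?_
    · have : IsClosedMap (Subtype.val ∘ Set.rangeFactorization b) := b.isClosedMap
      exact this.codRestrict (s := Set.range b) (fun x => ⟨x, rfl⟩)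
    · intro x y hxy he
      exact Sga3C.DimTop.eq_of_specializes_of_isIntegralHom b x y hxy (congrArg Subtype.val he)
  rw [h2]
  exact h1

section Main

variable {I : Type u} [SmallCategory I] [IsCofiltered I] {DX DS : I ⥤ Scheme.{u}} (φ : DX ⟶ DS)
  {cX : Cone DX} {cS : Cone DS} (hcX : IsLimit cX) (hcS : IsLimit cS)
  (haX : ∀ (i j : I) (a : i ⟶ j), IsAffineHom (DX.map a)) (haS : ∀ (i j : I) (a : i ⟶ j), IsAffineHom (DS.map a))
  (hφ : ∀ i, IsProper (φ.app i))
  (f : cX.pt ⟶ cS.pt) (hf : ∀ i, cX.π.app i ≫ φ.app i = f ≫ cS.π.app i) [IsProper f]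

include hcX hcS haX haS hφ hf in
/-- For every point `y` of the limit, some stage has fibre of dimension `≤` the dimension of the fibre over `y`. -/
theorem exists_stage_fiber (y : cS.pt) :
    ∃ j : I, topologicalKrullDim ((φ.app j).fiber (cS.π.app j y)) ≤ topologicalKrullDim (f.fiber y) := by
  let t : Spec (cS.pt.residueField y) ⟶ cS.pt := cS.pt.fromSpecResidueField y
  let g : (Functor.const I).obj (Spec (cS.pt.residueField y)) ⟶ DS :=
    { app i := t ≫ cS.π.app i
      naturality i j a := by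
        rw [Category.assoc, cS.w]
        exact Category.id_comp _ }
  let D : I ⥤ Scheme.{u} := pullback φ g
  let pX : D ⟶ DX := pullback.fst φ g
  let qT (i : I) : D.obj i ⟶ Spec (cS.pt.residueField y) := (pullback.snd φ g).app i
  have hqT : ∀ (i j : I) (a : i ⟶ j), D.map a ≫ qT j = qT i := fun i j a =>
    ((pullback.snd φ g).naturality a).trans (Category.comp_id _)
  have hD : ∀ i, IsPullback (pX.app i) (qT i) (φ.app i) (g.app i) := fun i =>
    (IsPullback.of_hasPullback φ g).map ((evaluation I Scheme.{u}).obj i)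
  have hP := IsPullback.of_hasPullback f t
  obtain ⟨cD, p, q, e, hp1, hq1, hp, hq⟩ := exists_cone (g := fun i => g.app i) hqT hD hf (fun i => rfl) hP
  have hP' : IsPullback p q f t := IsPullback.of_iso hP e.symm (Iso.refl _) (Iso.refl _) (Iso.refl _)
    (by rw [← hp1, Iso.symm_hom, Iso.inv_hom_id_assoc]; exact Category.comp_id _)
    (by rw [← hq1, Iso.symm_hom, Iso.inv_hom_id_assoc]; exact Category.comp_id _)
    ((Category.comp_id _).trans (Category.id_comp _).symm) ((Category.comp_id _).trans (Category.id_comp _).symm)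
  obtain ⟨hcD⟩ := nonempty_isLimit_bc (g := fun i => g.app i) hqT hD hcX hcS hf (fun i => rfl) hP' hp hq
  obtain ⟨i⟩ := IsCofiltered.nonempty (C := I)
  have haX' : ∀ {i j : I} (a : i ⟶ j), IsAffineHom (DX.map a) := fun a => haX _ _ a
  have haS' : ∀ {i j : I} (a : i ⟶ j), IsAffineHom (DS.map a) := fun a => haS _ _ a
  have hfin : ∀ {i j : I} (a : i ⟶ j), IsFinite (D.map a) := by
    intro i j a
    have e1 : g.app i ≫ DS.map a = g.app j := (g.naturality a).symm.trans (Category.id_comp _)
    have h2 : IsPullback (pX.app j) (qT j) (φ.app j) (g.app i ≫ DS.map a) := by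
      rw [e1]
      exact hD j
    exact isFinite_of_isPullback (DX.map a) (φ.app i) (φ.app j) (DS.map a) (φ.naturality a) (g.app i) (hD i)
      h2 (D.map a) (pX.naturality a) (hqT i j a)
  have hfin2 : ∀ i : I, IsFinite (cD.π.app i) := by
    intro i
    have h1 : IsAffineHom (cX.π.app i) := isAffineHom_π_app _ _ hcX i
    have h2 : IsAffineHom (cS.π.app i) := isAffineHom_π_app _ _ hcS i
    exact isFinite_of_isPullback (cX.π.app i) f (φ.app i) (cS.π.app i) (hf i) t hP' (hD i) (cD.π.app i) (hp i) (hq i)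
  have hnoeth : ∀ i : I, IsNoetherian (D.obj i) := by
    intro i
    have : IsProper (qT i) := MorphismProperty.of_isPullback (P := @IsProper) (hD i) (hφ i)
    have h1 : IsLocallyNoetherian (D.obj i) := LocallyOfFiniteType.isLocallyNoetherian (qT i)
    have h2 : CompactSpace (D.obj i) := QuasiCompact.compactSpace_of_compactSpace (qT i)
    exact ⟨⟩
  -- the image of the fibre at stage `i`
  have hb := hfin2 i
  have hcl : IsClosed (Set.range (cD.π.app i)) := (cD.π.app i).isClosedMap.isClosed_range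
  let U : (D.obj i).Opens := ⟨(Set.range (cD.π.app i))ᶜ, hcl.isOpen_compl⟩
  have hUc : IsCompact (U : Set (D.obj i)) := by
    have := hnoeth i
    exact NoetherianSpace.isCompact _
  have haff : ∀ {i j : I} (a : i ⟶ j), IsAffineHom (D.map a) := by
    intro i j a
    have := hfin a
    infer_instance
  have hbot : cD.π.app i ⁻¹ᵁ U = cD.π.app i ⁻¹ᵁ ⊥ := by
    ext x
    constructor
    · intro hx
      exact (hx ⟨x, rfl⟩).elim
    · intro hx
      exact hx.elim
  obtain ⟨j, a, ha⟩ := exists_map_preimage_eq_map_preimage D cD hcD hUc isCompact_empty hbot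
  refine ⟨j, ?_⟩
  have h1 : Set.range (D.map a) ⊆ Set.range (cD.π.app i) := by
    rintro _ ⟨x, rfl⟩
    by_contra hx
    have h2 : x ∈ D.map a ⁻¹ᵁ U := hx
    rw [ha] at h2
    exact h2
  have h3 : IsFinite (D.map a) := hfin a
  have h4 := topologicalKrullDim_le_of_range_subset (D.map a) (cD.π.app i) h1
  have h5 : topologicalKrullDim cD.pt = topologicalKrullDim (f.fiber y) := S1464.topologicalKrullDim_eq_of_iso e
  let x : Spec (cS.pt.residueField y) := IsLocalRing.closedPoint (cS.pt.residueField y)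
  have := hφ j
  have h6 := topologicalKrullDim_field_point (φ.app j) (Field.toIsField (cS.pt.residueField y)) _ _ (g.app j) (hD j) x
  have h7 : g.app j x = cS.π.app j y := by
    change (t ≫ cS.π.app j) x = _
    rw [Scheme.Hom.comp_apply]
    exact congrArg _ (Scheme.fromSpecResidueField_apply y x)
  rw [h7] at h6
  rw [← h5, ← h6]
  exact h4

omit [IsCofiltered I] in
include haX haS hφ in
theorem preimage_dimLocus_le (d : ℕ) {i k : I} (a : k ⟶ i) :
    have := hφ
    DS.map a ⁻¹ᵁ dimLocus (φ.app i) d ≤ dimLocus (φ.app k) d := by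
  intro _ s hs
  have h1 : IsAffineHom (DX.map a) := haX _ _ a
  have h2 : IsAffineHom (DS.map a) := haS _ _ a
  exact (topologicalKrullDim_fiber_le (DX.map a) (φ.app k) (φ.app i) (DS.map a) (φ.naturality a) s).trans hs

include hcX hcS haX haS hφ hf in
/-- If all fibres of the limit have dimension `≤ d`, then this holds at all late stages. -/
theorem exists_stage [CompactSpace cS.pt] (hc : ∀ i, CompactSpace (DS.obj i)) (d : ℕ)
    (hd : ∀ y, topologicalKrullDim (f.fiber y) ≤ d) :
    ∃ k : I, ∀ (l : I) (_ : l ⟶ k) (s : DS.obj l), topologicalKrullDim ((φ.app l).fiber s) ≤ d := by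
  have haX' : ∀ {i j : I} (a : i ⟶ j), IsAffineHom (DX.map a) := fun a => haX _ _ a
  have haS' : ∀ {i j : I} (a : i ⟶ j), IsAffineHom (DS.map a) := fun a => haS _ _ a
  let E (i : I) : (DS.obj i).Opens := dimLocus (φ.app i) d
  have hE : ∀ {i k : I} (a : k ⟶ i), DS.map a ⁻¹ᵁ E i ≤ E k := fun a => preimage_dimLocus_le φ haX haS hφ d a
  let W (i : I) : cS.pt.Opens := cS.π.app i ⁻¹ᵁ E i
  have hW : ∀ {i k : I} (_ : k ⟶ i), W i ≤ W k := by
    intro i k a x hx
    have h1 : cS.π.app k ≫ DS.map a = cS.π.app i := cS.w a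
    have h2 : DS.map a (cS.π.app k x) = cS.π.app i x := by
      rw [← Scheme.Hom.comp_apply, h1]
    refine hE a ?_
    change DS.map a (cS.π.app k x) ∈ E i
    rw [h2]
    exact hx
  have hcov : (Set.univ : Set cS.pt) ⊆ ⋃ i, (W i : Set cS.pt) := by
    intro y _
    obtain ⟨j, hj⟩ := exists_stage_fiber φ hcX hcS haX haS hφ f hf y
    exact Set.mem_iUnion.mpr ⟨j, hj.trans (hd y)⟩
  obtain ⟨t, ht⟩ := isCompact_univ.elim_finite_subcover (fun i => (W i : Set cS.pt)) (fun i => (W i).isOpen) hcov
  obtain ⟨k, hk⟩ := IsCofiltered.inf_objs_exists t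
  have hWk : W k = ⊤ := by
    rw [eq_top_iff]
    intro y _
    have := ht (Set.mem_univ y)
    simp only [Set.mem_iUnion] at this
    obtain ⟨i, hi, hy⟩ := this
    obtain ⟨a⟩ := hk hi
    exact hW a hy
  obtain ⟨j, a, ha⟩ := exists_map_eq_top DS cS hcS (E k) hWk
  have hEj : E j = ⊤ := top_le_iff.mp (ha.ge.trans (hE a))
  refine ⟨j, fun l b s => ?_⟩
  have h1 : s ∈ DS.map b ⁻¹ᵁ E j := by rw [hEj]; trivial
  exact hE b h1

end Main

/-- The constant cone is a limit cone over a cofiltered index category. -/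
def isLimitConst {C : Type u} [Category.{v} C] {K : Type w} [SmallCategory K] [IsCofiltered K] (S : C)
    (k₀ : K) : IsLimit (⟨S, 𝟙 _⟩ : Cone ((Functor.const K).obj S)) where
  lift s := s.π.app k₀
  fac s k := by
    have h1 : ∀ {i j : K} (a : i ⟶ j), s.π.app i = s.π.app j := by
      intro i j a
      have := s.w a
      rw [← this]
      exact (Category.comp_id _).symm
    have h2 : s.π.app k₀ = s.π.app k :=
      (h1 (IsCofiltered.minToLeft k₀ k)).symm.trans (h1 (IsCofiltered.minToRight k₀ k))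
    exact (Category.comp_id _).trans h2
  uniq s m hm := (Category.comp_id _).symm.trans (hm k₀)

/-- A proper morphism to a quasi-compact base with all fibres of dimension `≤ d` is a closed subscheme of a proper and
finitely presented one with this property. -/
theorem exists_finitePresentation {X S : Scheme.{u}} (f : X ⟶ S) [IsProper f] [CompactSpace S]
    [QuasiSeparatedSpace S] (d : ℕ) (hd : ∀ y, topologicalKrullDim (f.fiber y) ≤ d) :
    ∃ (X' : Scheme.{u}) (f' : X' ⟶ S) (i : X ⟶ X'), IsClosedImmersion i ∧ i ≫ f' = f ∧ IsProper f' ∧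
      LocallyOfFinitePresentation f' ∧ ∀ s, topologicalKrullDim (f'.fiber s) ≤ d := by
  obtain ⟨K, _, _, E, cE, hcE, eE, hE1, hE2⟩ := Groth.Agent.S2079.result f
  obtain ⟨k₀⟩ := IsCofiltered.nonempty (C := K)
  let φ : E ⋙ Over.forget S ⟶ (Functor.const K).obj S :=
    { app k := (E.obj k).hom
      naturality i j a := by
        refine (Over.w (E.map a)).trans (Category.comp_id _).symm }
  have hcX := isLimitOfPreserves (Over.forget S) hcE
  have hcS := isLimitConst (K := K) S k₀
  have hproper : IsProper cE.pt.hom := by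
    have h1 : cE.pt.hom = eE.hom.left ≫ f := (Over.w eE.hom).symm
    rw [h1]
    infer_instance
  let fc : ((Over.forget S).mapCone cE).pt ⟶ (⟨S, 𝟙 _⟩ : Cone ((Functor.const K).obj S)).pt := cE.pt.hom
  have hfc : IsProper fc := hproper
  obtain ⟨k, hk⟩ := exists_stage φ hcX hcS (fun i j a => by
      have := hE1 i j a
      change IsAffineHom (E.map a).left
      infer_instance)
    (fun i j a => inferInstanceAs (IsAffineHom (𝟙 S))) (fun k => (hE2 k).2.1) fc
    (fun k => (Over.w (cE.π.app k)).trans (Category.comp_id _).symm) (fun i => inferInstanceAs (CompactSpace S)) d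
    (fun y => by
      have h2 : IsPullback (eE.hom.left) cE.pt.hom f (𝟙 S) :=
        IsPullback.of_horiz_isIso ⟨by rw [Category.comp_id]; exact Over.w eE.hom⟩
      have h3 := topologicalKrullDim_fiber_baseChange f cE.pt.hom eE.hom.left (𝟙 S) h2 y
      exact h3.le.trans (hd _))
  refine ⟨(E.obj k).left, (E.obj k).hom, (eE.inv ≫ cE.π.app k).left, ?_, Over.w (eE.inv ≫ cE.π.app k), (hE2 k).2.1,
    (hE2 k).2.2, hk k (𝟙 k)⟩
  have := (hE2 k).1
  rw [Over.comp_left]
  infer_instance

/-- Approximation: a proper `f : X ⟶ S` with `S` affine and all fibres of dimension `≤ d` is a closed subscheme of the base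
change of a proper `φ : X₀ ⟶ S₀` with `S₀` affine Noetherian (of finite type over `ℤ`) and all fibres of dimension `≤ d`. -/
theorem exists_closed_approx {X S : Scheme.{u}} (f : X ⟶ S) [IsProper f] [IsAffine S] (d : ℕ)
    (hd : ∀ y, topologicalKrullDim (f.fiber y) ≤ d) :
    ∃ (X₀ S₀ X' : Scheme.{u}) (φ : X₀ ⟶ S₀) (q : S ⟶ S₀) (p : X' ⟶ X₀) (f' : X' ⟶ S) (i : X ⟶ X'),
      IsClosedImmersion i ∧ i ≫ f' = f ∧ IsPullback p f' φ q ∧ IsProper φ ∧ LocallyOfFinitePresentation φ ∧
      IsAffine S₀ ∧ IsNoetherian S₀ ∧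
      ∀ s, topologicalKrullDim (φ.fiber s) ≤ d := by
  obtain ⟨X', f', h, hcl, hh, hf'1, hf'2, hd'⟩ := exists_finitePresentation f d hd
  obtain ⟨P, _, _, _, D, c, hc, haff, hD, ⟨e⟩⟩ := Groth.Agent.S0590.result S
  have hcomp : ∀ i, CompactSpace (D.obj i) := fun i => (hD i).1
  have hZ : IsNoetherianRing (ULift.{u} ℤ) :=
    isNoetherianRing_of_ringEquiv ℤ ULift.ringEquiv.symm
  have hZ' : IsLocallyNoetherian (Spec (CommRingCat.of (ULift.{u} ℤ))) := by
    have : IsNoetherianRing (CommRingCat.of (ULift.{u} ℤ)) := hZ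
    infer_instance
  have hN : ∀ i, IsLocallyNoetherian (D.obj i) := fun i => by
    have := (hD i).2
    exact LocallyOfFiniteType.isLocallyNoetherian (Limits.IsTerminal.from specULiftZIsTerminal (D.obj i))
  have hqs : ∀ i, QuasiSeparatedSpace (D.obj i) := fun i => by
    have := hN i
    infer_instance
  let g : X' ⟶ c.pt := f' ≫ e.inv
  obtain ⟨j, Y, ψ, p, hpb, hψ, _⟩ := FlatA.ProperApprox.exists_proper_model D c hc g
  let E := CalgA.LimFP.bcDiagram D ψ
  let cE : Cone E := CalgA.LimFP.bcCone hpb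
  have hcE : IsLimit cE := CalgA.LimFP.isLimitBcCone hc hpb
  let D' := Over.forget j ⋙ D
  let cD' : Cone D' := c.whisker (Over.forget j)
  have hcD' : IsLimit cD' := (Functor.Initial.isLimitWhiskerEquiv (Over.forget j) c).symm hc
  let φ : E ⟶ D' := CalgA.LimFP.bcι D ψ
  have hφ : ∀ a, IsProper (φ.app a) := by
    intro a
    change IsProper (pullback.snd ψ (D.map a.hom))
    infer_instance
  have haE : ∀ (a b : Over j) (t : a ⟶ b), IsAffineHom (E.map t) :=
    fun a b t => CalgA.LimFP.isAffineHom_bcDiagram_map t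
  have haD' : ∀ (a b : Over j) (t : a ⟶ b), IsAffineHom (D'.map t) :=
    fun a b t => haff _ _ _
  have hcomp' : ∀ a : Over j, CompactSpace (D'.obj a) := fun a => hcomp _
  let g' : cE.pt ⟶ cD'.pt := g
  have hg' : IsProper g' := inferInstanceAs (IsProper (f' ≫ e.inv))
  have hcpt : CompactSpace cD'.pt := by
    have : CompactSpace c.pt := Scheme.compactSpace_of_isLimit D c hc
    exact this
  obtain ⟨k, hk⟩ := exists_stage φ hcE hcD' haE haD' hφ g' (fun a => by
      change cE.π.app a ≫ pullback.snd ψ (D.map a.hom) = g ≫ c.π.app a.left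
      exact pullback.lift_snd _ _ _) hcomp' d (fun y => by
        have h2 : IsPullback (𝟙 X') g f' e.hom := IsPullback.of_horiz_isIso ⟨by simp [g]⟩
        exact (topologicalKrullDim_fiber_baseChange f' g (𝟙 X') e.hom h2 y).le.trans (hd' _))
  have haff' : ∀ {a b : Over j} (t : a ⟶ b), IsAffineHom (D'.map t) := fun t => haD' _ _ t
  have hqs' : ∀ a : Over j, QuasiSeparatedSpace (D'.obj a) := fun a => hqs _
  have haffc : IsAffine cD'.pt := IsAffine.of_isIso e.hom
  obtain ⟨l', hl'⟩ := Scheme.exists_isAffine_of_isLimit D' cD' hcD'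
  let l := IsCofiltered.min k l'
  have h1 : IsAffine (D'.obj l) := by
    have := haff' (IsCofiltered.minToRight k l')
    exact isAffine_of_isAffineHom (D'.map (IsCofiltered.minToRight k l'))
  let u : X' ⟶ pullback ψ (D.map l.hom) := pullback.lift p (g ≫ c.π.app l.left) (by
    rw [Category.assoc, c.w, hpb.w])
  have hu : IsPullback u g (pullback.snd ψ (D.map l.hom)) (c.π.app l.left) := by
    refine IsPullback.of_right (h₁₂ := pullback.fst ψ (D.map l.hom)) (h₂₂ := D.map l.hom)
      (v₁₃ := ψ) ?_ (pullback.lift_snd _ _ _) (IsPullback.of_hasPullback ψ (D.map l.hom))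
    have e1 : u ≫ pullback.fst ψ (D.map l.hom) = p := pullback.lift_fst _ _ _
    rw [e1, c.w]
    exact hpb
  refine ⟨pullback ψ (D.map l.hom), D.obj l.left, X', pullback.snd ψ (D.map l.hom), e.inv ≫ c.π.app l.left, u, f', h,
    hcl, hh, ?_, inferInstance, inferInstance, h1, ?_, hk l (IsCofiltered.minToLeft k l')⟩
  · refine IsPullback.of_iso hu (Iso.refl _) (Iso.refl _) e (Iso.refl _) ?_ ?_ ?_ ?_
    · rw [Iso.refl_hom, Iso.refl_hom, Category.comp_id, Category.id_comp]
    · rw [Category.assoc, e.inv_hom_id, Category.comp_id, Iso.refl_hom, Category.id_comp]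
    · rw [Iso.refl_hom, Iso.refl_hom, Category.comp_id, Category.id_comp]
    · rw [e.hom_inv_id_assoc, Iso.refl_hom, Category.comp_id]
  · have : IsLocallyNoetherian (D.obj l.left) := hN l.left
    have : CompactSpace (D.obj l.left) := hcomp l.left
    exact ⟨⟩

end Groth.Agent.Flat2G.ProperApprox
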