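import Groth.Agent.Flat2D.EtNbhd3
import Groth.Agent.VarietyA.GeomConn
import Groth.Prelude.Def_FlatCA
import Groth.Agent.S0408
import Groth.Agent.Sga3C.LocConn
import Mathlib.RingTheory.AlgebraicIndependent.AlgebraicClosure
import Mathlib.RingTheory.AlgebraicIndependent.Adjoin

/-!
# Points whose residue field contains the residue field of the image as an algebraically closed subfield

`AclPt h y` : every element of `κ(y)` integral over `κ(h y)` comes from `κ(h y)`.
* purely transcendental extensions have this property;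
* transport along residually trivial morphisms;
* the connected component of the fibre through such a point is geometrically connected.
-/

set_option autoImplicit false
universe u

open AlgebraicGeometry CategoryTheory Limits

namespace Groth.Agent.Flat2G.AclPt

/-- `k` is algebraically closed in the field generated by algebraically independent elements. -/
theorem mem_range_of_isAlgebraic {k K : Type*} [Field k] [Field K] [Algebra k K] {ι : Type*}
    {x : ι → K} (hx : AlgebraicIndependent k x) (htop : IntermediateField.adjoin k (Set.range x) = ⊤)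
    (a : K) (ha : IsAlgebraic k a) : a ∈ (algebraMap k K).range := by
  have hmem : a ∈ IntermediateField.adjoin k (Set.range x) := by rw [htop]; trivial
  obtain ⟨r, s, rfl⟩ := (IntermediateField.mem_adjoin_range_iff k x a).mp hmem
  by_cases h0 : MvPolynomial.aeval x s = 0
  · rw [h0, div_zero]; exact zero_mem _
  have hs : s ≠ 0 := by rintro rfl; exact h0 (map_zero _)
  have hx' : AlgebraicIndependent (algebraicClosure k K) x := hx.algebraicClosure
  let a' : algebraicClosure k K :=
    ⟨MvPolynomial.aeval x r / MvPolynomial.aeval x s, mem_algebraicClosure_iff.mpr ha⟩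
  have ha' : algebraMap (algebraicClosure k K) K a' = MvPolynomial.aeval x r / MvPolynomial.aeval x s := rfl
  have h1 : MvPolynomial.aeval x (MvPolynomial.C a' * MvPolynomial.map (algebraMap k (algebraicClosure k K)) s) =
      MvPolynomial.aeval x (MvPolynomial.map (algebraMap k (algebraicClosure k K)) r) := by
    rw [map_mul, MvPolynomial.aeval_C, MvPolynomial.aeval_map_algebraMap,
      MvPolynomial.aeval_map_algebraMap, ha', div_mul_cancel₀ _ h0]
  have h2 := hx' h1
  obtain ⟨m, hm⟩ := MvPolynomial.ne_zero_iff.mp hs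
  have h3 := congrArg (MvPolynomial.coeff m) h2
  rw [MvPolynomial.coeff_C_mul, MvPolynomial.coeff_map, MvPolynomial.coeff_map] at h3
  refine ⟨MvPolynomial.coeff m r / MvPolynomial.coeff m s, ?_⟩
  rw [← ha', map_div₀, div_eq_iff ((map_ne_zero _).mpr hm)]
  exact congrArg (algebraMap (algebraicClosure k K) K) h3.symm

/-- Every element of `B` integral over `A` comes from `A`. -/
def Acl {A B : Type*} [CommRing A] [CommRing B] (φ : A →+* B) : Prop :=
  ∀ b : B, φ.IsIntegralElem b → b ∈ φ.range

theorem Acl.comp_bijective {A B C : Type*} [CommRing A] [CommRing B] [CommRing C] {φ : A →+* B}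
    (H : Acl φ) (ψ : B →+* C) (hψ : Function.Bijective ψ) : Acl (ψ.comp φ) := by
  intro c hc
  obtain ⟨b, rfl⟩ := hψ.2 c
  have hb : φ.IsIntegralElem b := by
    obtain ⟨p, hp, hp'⟩ := hc
    refine ⟨p, hp, hψ.1 ?_⟩
    rw [Polynomial.hom_eval₂, map_zero]
    exact hp'
  obtain ⟨a, rfl⟩ := H b hb
  exact ⟨a, rfl⟩

theorem Acl.of_comp {A B C : Type*} [CommRing A] [CommRing B] [CommRing C] {φ : A →+* B}
    {ψ : B →+* C} (H : Acl (ψ.comp φ)) (hφ : Function.Surjective φ) : Acl ψ := by
  intro c hc
  have hc' : (ψ.comp φ).IsIntegralElem c := by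
    obtain ⟨p, hp, hp'⟩ := hc
    obtain ⟨q, rfl, -, hq⟩ := Polynomial.lifts_and_natDegree_eq_and_monic (f := φ)
      ((Polynomial.lifts_iff_coeff_lifts _).mpr fun n => hφ _) hp
    refine ⟨q, hq, ?_⟩
    rwa [Polynomial.eval₂_map] at hp'
  obtain ⟨a, ha⟩ := H c hc'
  exact ⟨φ a, ha⟩

/-- Every element of `κ(y)` integral over `κ(h y)` comes from `κ(h y)`. -/
def Pt {Y S : Scheme.{u}} (h : Y ⟶ S) (y : Y) : Prop := Acl (h.residueFieldMap y).hom

theorem Pt.congr {Y S : Scheme.{u}} {h h' : Y ⟶ S} (e : h = h') {y y' : Y} (e' : y = y')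
    (H : Pt h y) : Pt h' y' := by
  subst e e'
  exact H

theorem Pt.comp_left {Y Y' S : Scheme.{u}} (e : Y' ⟶ Y) {h : Y ⟶ S} {y' : Y'} {y : Y} (hy : e y' = y)
    (he : Function.Bijective (e.residueFieldMap y')) (H : Pt h y) : Pt (e ≫ h) y' := by
  subst hy
  have h1 : Acl ((e.residueFieldMap y').hom.comp (h.residueFieldMap (e y')).hom) := Acl.comp_bijective H _ he
  rw [← CommRingCat.hom_comp] at h1
  unfold Pt
  rw [Scheme.residueFieldMap_comp]
  exact h1

theorem Pt.of_comp {Y S S' : Scheme.{u}} {h : Y ⟶ S'} (e : S' ⟶ S) {y : Y}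
    (H : Pt (h ≫ e) y) (he : Function.Surjective (e.residueFieldMap (h y))) : Pt h y := by
  have H' : Acl ((h.residueFieldMap y).hom.comp (e.residueFieldMap (h y)).hom) := by
    unfold Pt at H
    rw [Scheme.residueFieldMap_comp] at H
    exact H
  exact Acl.of_comp H' he

/-- Over a field: the residue field of the point is `k`. -/
theorem exists_toResidueField (k : Type u) [Field k] (x : Spec (CommRingCat.of k)) :
    ∃ θ : CommRingCat.of k ⟶ (Spec (CommRingCat.of k)).residueField x,
      (Spec (CommRingCat.of k)).fromSpecResidueField x = Spec.map θ ∧ Function.Surjective θ.hom := by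
  let x' : PrimeSpectrum k := x
  have hmax : x'.asIdeal.IsMaximal := by
    have : x'.asIdeal = ⊥ := by
      rcases Ideal.eq_bot_or_top x'.asIdeal with h | h
      · exact h
      · exact absurd h x'.isPrime.ne_top
    rw [this]
    exact Ideal.bot_isMaximal
  refine ⟨CommRingCat.ofHom (algebraMap k x'.asIdeal.ResidueField) ≫
    (Scheme.Spec.residueFieldIso (CommRingCat.of k) x).inv, ?_, ?_⟩
  · rw [← Scheme.Spec.map_residueFieldIso_inv_eq_fromSpecResidueField, Spec.map_comp]
  · exact ((ConcreteCategory.isIso_iff_bijective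
      (Scheme.Spec.residueFieldIso (CommRingCat.of k) x).inv).mp inferInstance).2.comp
        (Ideal.algebraMap_residueField_surjective x'.asIdeal)

/-- If `Y` is connected over a field `k` and has a point `y` with `k` algebraically closed in `κ(y)`, then
`Y` is geometrically connected. -/
theorem geometricallyConnected {k : Type u} [Field k] {Y : Scheme.{u}} (q : Y ⟶ Spec (.of k)) [ConnectedSpace Y]
    (y : Y) (H : Pt q y) : GeometricallyConnected q := by
  obtain ⟨θ, hθ, hs⟩ := exists_toResidueField k (q y)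
  let _ : Algebra k (Y.residueField y) := ((q.residueFieldMap y).hom.comp θ.hom).toAlgebra
  refine VarietyA.GeomConn.geometricallyConnected_of_point k q y ?_ ?_
  · rw [← Scheme.Hom.SpecMap_residueFieldMap_fromSpecResidueField, hθ, ← Spec.map_comp]
    rfl
  · intro a ha
    obtain ⟨c, hc⟩ := H a (by
      have h1 : ((q.residueFieldMap y).hom.comp θ.hom).IsIntegralElem a := ha.isIntegral
      obtain ⟨p, hp, hp'⟩ := h1
      refine ⟨p.map θ.hom, hp.map _, ?_⟩
      rw [Polynomial.eval₂_map]
      exact hp')
    obtain ⟨d, rfl⟩ := hs c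
    exact ⟨d, hc⟩

theorem residueFieldMap_openImmersion_bijective {U X : Scheme.{u}} (j : U ⟶ X) [IsOpenImmersion j] (u : U) :
    Function.Bijective (j.residueFieldMap u) :=
  (ConcreteCategory.isIso_iff_bijective _).mp inferInstance

/-- Over a field, a point with algebraically closed ground field in its residue field has a geometrically
connected open neighbourhood. -/
theorem exists_geometricallyConnected_open {k : Type u} [Field k] {Z : Scheme.{u}} (q : Z ⟶ Spec (.of k))
    [LocallyOfFiniteType q] (z : Z) (H : Pt q z) :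
    ∃ T : Z.Opens, z ∈ T ∧ GeometricallyConnected (T.ι ≫ q) := by
  have : IsLocallyNoetherian Z := LocallyOfFiniteType.isLocallyNoetherian q
  have := Sga3C.LocConn.locallyConnectedSpace_of_isLocallyNoetherian Z
  let T : Z.Opens := ⟨connectedComponent z, isOpen_connectedComponent⟩
  have hz : z ∈ T := mem_connectedComponent
  have hT : ConnectedSpace T := isConnected_iff_connectedSpace.mp isConnected_connectedComponent
  exact ⟨T, hz, geometricallyConnected (T.ι ≫ q) ⟨z, hz⟩
    (H.comp_left T.ι rfl (residueFieldMap_openImmersion_bijective _ _))⟩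

theorem exists_geometricallyConnected_fiber {Y S : Scheme.{u}} (h : Y ⟶ S) [LocallyOfFiniteType h]
    (y : Y) (H : Pt h y) :
    ∃ T : (h.fiber (h y)).Opens, GeometricallyConnected (T.ι ≫ h.fiberToSpecResidueField (h y)) ∧
      y ∈ (h.fiberι (h y)) '' (T : Set (h.fiber (h y))) := by
  have hc : IsPullback (h.fiberι (h y)) (h.fiberToSpecResidueField (h y)) h
      (S.fromSpecResidueField (h y)) := .of_hasPullback _ _
  have hb : Function.Bijective ((S.fromSpecResidueField (h y)).residueFieldMap
      (default : Spec (S.residueField (h y)))) :=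
    ⟨((S.fromSpecResidueField (h y)).residueFieldMap _).hom.injective,
      S0408.residueFieldMap_surjective_of_surjectiveOnStalks _ _⟩
  obtain ⟨z, hz1, hz2, -, hz3⟩ := Flat2D.EtNbhd.exists_unique_point hc default y
    (Scheme.fromSpecResidueField_apply _ _).symm hb
  have hft : LocallyOfFiniteType (h.fiberToSpecResidueField (h y)) :=
    MorphismProperty.of_isPullback (P := @LocallyOfFiniteType) hc ‹_›
  have h1 : Pt (h.fiberι (h y) ≫ h) z := H.comp_left _ hz1 hz3
  have h2 : Pt (h.fiberToSpecResidueField (h y) ≫ S.fromSpecResidueField (h y)) z := h1.congr hc.w rfl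
  have h3 : Pt (h.fiberToSpecResidueField (h y)) z := by
    refine h2.of_comp _ ?_
    rw [hz2]
    exact hb.2
  obtain ⟨T, hzT, hT⟩ := exists_geometricallyConnected_open
    (k := S.residueField (h y)) (h.fiberToSpecResidueField (h y)) z h3
  exact ⟨T, hT, z, hzT, hz1⟩

theorem Acl.comp_surjective {A B C : Type*} [CommRing A] [CommRing B] [CommRing C] {φ : B →+* C}
    (H : Acl φ) (σ : A →+* B) (hσ : Function.Surjective σ) : Acl (φ.comp σ) := by
  intro c hc
  obtain ⟨p, hp, hp'⟩ := hc
  obtain ⟨b, rfl⟩ := H c ⟨p.map σ, hp.map σ, by rwa [Polynomial.eval₂_map]⟩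
  obtain ⟨a, rfl⟩ := hσ b
  exact ⟨a, rfl⟩

theorem acl_of_purelyTranscendental {R S : Type u} [CommRing R] [CommRing S] [Algebra R S] (p : Ideal R)
    [p.IsPrime] (y : Ideal S) [y.IsPrime] [hy : y.LiesOver p] (h : FlatCA.PurelyTranscendental p y) :
    Acl (Ideal.ResidueField.map p y (algebraMap R S) hy.over) := by
  unfold FlatCA.PurelyTranscendental at h
  let _ : Algebra p.ResidueField y.ResidueField :=
    (Ideal.ResidueField.mapₐ p y (Algebra.ofId R S) hy.over).toRingHom.toAlgebra
  obtain ⟨ι, x, hx, hx2⟩ := h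
  intro b hb
  exact mem_range_of_isAlgebraic (k := p.ResidueField) (K := y.ResidueField) hx.1 hx2 b
    (IsIntegral.isAlgebraic hb)

theorem acl_of_iso {A₂ A₁ A B B₁ : CommRingCat.{u}} (α : A₂ ⟶ A₁) (β : A₁ ⟶ A) (r : A ⟶ B) (γ : B ⟶ B₁)
    [IsIso α] [IsIso β] [IsIso γ] (φ : A₂ ⟶ B₁) (h : α ≫ β ≫ r ≫ γ = φ) (H : Acl φ.hom) : Acl r.hom := by
  have h1 : r = inv (α ≫ β) ≫ φ ≫ inv γ := by
    rw [IsIso.eq_inv_comp, IsIso.eq_comp_inv, ← h, Category.assoc, Category.assoc]
  rw [h1, CommRingCat.hom_comp, CommRingCat.hom_comp]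
  exact (H.comp_bijective _ ((ConcreteCategory.isIso_iff_bijective (inv γ)).mp inferInstance)).comp_surjective _
    ((ConcreteCategory.isIso_iff_bijective (inv (α ≫ β))).mp inferInstance).2

theorem pt_of_purelyTranscendental {R S : Type u} [CommRing R] [CommRing S] [Algebra R S] (p : Ideal R)
    [p.IsPrime] (y : Ideal S) [y.IsPrime] [hy : y.LiesOver p] (h : FlatCA.PurelyTranscendental p y) :
    Pt (Spec.map (CommRingCat.ofHom (algebraMap R S))) (⟨y, inferInstance⟩ : PrimeSpectrum S) := by
  have h1 := Flat2D.EtNbhd.residueFieldMap_SpecMap_eq (CommRingCat.ofHom (algebraMap R S)) ⟨p, inferInstance⟩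
    ⟨y, inferInstance⟩ (PrimeSpectrum.ext (y.over_def p).symm) (y.over_def p)
  exact acl_of_iso _ _ _ _ _ h1 (acl_of_purelyTranscendental p y h)

end Groth.Agent.Flat2G.AclPt
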