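import Groth.Agent.Ega3B.AcyclicBC
import Groth.Agent.Fga.UnitRestrict
import Groth.Agent.CohqA.DirectSum
import Groth.Agent.Ega2.QCohLocal
import Groth.Agent.PerfB.StructFlat

/-!
Ring form of the acyclic base change theorem (`Ega3B.AcyclicBC`) for the structure sheaf.
-/

set_option autoImplicit false
universe u

namespace Groth.Agent.Flat2G.AcyclicRing

open AlgebraicGeometry CategoryTheory Limits TensorProduct

theorem isPushout_of_bijective {R A B P : CommRingCat.{u}} (f : R ⟶ A) (g : R ⟶ B) (i : A ⟶ P) (j : B ⟶ P)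
    (w : f ≫ i = g ≫ j)
    (h : letI := f.hom.toAlgebra; letI := g.hom.toAlgebra
      ∃ e : A ⊗[R] B →+ P, Function.Bijective e ∧ ∀ a b, e (a ⊗ₜ b) = i a * j b) : IsPushout f g i j := by
  let _ := f.hom.toAlgebra
  let _ := g.hom.toAlgebra
  let _ := (f ≫ i).hom.toAlgebra
  obtain ⟨e, he, hab⟩ := h
  let i' : A →ₐ[R] P := { i.hom with commutes' := fun r => rfl }
  have hj : ∀ r : R, j.hom (algebraMap R B r) = algebraMap R P r := fun r => by
    change j.hom (g.hom r) = (f ≫ i).hom r
    rw [w]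
    rfl
  let j' : B →ₐ[R] P := { j.hom with commutes' := hj }
  let ψ : A ⊗[R] B →ₐ[R] P := Algebra.TensorProduct.productMap i' j'
  have hψ : ∀ x, ψ x = e x := by
    intro x
    induction x using TensorProduct.induction_on with
    | zero => simp
    | tmul a b => rw [hab]; rfl
    | add x y hx hy => rw [map_add, map_add, hx, hy]
  have hb : Function.Bijective ψ := by
    rw [show (ψ : A ⊗[R] B → P) = e from funext hψ]
    exact he
  let E : CommRingCat.of (A ⊗[R] B) ≅ P := (RingEquiv.ofBijective ψ.toRingHom hb).toCommRingCatIso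
  refine IsPushout.of_iso (CommRingCat.isPushout_tensorProduct R A B) (Iso.refl _) (Iso.refl _) (Iso.refl _) E
    ?_ ?_ ?_ ?_
  · rfl
  · rfl
  · ext a
    change ψ (a ⊗ₜ 1) = i a
    rw [hψ, hab, map_one, mul_one]
  · ext b
    change ψ (1 ⊗ₜ b) = j b
    rw [hψ, hab, map_one, one_mul]

open Groth.Agent.VarietyB.FlatH0 Groth.Agent.VarietyB.BCAlg Groth.Agent.VarietyB.PullSec

/-- Under `g^* O_X ≅ O_Y` the canonical map on sections is the restriction of functions. -/
theorem pullbackUnitHom_sec {X Y : Scheme.{u}} (g : Y ⟶ X) {U : X.Opens} {V : Y.Opens} (e : V ≤ g ⁻¹ᵁ U) (m : Γ(X, U)) :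
    (show Γ(Y, V) from (Groth.Agent.Fga.UnitRestrict.pullbackUnitHom g).app V
      (sec g (Coh.structureModule X) e (show Γ(Coh.structureModule X, U) from m))) = g.appLE U V e m := by
  rw [sec_apply]
  have h1 := ConcreteCategory.congr_hom
    ((Groth.Agent.Fga.UnitRestrict.pullbackUnitHom g).mapPresheaf.naturality (homOfLE e).op)
    (((Scheme.Modules.pullbackPushforwardAdjunction g).unit.app (Coh.structureModule X)).app U
      (show Γ(Coh.structureModule X, U) from m))
  refine h1.trans ?_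
  have h2 : ((Scheme.Modules.pullbackPushforwardAdjunction g).unit.app (Coh.structureModule X) ≫
      (Scheme.Modules.pushforward g).map (Groth.Agent.Fga.UnitRestrict.pullbackUnitHom g)).app U
        (show Γ(Coh.structureModule X, U) from m) = g.app U m := by
    rw [Groth.Agent.Fga.UnitRestrict.unit_pullbackUnitHom]
    rfl
  exact congrArg ((Coh.structureModule Y).presheaf.map (homOfLE e).op) h2

theorem isPushout_of_isBC {X Y S T : Scheme.{u}} {f : T ⟶ S} {g : Y ⟶ X} {iX : X ⟶ S} {iY : Y ⟶ T}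
    (w : g ≫ iX = iY ≫ f)
    {US : S.Opens} {UT : T.Opens} (hUST : UT ≤ f ⁻¹ᵁ US) {UX : X.Opens} (hUSX : UX ≤ iX ⁻¹ᵁ US)
    {UY : Y.Opens} (e : UY ≤ g ⁻¹ᵁ UX) (e' : UY ≤ iY ⁻¹ᵁ UT)
    (h : IsBC w (Coh.structureModule X) hUST hUSX e e') :
    IsPushout (f.appLE US UT hUST) (iX.appLE US UX hUSX) (iY.appLE UT UY e') (g.appLE UX UY e) := by
  refine isPushout_of_bijective _ _ _ _ ?_ ?_
  · rw [Scheme.Hom.appLE_comp_appLE, Scheme.Hom.appLE_comp_appLE]
    simp only [w]
  · let i1 := algOver f hUST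
    let i2 := modOver iX (Coh.structureModule X) hUSX
    let i3 := modOver iY ((Scheme.Modules.pullback g).obj (Coh.structureModule X)) e'
    have hu : Function.Bijective ((Groth.Agent.Fga.UnitRestrict.pullbackUnitHom g).app UY) := by
      have h1 : IsIso (Groth.Agent.Fga.UnitRestrict.pullbackUnitHom g) := inferInstance
      rw [Scheme.Modules.Hom.isIso_iff_isIso_app] at h1
      exact (ConcreteCategory.isIso_iff_bijective _).mp (h1 UY)
    let E : Γ(T, UT) ⊗[Γ(S, US)] Γ(Coh.structureModule X, UX) →+ Γ(Coh.structureModule Y, UY) :=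
      ((Groth.Agent.Fga.UnitRestrict.pullbackUnitHom g).app UY).hom.comp
        (bc (secS w (Coh.structureModule X) hUST hUSX e e')).toAddMonoidHom
    refine ⟨E, hu.comp h, fun a b => ?_⟩
    change (Groth.Agent.Fga.UnitRestrict.pullbackUnitHom g).app UY
      (bc (secS w (Coh.structureModule X) hUST hUSX e e') (a ⊗ₜ b)) = _
    rw [bc_tmul, secS_apply]
    refine (Scheme.Modules.Hom.app_smul _ _ _).trans ?_
    exact congrArg (iY.appLE UT UY e' a * ·) (pullbackUnitHom_sec g e b)

theorem appLE_top_eq {X Y : Scheme.{u}} (f : X ⟶ Y) (h) : f.appLE ⊤ ⊤ h = f.appTop := by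
  simp [Scheme.Hom.appLE, Scheme.Hom.appTop]

/-- Ring form of `acyclicBC`: `X` flat over an affine scheme `S` with `H^p(X, O) = 0` for `p ≥ 1`. -/
theorem isPushout_appTop {X Y S T : Scheme.{u}} {f : T ⟶ S} {g : Y ⟶ X} {iX : X ⟶ S} {iY : Y ⟶ T}
    (H : IsPullback g iY iX f) [IsAffine S] [IsAffine T] [QuasiCompact iX] [IsSeparated iX] [Flat iX]
    (hvan : ∀ p, Subsingleton (Coh.HH X (Coh.structureModule X) (p + 1))) :
    IsPushout iX.appTop f.appTop g.appTop iY.appTop ∧
      (∀ p, Subsingleton (Coh.HH Y (Coh.structureModule Y) (p + 1))) ∧ iX.appTop.hom.Flat := by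
  obtain ⟨h1, h2, h3⟩ := Groth.Agent.Ega3B.AcyclicBC.acyclicBC H (Coh.structureModule X)
    (Groth.Agent.Ega2.QCohLocal.isQCoh_structureModule X) (Groth.Agent.PerfB.StructFlat.isFlatOver_structure iX)
    hvan
  refine ⟨?_, ?_, ?_⟩
  · have h4 := isPushout_of_isBC _ _ _ _ _ h2
    rw [appLE_top_eq, appLE_top_eq, appLE_top_eq, appLE_top_eq] at h4
    exact h4.flip
  · intro p
    exact Groth.Agent.CohqA.DirectSum.subsingleton_of_iso (Groth.Agent.Fga.UnitRestrict.pullbackUnitIso g) _ (h1 p)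
  · rw [← appLE_top_eq iX le_top]
    exact h3

end Groth.Agent.Flat2G.AcyclicRing
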