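import Groth.Agent.Flat2G.ApproxProp
import Mathlib.AlgebraicGeometry.Geometrically.Basic
import Mathlib.AlgebraicGeometry.Morphisms.Flat
import Mathlib.AlgebraicGeometry.Morphisms.UnderlyingMap
import Mathlib.AlgebraicGeometry.Morphisms.SchemeTheoreticallyDominant

/-!
# Descent of geometric properties along extensions of base fields
-/

set_option autoImplicit false
universe u

open AlgebraicGeometry CategoryTheory Limits

namespace Groth.Agent.Flat2G.ApproxGeom

/-- `Q` descends along base changes of field extensions -/
def DescendsField (Q : ObjectProperty Scheme.{u}) : Prop :=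
  ∀ {W Z : Scheme.{u}} (E M : CommRingCat.{u}) (_ : IsField E) (_ : IsField M) (φ : E ⟶ M) (g : W ⟶ Z)
    (hW : W ⟶ Spec M) (hZ : Z ⟶ Spec E), IsPullback g hW hZ (Spec.map φ) → Q W → Q Z

theorem desc_geometrically {Q : ObjectProperty Scheme.{u}} (hQ : DescendsField Q)
    {X X' : Scheme.{u}} (K L : CommRingCat.{u}) (hK : IsField K) (hL : IsField L) (f : X ⟶ Spec K)
    (φ : K ⟶ L) (f' : X' ⟶ Spec L) (g : X' ⟶ X) (hpb : IsPullback g f' f (Spec.map φ)) (h : geometrically Q f') :
    geometrically Q f := by
  intro E _ y Z fst snd hZ
  obtain ⟨ψ, rfl⟩ := Spec.map_surjective y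
  -- a common extension
  let _ : Field K := hK.toField
  let _ : Field L := hL.toField
  let _ : Algebra K E := ψ.hom.toAlgebra
  let _ : Algebra K L := φ.hom.toAlgebra
  have : Nontrivial (TensorProduct K E L) := inferInstance
  obtain ⟨m, hm⟩ := Ideal.exists_maximal (TensorProduct K E L)
  let M := (TensorProduct K E L) ⧸ m
  let _ : Field M := Ideal.Quotient.field m
  let a : E →+* M := (Ideal.Quotient.mk m).comp Algebra.TensorProduct.includeLeftRingHom
  let b : L →+* M := (Ideal.Quotient.mk m).comp (Algebra.TensorProduct.includeRight (R := K) (A := E) (B := L)).toRingHom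
  have hab : a.comp ψ.hom = b.comp φ.hom := by
    ext x
    simp only [a, b, RingHom.comp_apply]
    congr 1
    have := (Algebra.TensorProduct.algebraMap_apply (R := K) (S := K) (A := E) (B := L) x)
    have h2 := (Algebra.TensorProduct.algebraMap_apply' (R := K) (A := E) (B := L) x)
    exact this.symm.trans h2
  let α : CommRingCat.of E ⟶ CommRingCat.of M := CommRingCat.ofHom a
  let β : L ⟶ CommRingCat.of M := CommRingCat.ofHom b
  have hαβ : ψ ≫ α = φ ≫ β := by
    ext x
    exact congr($hab x)
  -- pull back
  have h1 : IsPullback (pullback.fst snd (Spec.map α)) (pullback.snd snd (Spec.map α)) snd (Spec.map α) := .of_hasPullback _ _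
  refine hQ (.of E) (.of M) (Field.toIsField E) (Field.toIsField M) α _ _ _ h1 ?_
  have h2 := h1.paste_horiz hZ
  rw [← Spec.map_comp, hαβ, Spec.map_comp] at h2
  have h3 : (pullback.fst snd (Spec.map α) ≫ fst) ≫ f = (pullback.snd snd (Spec.map α) ≫ Spec.map β) ≫ Spec.map φ := by
    rw [h2.w, Category.assoc]
  have h4 : IsPullback (hpb.lift _ _ h3) (pullback.snd snd (Spec.map α)) f' (Spec.map β) := by
    refine IsPullback.of_right (h₁₂ := g) (h₂₂ := Spec.map φ) (v₁₃ := f) ?_ ?_ hpb
    · rw [hpb.lift_fst]
      exact h2
    · rw [hpb.lift_snd]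
  exact h _ _ _ h4

theorem surjective_Spec_map_field {E M : CommRingCat.{u}} (hE : IsField E) (hM : IsField M) (φ : E ⟶ M) :
    Surjective (Spec.map φ) := by
  let _ : Field E := hE.toField
  let _ : Field M := hM.toField
  refine ⟨fun x => ⟨(⊥ : PrimeSpectrum M), ?_⟩⟩
  exact Subsingleton.elim (α := PrimeSpectrum E) _ _

theorem descendsField_irreducibleSpace : DescendsField.{u} (IrreducibleSpace ·) := by
  intro W Z E M hE hM φ g hW hZ hpb h
  have := surjective_Spec_map_field hE hM φ
  have : Surjective g := MorphismProperty.of_isPullback hpb.flip this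
  have h1 : IrreducibleSpace W := h
  exact Function.Surjective.irreducibleSpace g.continuous g.surjective

theorem descendsField_connectedSpace : DescendsField.{u} (ConnectedSpace ·) := by
  intro W Z E M hE hM φ g hW hZ hpb h
  have := surjective_Spec_map_field hE hM φ
  have : Surjective g := MorphismProperty.of_isPullback hpb.flip this
  have h1 : ConnectedSpace W := h
  exact Function.Surjective.connectedSpace g.surjective g.continuous

theorem descendsField_isReduced : DescendsField.{u} IsReduced := by
  intro W Z E M hE hM φ g hW hZ hpb h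
  have := surjective_Spec_map_field hE hM φ
  let _ : Field E := hE.toField
  let _ : Field M := hM.toField
  have : IsReduced (Spec E) := by
    have : IsDomain E := inferInstance
    infer_instance
  have : IsSchemeTheoreticallyDominant (Spec.map φ) := .of_isDominant _
  have : Subsingleton (Spec E) := inferInstanceAs (Subsingleton (PrimeSpectrum E))
  have : IsDomain E := inferInstance
  have : IsIntegral (Spec E) := inferInstance
  have : Flat hZ := inferInstance
  have : IsSchemeTheoreticallyDominant g := .of_isPullback hpb.flip
  have : QuasiCompact g := MorphismProperty.of_isPullback hpb.flip inferInstance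
  have : IsReduced W := h
  exact IsSchemeTheoreticallyDominant.isReduced g

theorem fibrewiseProp {Q : ObjectProperty Scheme.{u}} (hQ : DescendsField Q)
    (spread : ∀ {X Y : Scheme.{u}} (f : X ⟶ Y) [IsIntegral Y] [IsAffine Y] [IsNoetherian Y] [LocallyOfFiniteType f]
    [QuasiCompact f], geometrically Q (f.fiberToSpecResidueField (genericPoint Y)) →
      ∃ V : Y.Opens, (V : Set Y).Nonempty ∧ geometrically Q (f ∣_ V)) :
    ApproxProp.FibrewiseProp (geometrically Q) where
  baseChange := inferInstance
  fib _ _ h := geometrically_iff_forall_fiberToSpecResidueField.mpr h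
  desc K L hK hL f _ _ φ f' g hpb h := desc_geometrically hQ K L hK hL f φ f' g hpb h
  spread := spread

end Groth.Agent.Flat2G.ApproxGeom
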