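import Groth.Agent.S1460
import Groth.Agent.Flat2G.ApproxFactor
import Mathlib.AlgebraicGeometry.Fiber
import Mathlib.AlgebraicGeometry.Morphisms.FiniteType
import Mathlib.AlgebraicGeometry.Morphisms.FinitePresentation
import Mathlib.AlgebraicGeometry.Noetherian
import Mathlib.AlgebraicGeometry.FunctionField

/-!
# Noetherian approximation of morphisms with a fibrewise property

`approx`: if a fibrewise property `P` is stable under base change, descends along extensions of base fields and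
spreads out from the generic fibre (for finite type morphisms to integral affine Noetherian schemes), then a morphism
of finite presentation of affine schemes with `P` is a base change of such a morphism over a finite type ℤ-algebra.
-/

set_option autoImplicit false
universe u

open AlgebraicGeometry CategoryTheory Limits

namespace Groth.Agent.Flat2G.ApproxProp

/-- A fibrewise property. -/
structure FibrewiseProp (P : MorphismProperty Scheme.{u}) : Prop where
  baseChange : P.IsStableUnderBaseChange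
  fib : ∀ {X Y : Scheme.{u}} (f : X ⟶ Y) [LocallyOfFiniteType f],
    (∀ y : Y, P (f.fiberToSpecResidueField y)) → P f
  desc : ∀ {X X' : Scheme.{u}} (K L : CommRingCat.{u}) (_ : IsField K) (_ : IsField L) (f : X ⟶ Spec K)
    [LocallyOfFiniteType f] [QuasiCompact f]
    (φ : K ⟶ L) (f' : X' ⟶ Spec L) (g : X' ⟶ X), IsPullback g f' f (Spec.map φ) → P f' → P f
  spread : ∀ {X Y : Scheme.{u}} (f : X ⟶ Y) [IsIntegral Y] [IsAffine Y] [IsNoetherian Y] [LocallyOfFiniteType f]
    [QuasiCompact f], P (f.fiberToSpecResidueField (genericPoint Y)) →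
      ∃ V : Y.Opens, (V : Set Y).Nonempty ∧ P (f ∣_ V)

variable {P : MorphismProperty Scheme.{u}}

theorem FibrewiseProp.fiber (hP : FibrewiseProp P) {X Y : Scheme.{u}} (f : X ⟶ Y) (hf : P f) (y : Y) :
    P (f.fiberToSpecResidueField y) := by
  have := hP.baseChange
  exact MorphismProperty.pullback_snd _ _ hf

set_option backward.isDefEq.respectTransparency.types false in
theorem FibrewiseProp.fiber_iff (hP : FibrewiseProp P) {X Y X' Y' : Scheme.{u}} (f : X ⟶ Y) (f' : X' ⟶ Y') (g' : X' ⟶ X)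
    (g : Y' ⟶ Y) [LocallyOfFiniteType f] [QuasiCompact f] (h : IsPullback g' f' f g) (y : Y') :
    P (f'.fiberToSpecResidueField y) ↔ P (f.fiberToSpecResidueField (g y)) := by
  have H := isPullback_fiberToSpecResidueField_of_isPullback h y
  have := hP.baseChange
  constructor
  · intro h'
    have : LocallyOfFiniteType (f.fiberToSpecResidueField (g y)) := MorphismProperty.pullback_snd _ _ inferInstance
    have : QuasiCompact (f.fiberToSpecResidueField (g y)) := MorphismProperty.pullback_snd _ _ inferInstance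
    exact hP.desc _ _ (Field.toIsField (Y.residueField (g y))) (Field.toIsField (Y'.residueField y)) _ _ _ _ H h'
  · intro h'
    exact MorphismProperty.of_isPullback H h'

set_option backward.isDefEq.respectTransparency.types false in
theorem good_locus (hP : FibrewiseProp P) (A₀ : Type u) [CommRing A₀] [IsNoetherianRing A₀] {X₀ : Scheme.{u}}
    (f₀ : X₀ ⟶ Spec (.of A₀)) [LocallyOfFiniteType f₀] [QuasiCompact f₀] (p : PrimeSpectrum A₀)
    (hp : P (f₀.fiberToSpecResidueField p)) :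
    ∃ f, f ∉ p.asIdeal ∧ ∀ q : PrimeSpectrum A₀, p.asIdeal ≤ q.asIdeal → f ∉ q.asIdeal →
      P (f₀.fiberToSpecResidueField q) := by
  have := hP.baseChange
  let π : A₀ →+* A₀ ⧸ p.asIdeal := Ideal.Quotient.mk p.asIdeal
  let Z : Scheme.{u} := Spec (.of (A₀ ⧸ p.asIdeal))
  let i : Z ⟶ Spec (.of A₀) := Spec.map (CommRingCat.ofHom π)
  let fZ : pullback f₀ i ⟶ Z := pullback.snd f₀ i
  have hpb : IsPullback (pullback.fst f₀ i) fZ f₀ i := .of_hasPullback _ _
  have hgen : i (genericPoint Z) = p := by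
    apply PrimeSpectrum.ext
    have h1 : (genericPoint Z : PrimeSpectrum (A₀ ⧸ p.asIdeal)).asIdeal = ⊥ := by
      rw [genericPoint_eq_bot_of_affine]
      rfl
    show Ideal.comap π (genericPoint Z : PrimeSpectrum (A₀ ⧸ p.asIdeal)).asIdeal = _
    rw [h1, ← RingHom.ker_eq_comap_bot, Ideal.mk_ker]
  have hη : P (fZ.fiberToSpecResidueField (genericPoint Z)) := by
    rw [hP.fiber_iff f₀ fZ _ i hpb, hgen]
    exact hp
  have : IsNoetherianRing (A₀ ⧸ p.asIdeal) := inferInstance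
  have : IsNoetherian Z := inferInstanceAs (IsNoetherian (Spec (.of (A₀ ⧸ p.asIdeal))))
  have : LocallyOfFiniteType fZ := MorphismProperty.pullback_snd _ _ inferInstance
  have : QuasiCompact fZ := MorphismProperty.pullback_snd _ _ inferInstance
  obtain ⟨V, hVne, hV⟩ := hP.spread fZ hη
  obtain ⟨z, hz⟩ := hVne
  obtain ⟨_, ⟨fbar, rfl⟩, hzf, hfV⟩ := PrimeSpectrum.isTopologicalBasis_basic_opens.exists_subset_of_mem_open hz V.2
  obtain ⟨f, rfl⟩ := Ideal.Quotient.mk_surjective fbar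
  refine ⟨f, ?_, ?_⟩
  · intro hfp
    have : Ideal.Quotient.mk p.asIdeal f = 0 := Ideal.Quotient.eq_zero_iff_mem.mpr hfp
    rw [this] at hzf
    simp at hzf
  · intro q hpq hfq
    -- the point of Z
    let q' : PrimeSpectrum (A₀ ⧸ p.asIdeal) := ⟨Ideal.map π q.asIdeal, Ideal.map_isPrime_of_surjective
      Ideal.Quotient.mk_surjective (by rw [Ideal.mk_ker]; exact hpq)⟩
    have hq' : PrimeSpectrum.comap π q' = q := by
      apply PrimeSpectrum.ext
      show Ideal.comap π (Ideal.map π q.asIdeal) = _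
      rw [Ideal.comap_map_of_surjective π Ideal.Quotient.mk_surjective, ← RingHom.ker_eq_comap_bot, Ideal.mk_ker]
      exact sup_eq_left.mpr hpq
    have hq'V : q' ∈ V := by
      apply hfV
      show Ideal.Quotient.mk p.asIdeal f ∉ q'.asIdeal
      intro hf
      apply hfq
      rw [← hq']
      exact hf
    have h1 : P ((fZ ∣_ V).fiberToSpecResidueField ⟨q', hq'V⟩) := hP.fiber _ hV _
    have h2 := (hP.fiber_iff fZ (fZ ∣_ V) _ _ (isPullback_morphismRestrict fZ V).flip _).mp h1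
    have h3 := (hP.fiber_iff f₀ fZ _ i hpb _).mp h2
    have h4 : i (V.ι ⟨q', hq'V⟩) = q := hq'
    rwa [h4] at h3


theorem approx_Spec (hP : FibrewiseProp P) (A₀ A : Type u) [CommRing A₀] [CommRing A] [Algebra.FiniteType ℤ A₀]
    [Algebra A₀ A] {X₀ X : Scheme.{u}} [IsAffine X₀] (f₀ : X₀ ⟶ Spec (.of A₀)) [LocallyOfFiniteType f₀]
    (f : X ⟶ Spec (.of A)) (g' : X ⟶ X₀)
    (hpb : IsPullback g' f f₀ (Spec.map (CommRingCat.ofHom (algebraMap A₀ A)))) (hf : P f) :
    ∃ (X₁ S₁ : Scheme.{u}) (f₁ : X₁ ⟶ S₁) (g : Spec (.of A) ⟶ S₁) (g' : X ⟶ X₁), IsAffine X₁ ∧ IsAffine S₁ ∧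
      IsPullback g' f f₁ g ∧ Algebra.FiniteType ℤ Γ(S₁, ⊤) ∧ LocallyOfFiniteType f₁ ∧ P f₁ := by
  have : IsNoetherianRing A₀ := Algebra.FiniteType.isNoetherianRing ℤ A₀
  have : QuasiCompact f₀ := inferInstance
  obtain ⟨A₁, hA₁, hG⟩ := ApproxFactor.exists_finiteType_factor (A := A)
    {p : PrimeSpectrum A₀ | P (f₀.fiberToSpecResidueField p)}
    (fun p hp => good_locus hP A₀ f₀ p hp) (fun q => by
      exact (hP.fiber_iff f₀ f g' _ hpb q).mp (hP.fiber f hf q))
  let i : Spec (.of A₁) ⟶ Spec (.of A₀) := Spec.map (CommRingCat.ofHom (algebraMap A₀ A₁))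
  let j : Spec (.of A) ⟶ Spec (.of A₁) := Spec.map (CommRingCat.ofHom (algebraMap A₁ A))
  have hji : j ≫ i = Spec.map (CommRingCat.ofHom (algebraMap A₀ A)) := by
    rw [← Spec.map_comp]
    rfl
  have h1 : IsPullback (pullback.fst f₀ i) (pullback.snd f₀ i) f₀ i := .of_hasPullback _ _
  let k : X ⟶ pullback f₀ i := pullback.lift g' (f ≫ j) (by rw [Category.assoc, hji, hpb.w])
  have hk1 : k ≫ pullback.fst f₀ i = g' := pullback.lift_fst _ _ _
  have hk2 : k ≫ pullback.snd f₀ i = f ≫ j := pullback.lift_snd _ _ _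
  refine ⟨pullback f₀ i, Spec (.of A₁), pullback.snd f₀ i, j, k, inferInstance, inferInstance, ?_, ?_, inferInstance, ?_⟩
  · refine IsPullback.of_right (h₁₂ := pullback.fst f₀ i) (h₂₂ := i) (v₁₃ := f₀) ?_ ?_ h1
    · rw [hji, hk1]
      exact hpb
    · exact hk2
  · have : Algebra.FiniteType ℤ A₁ := Algebra.FiniteType.trans (S := A₀) inferInstance hA₁
    let e' : A₁ ≃+* Γ(Spec (.of A₁), ⊤) := (Scheme.ΓSpecIso (.of A₁)).symm.commRingCatIsoToRingEquiv
    exact this.equiv (e'.toIntAlgEquiv)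
  · apply hP.fib
    intro q
    exact (hP.fiber_iff f₀ _ _ i h1 q).mpr (hG q)

/-- Noetherian approximation of a morphism of finite presentation of affine schemes with a fibrewise property. -/
theorem approx (hP : FibrewiseProp P) {X S : Scheme.{u}} (f : X ⟶ S) [IsAffine X] [IsAffine S]
    [LocallyOfFinitePresentation f] (hf : P f) :
    ∃ (X₀ S₀ : Scheme.{u}) (f₀ : X₀ ⟶ S₀) (g : S ⟶ S₀) (g' : X ⟶ X₀), IsAffine X₀ ∧ IsAffine S₀ ∧ IsPullback g' f f₀ g ∧
      Algebra.FiniteType ℤ Γ(S₀, ⊤) ∧ LocallyOfFiniteType f₀ ∧ P f₀ := by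
  obtain ⟨X₀, S₀, f₀, g, g', _, _, hpb, hft, hlft⟩ := S1460.result f
  have := hP.baseChange
  let φ : Γ(S₀, ⊤) ⟶ Γ(S, ⊤) := g.appTop
  let _ : Algebra Γ(S₀, ⊤) Γ(S, ⊤) := φ.hom.toAlgebra
  have hw : S.isoSpec.hom ≫ Spec.map φ = g ≫ S₀.isoSpec.hom := Scheme.isoSpec_hom_naturality g
  have h1 : IsPullback g' (f ≫ S.isoSpec.hom) (f₀ ≫ S₀.isoSpec.hom) (Spec.map φ) := by
    refine IsPullback.of_iso hpb (Iso.refl _) (Iso.refl _) S.isoSpec S₀.isoSpec ?_ ?_ ?_ ?_
    · simp
    · simp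
    · simp
    · exact hw.symm
  obtain ⟨X₁, S₁, f₁, g₁, g₁', h2, h3, h4, h5, h6, h7⟩ := approx_Spec hP Γ(S₀, ⊤) Γ(S, ⊤) (f₀ ≫ S₀.isoSpec.hom)
    (f ≫ S.isoSpec.hom) g' h1 ((P.cancel_right_of_respectsIso _ _).mpr hf)
  refine ⟨X₁, S₁, f₁, S.isoSpec.hom ≫ g₁, g₁', h2, h3, ?_, h5, h6, h7⟩
  refine IsPullback.of_iso h4 (Iso.refl _) (Iso.refl _) S.isoSpec.symm (Iso.refl _) ?_ ?_ ?_ ?_
  · simp
  · simp
  · simp
  · simp

end Groth.Agent.Flat2G.ApproxProp
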