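import Groth.Agent.Ega3B.AcyclicBC
import Groth.Agent.Fga.EulerIso
import Groth.Agent.FormalB.PullCoh
import Mathlib.AlgebraicGeometry.Morphisms.Flat
import Mathlib.RingTheory.Flat.FaithfullyFlat.Descent

/-!
# Descent of vanishing of cohomology and of surjectivity on global sections along flat base change

`X` quasi-compact and separated over the affine scheme `S`, `T ⟶ S` flat with `T` affine, `F` quasi-coherent:
`H^{p+1}(X, F) = 0` implies `H^{p+1}(X_T, F_T) = 0`, and conversely if `T ⟶ S` is also surjective.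
-/

set_option autoImplicit false
universe u
open CategoryTheory CategoryTheory.Limits AlgebraicGeometry Opposite TopologicalSpace TensorProduct

namespace Groth.Agent.Flat2G.CohDescent

open Groth.Agent.Ega3B Groth.Agent.Ega3B.CubeData Groth.Agent.Ega3B.CombRes Groth.Agent.Ega3B.CechBC
open Groth.Agent.Ega3B.AcyclicBC Groth.Agent.VarietyB.FlatH0 Groth.Agent.VarietyB.BCAlg

section Algebra

universe v v₁ v₂ v₃ v₁' v₂' v₃'

variable {A : Type u} {B : Type v} [CommRing A] [CommRing B] [Algebra A B]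
  {M₁ : Type v₁} {M₂ : Type v₂} {M₃ : Type v₃} {N₁ : Type v₁'} {N₂ : Type v₂'} {N₃ : Type v₃'}
  [AddCommGroup M₁] [AddCommGroup M₂] [AddCommGroup M₃] [AddCommGroup N₁] [AddCommGroup N₂] [AddCommGroup N₃]
  [Module A M₁] [Module A M₂] [Module A M₃] [Module B N₁] [Module B N₂] [Module B N₃]
  {d₁ : M₁ →ₗ[A] M₂} {d₂ : M₂ →ₗ[A] M₃} {e₁ : N₁ →ₗ[B] N₂} {e₂ : N₂ →ₗ[B] N₃}
  (s₁ : M₁ →ₛₗ[algebraMap A B] N₁) (s₂ : M₂ →ₛₗ[algebraMap A B] N₂) (s₃ : M₃ →ₛₗ[algebraMap A B] N₃)
  (h₁ : ∀ x, e₁ (s₁ x) = s₂ (d₁ x)) (h₂ : ∀ x, e₂ (s₂ x) = s₃ (d₂ x))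
  (b₁ : Function.Bijective (bc s₁)) (b₂ : Function.Bijective (bc s₂)) (b₃ : Function.Bijective (bc s₃))

include h₁ h₂ b₁ b₂ b₃ in
theorem exact_iff_lTensor : Function.Exact e₁ e₂ ↔ Function.Exact (d₁.lTensor B) (d₂.lTensor B) := by
  have c₁ : ∀ x, e₁ (bc s₁ x) = bc s₂ (d₁.lTensor B x) := bc_comm s₁ s₂ d₁ e₁ h₁
  have c₂ : ∀ x, e₂ (bc s₂ x) = bc s₃ (d₂.lTensor B x) := bc_comm s₂ s₃ d₂ e₂ h₂
  constructor
  · intro h x
    have h' := h (bc s₂ x)
    constructor
    · intro hx
      obtain ⟨y, hy⟩ := h'.mp (by rw [c₂, hx, map_zero])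
      obtain ⟨y, rfl⟩ := b₁.2 y
      exact ⟨y, b₂.1 (by rw [← c₁, hy])⟩
    · rintro ⟨y, rfl⟩
      apply b₃.1
      rw [← c₂, map_zero]
      exact h'.mpr ⟨bc s₁ y, c₁ y⟩
  · intro h x
    obtain ⟨x, rfl⟩ := b₂.2 x
    have h' := h x
    constructor
    · intro hx
      obtain ⟨y, rfl⟩ := h'.mp (b₃.1 (by rw [← c₂, hx, map_zero]))
      exact ⟨bc s₁ y, c₁ y⟩
    · rintro ⟨y, hy⟩
      obtain ⟨y, rfl⟩ := b₁.2 y
      have : d₁.lTensor B y = x := b₂.1 (by rw [← c₁, hy])
      rw [c₂, h'.mpr ⟨y, this⟩, map_zero]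

end Algebra

section Scheme

variable {X Y S T : Scheme.{u}} {f : T ⟶ S} {g : Y ⟶ X} {iX : X ⟶ S} {iY : Y ⟶ T}

theorem exists_good_cover [IsAffine S] (iX : X ⟶ S) [QuasiCompact iX] [IsSeparated iX] :
    ∃ (n : ℕ) (U : Fin n → X.Opens), (⨆ i, U i = ⊤) ∧
      ∀ s : Finset (Fin n), s.Nonempty → IsAffineOpen (s.inf U) := by
  have h1 : CompactSpace X := QuasiCompact.compactSpace_of_compactSpace iX
  have h2 : X.IsSeparated := by
    have : IsSeparated (terminal.from X) := by
      have : terminal.from X = iX ≫ terminal.from S := terminal.hom_ext _ _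
      rw [this]
      infer_instance
    exact ⟨this⟩
  exact exists_cover X

/-- Vanishing of higher cohomology is stable under flat base change between affine schemes. -/
theorem subsingleton_of_flat (H : IsPullback g iY iX f) [IsAffine S] [IsAffine T] [Flat f]
    [QuasiCompact iX] [IsSeparated iX] (F : X.Modules) (hF : Coh.IsQCoh F) (p : ℕ)
    (hvan : Subsingleton (Coh.HH X F (p + 1))) :
    Subsingleton (Coh.HH Y ((Scheme.Modules.pullback g).obj F) (p + 1)) := by
  obtain ⟨n, U, hcov, hU⟩ := exists_good_cover iX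
  have hF' : Coh.IsQCoh ((Scheme.Modules.pullback g).obj F) := VarietyB.PullSec.isQCoh_pullback g F hF
  let i0 := algOver f (US := ⊤) (UT := ⊤) le_top
  let i1 := fun n => modC iX F U n
  let i2 := fun n => modC iY ((Scheme.Modules.pullback g).obj F) (pre g U) n
  have hfl : Module.Flat Γ(S, ⊤) Γ(T, ⊤) := f.flat_appLE (isAffineOpen_top S) (isAffineOpen_top T) le_top
  have hbc : ∀ n, Function.Bijective (bc (sC U H.w F n)) := fun n => bijective_bc_sC U H F hF hU n
  have hex : Function.Exact (d iX F U p) (d iX F U (p + 1)) := by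
    intro x
    constructor
    · intro hx
      exact exists_of_vanish F U hF hcov hU p hvan x hx
    · rintro ⟨y, rfl⟩
      exact (cech (X := X.toPresheafedSpace.carrier) U).δ_δ p y
  have hex' : Function.Exact (d iY ((Scheme.Modules.pullback g).obj F) (pre g U) p)
      (d iY ((Scheme.Modules.pullback g).obj F) (pre g U) (p + 1)) :=
    (exact_iff_lTensor (sC U H.w F p) (sC U H.w F (p + 1)) (sC U H.w F (p + 2)) (fun x => d_sC U H.w F p x)
      (fun x => d_sC U H.w F (p + 1) x) (hbc _) (hbc _) (hbc _)).mpr (Module.Flat.lTensor_exact _ hex)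
  refine subsingleton_of_exact _ (pre g U) hF' (pre_cover g U hcov) (pre_affine H U hU) p
      fun x hx => ?_
  exact (hex' x).mp hx

/-- Vanishing of higher cohomology descends along faithfully flat base change between affine schemes. -/
theorem subsingleton_of_faithfullyFlat (H : IsPullback g iY iX f) [IsAffine S] [IsAffine T]
    (hff : (f.appTop).hom.FaithfullyFlat)
    [QuasiCompact iX] [IsSeparated iX] (F : X.Modules) (hF : Coh.IsQCoh F) (p : ℕ)
    (hvan : Subsingleton (Coh.HH Y ((Scheme.Modules.pullback g).obj F) (p + 1))) :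
    Subsingleton (Coh.HH X F (p + 1)) := by
  obtain ⟨n, U, hcov, hU⟩ := exists_good_cover iX
  have hF' : Coh.IsQCoh ((Scheme.Modules.pullback g).obj F) := VarietyB.PullSec.isQCoh_pullback g F hF
  let i0 := algOver f (US := ⊤) (UT := ⊤) le_top
  let i1 := fun n => modC iX F U n
  let i2 := fun n => modC iY ((Scheme.Modules.pullback g).obj F) (pre g U) n
  have hfl : Module.FaithfullyFlat Γ(S, ⊤) Γ(T, ⊤) := by
    have : f.appLE ⊤ ⊤ le_top = f.appTop := Scheme.Hom.appLE_eq_app f
    change (f.appLE ⊤ ⊤ le_top).hom.FaithfullyFlat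
    rw [this]
    exact hff
  have hbc : ∀ n, Function.Bijective (bc (sC U H.w F n)) := fun n => bijective_bc_sC U H F hF hU n
  have hex' : Function.Exact (d iY ((Scheme.Modules.pullback g).obj F) (pre g U) p)
      (d iY ((Scheme.Modules.pullback g).obj F) (pre g U) (p + 1)) := by
    intro x
    constructor
    · intro hx
      exact exists_of_vanish _ (pre g U) hF' (pre_cover g U hcov) (pre_affine H U hU) p hvan x hx
    · rintro ⟨y, rfl⟩
      exact (cech (X := Y.toPresheafedSpace.carrier) (pre g U)).δ_δ p y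
  have hex : Function.Exact (d iX F U p) (d iX F U (p + 1)) :=
    (Module.FaithfullyFlat.lTensor_exact_iff_exact Γ(S, ⊤) Γ(T, ⊤) _ _).mp
      ((exact_iff_lTensor (sC U H.w F p) (sC U H.w F (p + 1)) (sC U H.w F (p + 2)) (fun x => d_sC U H.w F p x)
      (fun x => d_sC U H.w F (p + 1) x) (hbc _) (hbc _) (hbc _)).mp hex')
  refine subsingleton_of_exact _ U hF hcov hU p fun x hx => ?_
  exact (hex x).mp hx

/-- Isomorphic modules have the same vanishing of cohomology. -/
theorem subsingleton_congr {X : Scheme.{u}} {M N : X.Modules} (φ : M ≅ N) (p : ℕ) :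
    Subsingleton (Coh.HH X M p) ↔ Subsingleton (Coh.HH X N p) := by
  have h1 : ∀ x : Coh.HH X M p,
      Fga.EulerIso.HHab (Fga.EulerIso.abMap φ.inv) p (Fga.EulerIso.HHab (Fga.EulerIso.abMap φ.hom) p x) = x :=
    fun x => by rw [← Fga.EulerIso.HHab_comp, ← Fga.EulerIso.abMap_comp, φ.hom_inv_id, Fga.EulerIso.abMap_id,
      Fga.EulerIso.HHab_id]
  have h2 : ∀ x : Coh.HH X N p,
      Fga.EulerIso.HHab (Fga.EulerIso.abMap φ.hom) p (Fga.EulerIso.HHab (Fga.EulerIso.abMap φ.inv) p x) = x :=
    fun x => by rw [← Fga.EulerIso.HHab_comp, ← Fga.EulerIso.abMap_comp, φ.inv_hom_id, Fga.EulerIso.abMap_id,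
      Fga.EulerIso.HHab_id]
  exact ⟨fun h => (Function.LeftInverse.injective h2).subsingleton,
    fun h => (Function.LeftInverse.injective h1).subsingleton⟩

/-- cohomology of the structure sheaf of the base change -/
theorem subsingleton_structure_iff (g : Y ⟶ X) (p : ℕ) :
    Subsingleton (Coh.HH Y ((Scheme.Modules.pullback g).obj (Coh.structureModule X)) p) ↔
      Subsingleton (Coh.HH Y (Coh.structureModule Y) p) := by
  exact subsingleton_congr (FormalB.PullCoh.pullbackUnitIso g) p

theorem subsingleton_HHon_structure_iff (U : X.Opens) (p : ℕ) :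
    Subsingleton (Coh.HHon X (Coh.structureModule X) U p) ↔
      Subsingleton (Coh.HH (U : Scheme.{u}) (Coh.structureModule (U : Scheme.{u})) p) :=
  subsingleton_congr ((Scheme.Modules.restrictFunctorIsoPullback U.ι).app _ ≪≫
    Fga.UnitRestrict.pullbackUnitIso U.ι) p

end Scheme

section Rings

theorem faithfullyFlat_of_isPushout {A B A' B' : CommRingCat.{u}} {φ : A ⟶ B} {a : A ⟶ A'} {b : B ⟶ B'} {φ' : A' ⟶ B'}
    (H : IsPushout φ a b φ') (h : a.hom.FaithfullyFlat) : b.hom.FaithfullyFlat := by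
  algebraize [φ.hom, a.hom, b.hom, φ'.hom, (φ ≫ b).hom]
  have i1 : IsScalarTower A B B' := IsScalarTower.of_algebraMap_eq fun x => rfl
  have i2 : IsScalarTower A A' B' := IsScalarTower.of_algebraMap_eq fun x => by
    change (φ ≫ b).hom x = (a ≫ φ').hom x
    rw [H.w]
  have i3 : Algebra.IsPushout A A' B B' := CommRingCat.isPushout_iff_isPushout.mp H.flip
  exact RingHom.FaithfullyFlat.isStableUnderBaseChange A A' B B' h

theorem surjective_of_isPushout {A B A' B' : CommRingCat.{u}} {φ : A ⟶ B} {a : A ⟶ A'} {b : B ⟶ B'} {φ' : A' ⟶ B'}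
    (H : IsPushout φ a b φ') (h : a.hom.FaithfullyFlat) (hs : Function.Surjective φ'.hom) :
    Function.Surjective φ.hom := by
  algebraize [φ.hom, a.hom, b.hom, φ'.hom, (φ ≫ b).hom]
  have i1 : IsScalarTower A B B' := IsScalarTower.of_algebraMap_eq fun x => rfl
  have i2 : IsScalarTower A A' B' := IsScalarTower.of_algebraMap_eq fun x => by
    change (φ ≫ b).hom x = (a ≫ φ').hom x
    rw [H.w]
  have i3 : Algebra.IsPushout A B A' B' := CommRingCat.isPushout_iff_isPushout.mp H
  exact RingHom.FaithfullyFlat.codescendsAlong_surjective h hs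

theorem injective_of_isPushout {A B A' B' : CommRingCat.{u}} {φ : A ⟶ B} {a : A ⟶ A'} {b : B ⟶ B'} {φ' : A' ⟶ B'}
    (H : IsPushout φ a b φ') (h : a.hom.FaithfullyFlat) (hs : Function.Injective φ'.hom) :
    Function.Injective φ.hom := by
  algebraize [φ.hom, a.hom, b.hom, φ'.hom, (φ ≫ b).hom]
  have i1 : IsScalarTower A B B' := IsScalarTower.of_algebraMap_eq fun x => rfl
  have i2 : IsScalarTower A A' B' := IsScalarTower.of_algebraMap_eq fun x => by
    change (φ ≫ b).hom x = (a ≫ φ').hom x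
    rw [H.w]
  have i3 : Algebra.IsPushout A B A' B' := CommRingCat.isPushout_iff_isPushout.mp H
  exact RingHom.FaithfullyFlat.codescendsAlong_injective h hs

theorem surjective_baseChange {A B A' B' : CommRingCat.{u}} {φ : A ⟶ B} {a : A ⟶ A'} {b : B ⟶ B'} {φ' : A' ⟶ B'}
    (H : IsPushout φ a b φ') (hs : Function.Surjective φ.hom) :
    Function.Surjective φ'.hom := by
  algebraize [φ.hom, a.hom, b.hom, φ'.hom, (φ ≫ b).hom]
  have i1 : IsScalarTower A B B' := IsScalarTower.of_algebraMap_eq fun x => rfl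
  have i2 : IsScalarTower A A' B' := IsScalarTower.of_algebraMap_eq fun x => by
    change (φ ≫ b).hom x = (a ≫ φ').hom x
    rw [H.w]
  have i3 : Algebra.IsPushout A B A' B' := CommRingCat.isPushout_iff_isPushout.mp H
  exact RingHom.surjective_isStableUnderBaseChange A B A' B' hs

theorem bijective_baseChange {A B A' B' : CommRingCat.{u}} {φ : A ⟶ B} {a : A ⟶ A'} {b : B ⟶ B'} {φ' : A' ⟶ B'}
    (H : IsPushout φ a b φ') (hs : Function.Bijective φ.hom) :
    Function.Bijective φ'.hom := by
  have : IsIso φ := (ConcreteCategory.isIso_iff_bijective φ).mpr hs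
  have : IsIso φ' := H.isIso_inr_of_isIso
  exact (ConcreteCategory.isIso_iff_bijective φ').mp this

end Rings

section Pushout

open Groth.Agent.VarietyB.PullSec

variable {X Y S T : Scheme.{u}} {f : T ⟶ S} {g : Y ⟶ X} {iX : X ⟶ S} {iY : Y ⟶ T}

theorem appLE_top_top {X Y : Scheme.{u}} (f : X ⟶ Y) (h : (⊤ : X.Opens) ≤ f ⁻¹ᵁ ⊤) : f.appLE ⊤ ⊤ h = f.appTop :=
  Scheme.Hom.appLE_eq_app f

/-- Flat base change for global functions. -/
theorem isPushout_appTop_of_flat (H : IsPullback g iY iX f) [IsAffine S] [IsAffine T] [Flat f] [CompactSpace X]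
    [QuasiSeparatedSpace X] : IsPushout iX.appTop f.appTop g.appTop iY.appTop := by
  have h1 := (isIso_pushoutSection_iff H (US := ⊤) (UT := ⊤) (UX := ⊤) (UY := ⊤) le_top le_top (by simp)).mp
    (isIso_pushoutSection_of_isQuasiSeparated_of_flat_right H le_top le_top (by simp) (isAffineOpen_top S)
      (isAffineOpen_top T) isCompact_univ isQuasiSeparated_univ)
  convert h1 using 1
  · exact (appLE_top_top iX _).symm
  · exact (appLE_top_top f _).symm
  · exact (appLE_top_top g _).symm
  · exact (appLE_top_top iY _).symm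

/-- sections of the structure sheaf under pullback -/
theorem unitHom_sec (g : Y ⟶ X) {U : X.Opens} {V : Y.Opens} (e : V ≤ g ⁻¹ᵁ U) (m : Γ(X, U)) :
    (Fga.UnitRestrict.pullbackUnitHom g).app V (sec g (Coh.structureModule X) e m) =
      g.appLE U V e m := by
  have h1 := congr($(Fga.UnitRestrict.unit_pullbackUnitHom g).app U m)
  have h2 : (Fga.UnitRestrict.pullbackUnitHom g).app (g ⁻¹ᵁ U)
      (((Scheme.Modules.pullbackPushforwardAdjunction g).unit.app (Coh.structureModule X)).app U m) =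
      g.app U m := h1
  have h3 := congr($((Fga.UnitRestrict.pullbackUnitHom g).mapPresheaf.naturality
    (homOfLE e).op) (((Scheme.Modules.pullbackPushforwardAdjunction g).unit.app (Coh.structureModule X)).app U m))
  refine Eq.trans h3 ?_
  refine Eq.trans (congrArg ((Coh.structureModule Y).presheaf.map (homOfLE e).op) h2) ?_
  rfl

theorem bijective_unitHom (g : Y ⟶ X) (V : Y.Opens) :
    Function.Bijective ((Fga.UnitRestrict.pullbackUnitHom g).app V) := by
  have h1 : IsIso (Fga.UnitRestrict.pullbackUnitHom g) := inferInstance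
  have h2 : IsIso ((Fga.UnitRestrict.pullbackUnitHom g).app V) := inferInstance
  exact (ConcreteCategory.isIso_iff_bijective _).mp h2

theorem isPushout_of_isBC (H : IsPullback g iY iX f) {US : S.Opens} {UT : T.Opens} (hUST : UT ≤ f ⁻¹ᵁ US)
    {UX : X.Opens} (hUSX : UX ≤ iX ⁻¹ᵁ US) {UY : Y.Opens} (e : UY ≤ g ⁻¹ᵁ UX) (e' : UY ≤ iY ⁻¹ᵁ UT)
    (h : IsBC H.w (Coh.structureModule X) hUST hUSX e e') :
    IsPushout (iX.appLE US UX hUSX) (f.appLE US UT hUST) (g.appLE UX UY e) (iY.appLE UT UY e') := by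
  let i1 := algOver f hUST
  let i2 := algOver iX hUSX
  let i3 := algOver g e
  let i4 := algOver iY e'
  let i5 : Algebra Γ(S, US) Γ(Y, UY) := ((g.appLE UX UY e).hom.comp (iX.appLE US UX hUSX).hom).toAlgebra
  have i6 : IsScalarTower Γ(S, US) Γ(X, UX) Γ(Y, UY) := IsScalarTower.of_algebraMap_eq (fun _ => rfl)
  have hw : ∀ a, g.appLE UX UY e (iX.appLE US UX hUSX a) = iY.appLE UT UY e' (f.appLE US UT hUST a) := by
    intro a
    rw [← CommRingCat.comp_apply, ← CommRingCat.comp_apply, Scheme.Hom.appLE_comp_appLE,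
      Scheme.Hom.appLE_comp_appLE]
    simp only [H.w]
  have i7 : IsScalarTower Γ(S, US) Γ(T, UT) Γ(Y, UY) := IsScalarTower.of_algebraMap_eq hw
  let s : Γ(X, UX) →ₛₗ[algebraMap Γ(S, US) Γ(T, UT)] Γ(Y, UY) :=
    { toFun := g.appLE UX UY e
      map_add' := map_add _
      map_smul' := fun a m => by
        rw [Algebra.smul_def, map_mul, Algebra.smul_def]
        exact congrArg (· * g.appLE UX UY e m) (hw a) }
  let j1 := modOver iX (Coh.structureModule X) hUSX
  let j2 := modOver iY ((Scheme.Modules.pullback g).obj (Coh.structureModule X)) e'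
  have key : ∀ z, (Fga.UnitRestrict.pullbackUnitHom g).app UY
      (bc (secS H.w (Coh.structureModule X) hUST hUSX e e') z) = bc s z := by
    intro z
    induction z with
    | zero =>
      rw [map_zero]
      refine (map_zero ((Fga.UnitRestrict.pullbackUnitHom g).app UY).hom).trans ?_
      exact (map_zero (bc s)).symm
    | add x y hx hy =>
      rw [map_add]
      refine (map_add ((Fga.UnitRestrict.pullbackUnitHom g).app UY).hom _ _).trans ?_
      refine (congrArg₂ (· + ·) hx hy).trans ?_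
      exact (map_add (bc s) x y).symm
    | tmul a m =>
      rw [bc_tmul]
      refine (Scheme.Modules.Hom.app_smul (Fga.UnitRestrict.pullbackUnitHom g) (iY.appLE UT UY e' a) _).trans ?_
      refine (congrArg (iY.appLE UT UY e' a • ·) (unitHom_sec g e m)).trans ?_
      exact (bc_tmul s a m).symm
  have hb : Function.Bijective (bc s) := by
    have h1 := (bijective_unitHom g UY).comp h
    refine ⟨fun a b hab => h1.1 ((key a).trans (hab.trans (key b).symm)), fun y => ?_⟩
    obtain ⟨x, hx⟩ := h1.2 y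
    exact ⟨x, (key x).symm.trans hx⟩
  have i8 : Algebra.IsPushout Γ(S, US) Γ(T, UT) Γ(X, UX) Γ(Y, UY) :=
    ⟨(isBaseChange_iff _ s (fun _ => rfl)).mpr hb⟩
  exact (CommRingCat.isPushout_iff_isPushout.mpr i8).flip

/-- Base change for global functions in the acyclic flat case. -/
theorem isPushout_appTop_of_isBC (H : IsPullback g iY iX f) (h : IsBC H.w (Coh.structureModule X)
    (US := ⊤) (UT := ⊤) le_top (UX := ⊤) le_top (UY := ⊤) le_top le_top) :
    IsPushout iX.appTop f.appTop g.appTop iY.appTop := by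
  have h1 := isPushout_of_isBC H _ _ _ _ h
  convert h1 using 1
  · exact (appLE_top_top iX _).symm
  · exact (appLE_top_top f _).symm
  · exact (appLE_top_top g _).symm
  · exact (appLE_top_top iY _).symm

/-- Base change in the affine case. -/
theorem isPushout_appTop_of_isAffine (H : IsPullback g iY iX f) [IsAffine S] [IsAffine T] [IsAffine X] :
    IsPushout iX.appTop f.appTop g.appTop iY.appTop := by
  have h1 := (isIso_pushoutSection_iff H (US := ⊤) (UT := ⊤) (UX := ⊤) (UY := ⊤) le_top le_top (by simp)).mp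
    (isIso_pushoutSection_of_isAffineOpen H le_top le_top (by simp) (isAffineOpen_top S)
      (isAffineOpen_top T) (isAffineOpen_top X))
  convert h1 using 1
  · exact (appLE_top_top iX _).symm
  · exact (appLE_top_top f _).symm
  · exact (appLE_top_top g _).symm
  · exact (appLE_top_top iY _).symm

end Pushout

section Triple

variable {X Y S T X' Y' : Scheme.{u}} {f : T ⟶ S} {gX : X' ⟶ X} {gY : Y' ⟶ Y} {iX : X ⟶ S} {iY : Y ⟶ S}
  {iX' : X' ⟶ T} {iY' : Y' ⟶ T} {φ : X ⟶ Y} {φ' : X' ⟶ Y'}

/-- the comorphism square of `φ'` and `φ` -/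
theorem isPushout_triple (hX : IsPushout iX.appTop f.appTop gX.appTop iX'.appTop)
    (hY : IsPushout iY.appTop f.appTop gY.appTop iY'.appTop) (w : φ ≫ iY = iX) (w' : φ' ≫ iY' = iX')
    (ww : gX ≫ φ = φ' ≫ gY) : IsPushout φ.appTop gY.appTop gX.appTop φ'.appTop := by
  subst w w'
  rw [Scheme.Hom.comp_appTop, Scheme.Hom.comp_appTop] at hX
  refine IsPushout.of_left hX ?_ hY
  rw [← Scheme.Hom.comp_appTop, ← Scheme.Hom.comp_appTop, ww]

end Triple

end Groth.Agent.Flat2G.CohDescent
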