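import Groth.Agent.Flat2G.ContrRed
import Groth.Agent.S0590
import Groth.Agent.S2079
import Groth.Agent.FlatA.ProperApprox

/-!
A proper morphism to an affine scheme is, up to a closed immersion, the base change of a proper morphism to an affine
scheme of finite type over `ℤ`. If the source is of finite type over `S`, then the target can be replaced by an affine
space over `S`.
-/

set_option autoImplicit false
universe u

namespace Groth.Agent.Flat2G.ContrRed

open AlgebraicGeometry CategoryTheory Limits TopologicalSpace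

theorem exists_closed_model {X S : Scheme.{u}} (f : X ⟶ S) [IsProper f] [IsAffine S] :
    ∃ (Z T : Scheme.{u}) (z : Z ⟶ T) (t : S ⟶ T) (h : X ⟶ Z) (w : h ≫ z = f ≫ t), IsAffine T ∧ CompactSpace Z ∧
      IsProper z ∧ LocallyOfFiniteType (specULiftZIsTerminal.from T) ∧ IsClosedImmersion (pullback.lift h f w) := by
  obtain ⟨K, _, _, E₁, cE₁, hcE₁, eE₁, hE1, hE2⟩ := Groth.Agent.S2079.result f
  obtain ⟨k₀⟩ := IsCofiltered.nonempty (C := K)
  let X' := (E₁.obj k₀).left
  let f' : X' ⟶ S := (E₁.obj k₀).hom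
  have hf'1 : IsProper f' := (hE2 k₀).2.1
  have hf'2 : LocallyOfFinitePresentation f' := (hE2 k₀).2.2
  let i : X ⟶ X' := (eE₁.inv ≫ cE₁.π.app k₀).left
  have hi : i ≫ f' = f := Over.w (eE₁.inv ≫ cE₁.π.app k₀)
  have hcl : IsClosedImmersion i := by
    have := (hE2 k₀).1
    dsimp only [i]
    rw [Over.comp_left]
    infer_instance
  obtain ⟨P, _, _, _, D, c, hc, haff, hD, ⟨e⟩⟩ := Groth.Agent.S0590.result S
  have hcomp : ∀ i, CompactSpace (D.obj i) := fun i => (hD i).1
  have hZ : IsNoetherianRing (ULift.{u} ℤ) :=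
    isNoetherianRing_of_ringEquiv ℤ ULift.ringEquiv.symm
  have hZ' : IsLocallyNoetherian (Spec (CommRingCat.of (ULift.{u} ℤ))) := by
    have : IsNoetherianRing (CommRingCat.of (ULift.{u} ℤ)) := hZ
    infer_instance
  have hN : ∀ i, IsLocallyNoetherian (D.obj i) := fun i => by
    have := (hD i).2
    exact LocallyOfFiniteType.isLocallyNoetherian (Limits.IsTerminal.from specULiftZIsTerminal (D.obj i))
  have hqs : ∀ i, QuasiSeparatedSpace (D.obj i) := fun i => by
    have := hN i
    infer_instance
  let g : X' ⟶ c.pt := f' ≫ e.inv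
  obtain ⟨j, Y, ψ, p, hpb, hψ, _⟩ := FlatA.ProperApprox.exists_proper_model D c hc g
  let D' := Over.forget j ⋙ D
  let cD' : Cone D' := c.whisker (Over.forget j)
  have hcD' : IsLimit cD' := (Functor.Initial.isLimitWhiskerEquiv (Over.forget j) c).symm hc
  have haD' : ∀ (a b : Over j) (t : a ⟶ b), IsAffineHom (D'.map t) :=
    fun a b t => haff _ _ _
  have hcomp' : ∀ a : Over j, CompactSpace (D'.obj a) := fun a => hcomp _
  have hqs' : ∀ a : Over j, QuasiSeparatedSpace (D'.obj a) := fun a => hqs _
  have haffc : IsAffine cD'.pt := IsAffine.of_isIso e.hom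
  obtain ⟨l, hl⟩ := Scheme.exists_isAffine_of_isLimit D' cD' hcD'
  let u : X' ⟶ pullback ψ (D.map l.hom) := pullback.lift p (g ≫ c.π.app l.left) (by
    rw [Category.assoc, c.w, hpb.w])
  have hu : IsPullback u g (pullback.snd ψ (D.map l.hom)) (c.π.app l.left) := by
    refine IsPullback.of_right (h₁₂ := pullback.fst ψ (D.map l.hom)) (h₂₂ := D.map l.hom)
      (v₁₃ := ψ) ?_ (pullback.lift_snd _ _ _) (IsPullback.of_hasPullback ψ (D.map l.hom))
    have e1 : u ≫ pullback.fst ψ (D.map l.hom) = p := pullback.lift_fst _ _ _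
    rw [e1, c.w]
    exact hpb
  have hu' : IsPullback u f' (pullback.snd ψ (D.map l.hom)) (e.inv ≫ c.π.app l.left) := by
    refine IsPullback.of_iso hu (Iso.refl _) (Iso.refl _) e (Iso.refl _) ?_ ?_ ?_ ?_
    · rw [Iso.refl_hom, Iso.refl_hom, Category.comp_id, Category.id_comp]
    · rw [Category.assoc, e.inv_hom_id, Category.comp_id, Iso.refl_hom, Category.id_comp]
    · rw [Iso.refl_hom, Iso.refl_hom, Category.comp_id, Category.id_comp]
    · rw [e.hom_inv_id_assoc, Iso.refl_hom, Category.comp_id]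
  have hpr : IsProper (pullback.snd ψ (D.map l.hom)) := inferInstance
  have hqc : QuasiCompact (pullback.snd ψ (D.map l.hom)) := inferInstance
  have hcl2 : CompactSpace (D.obj l.left) := hcomp l.left
  refine ⟨pullback ψ (D.map l.hom), D.obj l.left, pullback.snd ψ (D.map l.hom), e.inv ≫ c.π.app l.left, i ≫ u, ?_, hl,
    QuasiCompact.compactSpace_of_compactSpace (pullback.snd ψ (D.map l.hom)), hpr, (hD l.left).2, ?_⟩
  · rw [Category.assoc, hu'.w, reassoc_of% hi]
  · have h1 : pullback.lift (i ≫ u) f (by rw [Category.assoc, hu'.w, reassoc_of% hi]) = i ≫ hu'.isoPullback.hom := by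
      apply pullback.hom_ext
      · rw [pullback.lift_fst, Category.assoc, hu'.isoPullback_hom_fst]
      · rw [pullback.lift_snd, Category.assoc, hu'.isoPullback_hom_snd, hi]
    rw [h1]
    infer_instance

end Groth.Agent.Flat2G.ContrRed
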