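import Mathlib.AlgebraicGeometry.Morphisms.ClosedImmersion
import Mathlib.AlgebraicGeometry.Morphisms.Proper
import Mathlib.AlgebraicGeometry.Morphisms.Flat

/-!
Closed immersions into a fibre product with an affine scheme: criterion by generators, and descent to a factor of
finite type.
-/

set_option autoImplicit false
universe u

namespace Groth.Agent.Flat2G.ContrRed

open AlgebraicGeometry CategoryTheory Limits TopologicalSpace

/-- A pushout of commutative rings is generated by the images of its two factors. -/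
theorem closure_eq_top {A B C P : CommRingCat.{u}} {f : A ⟶ B} {g : A ⟶ C} {i : B ⟶ P} {j : C ⟶ P}
    (h : IsPushout f g i j) : Subring.closure (Set.range i.hom ∪ Set.range j.hom) = ⊤ := by
  set T := Subring.closure (Set.range i.hom ∪ Set.range j.hom) with hT
  let i' : B ⟶ CommRingCat.of T := CommRingCat.ofHom (i.hom.codRestrict T fun x =>
    Subring.subset_closure (Or.inl ⟨x, rfl⟩))
  let j' : C ⟶ CommRingCat.of T := CommRingCat.ofHom (j.hom.codRestrict T fun x =>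
    Subring.subset_closure (Or.inr ⟨x, rfl⟩))
  let s : CommRingCat.of T ⟶ P := CommRingCat.ofHom T.subtype
  have hs : Function.Injective s.hom := Subtype.val_injective
  have h1 : i' ≫ s = i := rfl
  have h2 : j' ≫ s = j := rfl
  have h3 : f ≫ i' = g ≫ j' := by
    ext x
    have := congrArg (fun k => k.hom x) h.w
    exact this
  have h4 : h.desc i' j' h3 ≫ s = 𝟙 P := by
    apply h.hom_ext
    · rw [h.inl_desc_assoc, h1, Category.comp_id]
    · rw [h.inr_desc_assoc, h2, Category.comp_id]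
  rw [eq_top_iff]
  intro x _
  have h5 := congrArg (fun k => k.hom x) h4
  have h6 : s.hom ((h.desc i' j' h3).hom x) = x := h5
  rw [← h6]
  exact ((h.desc i' j' h3).hom x).2

/-- Image of a pushout. -/
theorem range_comp_eq {A B C P : CommRingCat.{u}} {f : A ⟶ B} {g : A ⟶ C} {i : B ⟶ P} {j : C ⟶ P}
    (h : IsPushout f g i j) {Q : CommRingCat.{u}} (k : P ⟶ Q) :
    Subring.closure (Set.range (i ≫ k).hom ∪ Set.range (j ≫ k).hom) = k.hom.range := by
  have h1 := congrArg (Subring.map k.hom) (closure_eq_top h)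
  rw [RingHom.map_closure, Set.image_union, ← Set.range_comp, ← Set.range_comp] at h1
  rw [← RingHom.range_eq_map] at h1
  exact h1

theorem surjective_iff_closure {A B C P : CommRingCat.{u}} {f : A ⟶ B} {g : A ⟶ C} {i : B ⟶ P} {j : C ⟶ P}
    (h : IsPushout f g i j) {Q : CommRingCat.{u}} (k : P ⟶ Q) :
    Function.Surjective k.hom ↔ Subring.closure (Set.range (i ≫ k).hom ∪ Set.range (j ≫ k).hom) = ⊤ := by
  rw [range_comp_eq h k, RingHom.range_eq_top]

/-- Elements in the subring generated by two images need only finitely many elements. -/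
theorem exists_finset_of_mem_closure {D A : Type*} [CommRing D] (s : Set D) (j : A → D) {x : D}
    (hx : x ∈ Subring.closure (s ∪ Set.range j)) : ∃ E : Finset A, x ∈ Subring.closure (s ∪ j '' (E : Set A)) := by
  classical
  have hmono : ∀ {E F : Finset A}, E ⊆ F → Subring.closure (s ∪ j '' (E : Set A)) ≤ Subring.closure (s ∪ j '' (F : Set A)) :=
    fun {E F} h => Subring.closure_mono (Set.union_subset_union le_rfl (Set.image_mono (by exact_mod_cast h)))
  induction hx using Subring.closure_induction with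
  | mem x hx =>
    rcases hx with hx | ⟨a, rfl⟩
    · exact ⟨∅, Subring.subset_closure (Or.inl hx)⟩
    · exact ⟨{a}, Subring.subset_closure (Or.inr ⟨a, by simp, rfl⟩)⟩
  | zero => exact ⟨∅, zero_mem _⟩
  | one => exact ⟨∅, one_mem _⟩
  | add x y _ _ hx hy =>
    obtain ⟨E, hE⟩ := hx
    obtain ⟨F, hF⟩ := hy
    exact ⟨E ∪ F, add_mem (hmono Finset.subset_union_left hE) (hmono Finset.subset_union_right hF)⟩
  | neg x _ hx =>
    obtain ⟨E, hE⟩ := hx
    exact ⟨E, neg_mem hE⟩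
  | mul x y _ _ hx hy =>
    obtain ⟨E, hE⟩ := hx
    obtain ⟨F, hF⟩ := hy
    exact ⟨E ∪ F, mul_mem (hmono Finset.subset_union_left hE) (hmono Finset.subset_union_right hF)⟩

theorem exists_finset_of_finite {D A : Type*} [CommRing D] (s : Set D) (j : A → D) (G : Finset D)
    (hx : (G : Set D) ⊆ Subring.closure (s ∪ Set.range j)) :
    ∃ E : Finset A, (G : Set D) ⊆ Subring.closure (s ∪ j '' (E : Set A)) := by
  classical
  have h : ∀ x : G, ∃ E : Finset A, x.1 ∈ Subring.closure (s ∪ j '' (E : Set A)) := fun x =>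
    exists_finset_of_mem_closure s j (hx x.2)
  choose E hE using h
  refine ⟨Finset.univ.biUnion E, fun x hx => ?_⟩
  refine Subring.closure_mono (Set.union_subset_union le_rfl (Set.image_mono ?_)) (hE ⟨x, hx⟩)
  intro a ha
  simp only [Finset.coe_biUnion, Set.mem_iUnion]
  exact ⟨⟨x, hx⟩, by simp, ha⟩

theorem surj_aux {X Y : Scheme.{u}} (f : X ⟶ Y) (U V : Y.Opens) (e : V = U) (W : X.Opens) (e' : W = f ⁻¹ᵁ V) :
    Function.Surjective (f.app V ≫ X.presheaf.map (eqToHom e').op).hom ↔ Function.Surjective (f.app U).hom := by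
  subst e
  subst e'
  rw [eqToHom_refl, op_id, X.presheaf.map_id, Category.comp_id]

/-- Criterion for closed immersions on an affine cover of the target. -/
theorem isClosedImmersion_iff_cover {X Y : Scheme.{u}} (f : X ⟶ Y) {ι : Type*} (U : ι → Y.Opens)
    (hU : ∀ i, IsAffineOpen (U i)) (hU' : ⨆ i, U i = ⊤) :
    IsClosedImmersion f ↔ ∀ i, IsAffineOpen (f ⁻¹ᵁ U i) ∧ Function.Surjective (f.app (U i)) := by
  rw [HasAffineProperty.iff_of_iSup_eq_top (P := @IsClosedImmersion) (fun i => (⟨U i, hU i⟩ : Y.affineOpens)) hU']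
  refine forall_congr' fun i => and_congr Iff.rfl ?_
  dsimp only
  rw [morphismRestrict_appTop]
  exact surj_aux f (U i) _ (Scheme.Opens.ι_image_top _) _ _

theorem surj_appLE_iff {X Y : Scheme.{u}} (f : X ⟶ Y) (U : Y.Opens) (W : X.Opens) (e : W = f ⁻¹ᵁ U) :
    Function.Surjective (f.app U).hom ↔ Function.Surjective (f.appLE U W e.le).hom := by
  subst e
  rw [Scheme.Hom.appLE_eq_app]

theorem appLE_comp_top {X Y Z : Scheme.{u}} (f : X ⟶ Y) (g : Y ⟶ Z) (U : X.Opens) :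
    (f ≫ g).appLE ⊤ U le_top = g.appTop ≫ f.appLE ⊤ U le_top :=
  Scheme.Hom.comp_appLE f g ⊤ U le_top

theorem appLE_congr_top {X Y : Scheme.{u}} {f g : X ⟶ Y} (h : f = g) (U : X.Opens) :
    f.appLE ⊤ U le_top = g.appLE ⊤ U le_top := by
  subst h
  rfl

section Crit

variable {X Z T Y : Scheme.{u}} [IsAffine T] [IsAffine Y]

theorem isPushout_sections (z : Z ⟶ T) (t : Y ⟶ T) (U : Z.Opens) (hU : IsAffineOpen U) :
    IsPushout (z.appLE ⊤ U le_top) (t.appLE ⊤ ⊤ le_top)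
      ((pullback.fst z t).appLE U (pullback.fst z t ⁻¹ᵁ U) le_rfl)
      ((pullback.snd z t).appLE ⊤ (pullback.fst z t ⁻¹ᵁ U) le_top) := by
  have H : IsPullback (pullback.fst z t) (pullback.snd z t) z t := IsPullback.of_hasPullback z t
  have hUY : pullback.fst z t ⁻¹ᵁ U = pullback.fst z t ⁻¹ᵁ U ⊓ pullback.snd z t ⁻¹ᵁ ⊤ := by simp
  exact (isIso_pushoutSection_iff H (US := ⊤) (UT := ⊤) (UX := U) le_top le_top hUY).mp
    (isIso_pushoutSection_of_isAffineOpen H le_top le_top hUY (isAffineOpen_top _) (isAffineOpen_top _) hU)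

theorem isClosedImmersion_lift_iff (h : X ⟶ Z) [IsAffineHom h] (f : X ⟶ Y) (z : Z ⟶ T) (t : Y ⟶ T)
    (w : h ≫ z = f ≫ t) {ι : Type*} (U : ι → Z.Opens) (hU : ∀ i, IsAffineOpen (U i)) (hU' : ⨆ i, U i = ⊤) :
    IsClosedImmersion (pullback.lift h f w) ↔ ∀ i, Subring.closure (Set.range (h.app (U i)).hom ∪
      Set.range (f.appLE ⊤ (h ⁻¹ᵁ U i) le_top).hom) = ⊤ := by
  have haff : IsAffineHom (pullback.fst z t) := MorphismProperty.pullback_fst _ _ inferInstance
  have e (i : ι) : h ⁻¹ᵁ U i = pullback.lift h f w ⁻¹ᵁ (pullback.fst z t ⁻¹ᵁ U i) := by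
    rw [← Scheme.Hom.comp_preimage, pullback.lift_fst]
  rw [isClosedImmersion_iff_cover (pullback.lift h f w) (fun i => pullback.fst z t ⁻¹ᵁ U i)
    (fun i => (hU i).preimage _) (by rw [← Scheme.Hom.preimage_iSup, hU']; rfl)]
  refine forall_congr' fun i => ?_
  rw [surj_appLE_iff _ _ _ (e i), surjective_iff_closure (isPushout_sections z t (U i) (hU i))]
  rw [Scheme.Hom.appLE_comp_appLE, Scheme.Hom.appLE_comp_appLE]
  simp only [pullback.lift_fst, pullback.lift_snd, Scheme.Hom.appLE_eq_app]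
  refine and_iff_right ?_
  rw [← e i]
  exact (hU i).preimage h

theorem isAffineHom_of_lift (h : X ⟶ Z) (f : X ⟶ Y) (z : Z ⟶ T) (t : Y ⟶ T)
    (w : h ≫ z = f ≫ t) [IsClosedImmersion (pullback.lift h f w)] : IsAffineHom h := by
  have haff : IsAffineHom (pullback.fst z t) := MorphismProperty.pullback_fst _ _ inferInstance
  have h1 : h = pullback.lift h f w ≫ pullback.fst z t := (pullback.lift_fst _ _ _).symm
  rw [h1]
  infer_instance

theorem exists_finite_affine_cover (Z : Scheme.{u}) [CompactSpace Z] :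
    ∃ (ι : Type u) (_ : Finite ι) (U : ι → Z.Opens), (∀ i, IsAffineOpen (U i)) ∧ ⨆ i, U i = ⊤ := by
  have h : ∀ x : Z, ∃ U : Z.Opens, IsAffineOpen U ∧ x ∈ U := fun x => by
    obtain ⟨U, hU, hx, -⟩ := exists_isAffineOpen_mem_and_subset (X := Z) (x := x) (U := ⊤) trivial
    exact ⟨U, hU, hx⟩
  choose U hU hx using h
  obtain ⟨t, ht⟩ := isCompact_univ.elim_nhds_subcover (fun x => (U x : Set Z))
    (fun x _ => (U x).isOpen.mem_nhds (hx x))
  refine ⟨t, inferInstance, fun i => U i, fun i => hU i, ?_⟩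
  rw [eq_top_iff]
  intro x _
  have := ht.2 (Set.mem_univ x)
  simp only [Set.mem_iUnion] at this
  obtain ⟨i, hi, hxi⟩ := this
  exact Opens.mem_iSup.mpr ⟨⟨i, hi⟩, hxi⟩

/-- A closed immersion of a scheme of finite type over `S` into `Z ×[T] Y` descends to a factor `Y₁` of `Y` over
`S` and `T` as soon as `Γ(Y₁)` hits a certain finite set of functions on `Y`. -/
theorem exists_finset {S : Scheme.{u}} [IsAffine S] [CompactSpace Z] (h : X ⟶ Z) (f : X ⟶ Y) (z : Z ⟶ T) (t : Y ⟶ T)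
    (w : h ≫ z = f ≫ t) [IsClosedImmersion (pullback.lift h f w)] (g : Y ⟶ S) [LocallyOfFiniteType (f ≫ g)] :
    ∃ E : Finset Γ(Y, ⊤), ∀ (Y₁ : Scheme.{u}) [IsAffine Y₁] (y : Y ⟶ Y₁) (t₁ : Y₁ ⟶ T) (g₁ : Y₁ ⟶ S)
      (ht : y ≫ t₁ = t) (_ : y ≫ g₁ = g), (E : Set Γ(Y, ⊤)) ⊆ Set.range y.appTop.hom →
      IsClosedImmersion (pullback.lift h (f ≫ y) (by rw [w, Category.assoc, ht]) : X ⟶ pullback z t₁) := by
  have hh := isAffineHom_of_lift h f z t w
  obtain ⟨ι, _, U, hU, hU'⟩ := exists_finite_affine_cover Z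
  have hcl := (isClosedImmersion_lift_iff h f z t w U hU hU').mp inferInstance
  have hft : ∀ i, ((f ≫ g).appLE ⊤ (h ⁻¹ᵁ U i) le_top).hom.FiniteType := fun i =>
    (f ≫ g).finiteType_appLE (isAffineOpen_top S) ((hU i).preimage h) le_top
  have hG : ∀ i, ∃ G : Finset Γ(X, h ⁻¹ᵁ U i), Subring.closure (Set.range ((f ≫ g).appLE ⊤ (h ⁻¹ᵁ U i) le_top).hom ∪
      (G : Set Γ(X, h ⁻¹ᵁ U i))) = ⊤ := by
    intro i
    algebraize [((f ≫ g).appLE ⊤ (h ⁻¹ᵁ U i) le_top).hom]
    obtain ⟨G, hG⟩ := (hft i).1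
    refine ⟨G, ?_⟩
    rw [eq_top_iff]
    intro x _
    have hx : x ∈ Algebra.adjoin Γ(S, ⊤) (G : Set Γ(X, h ⁻¹ᵁ U i)) := by rw [hG]; trivial
    rw [Algebra.mem_adjoin_iff] at hx
    exact hx
  choose G hG using hG
  have hE : ∀ i, ∃ E : Finset Γ(Y, ⊤), (G i : Set Γ(X, h ⁻¹ᵁ U i)) ⊆ Subring.closure (Set.range (h.app (U i)).hom ∪
      (f.appLE ⊤ (h ⁻¹ᵁ U i) le_top).hom '' (E : Set Γ(Y, ⊤))) := by
    intro i
    refine exists_finset_of_finite _ _ _ ?_
    rw [hcl i]
    exact Set.subset_univ _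
  choose E hE using hE
  classical
  have := Fintype.ofFinite ι
  refine ⟨Finset.univ.biUnion E, ?_⟩
  intro Y₁ _ y t₁ g₁ ht hg hr
  refine (isClosedImmersion_lift_iff h (f ≫ y) z t₁ _ U hU hU').mpr fun i => ?_
  set K := Subring.closure (Set.range (h.app (U i)).hom ∪ Set.range ((f ≫ y).appLE ⊤ (h ⁻¹ᵁ U i) le_top).hom) with hK
  have e1 : (f ≫ y).appLE ⊤ (h ⁻¹ᵁ U i) le_top = y.appTop ≫ f.appLE ⊤ (h ⁻¹ᵁ U i) le_top :=
    appLE_comp_top f y _
  have e2 : (f ≫ g).appLE ⊤ (h ⁻¹ᵁ U i) le_top = g₁.appTop ≫ (f ≫ y).appLE ⊤ (h ⁻¹ᵁ U i) le_top := by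
    have e3 : f ≫ g = (f ≫ y) ≫ g₁ := by rw [Category.assoc, hg]
    rw [appLE_congr_top e3]
    exact appLE_comp_top (f ≫ y) g₁ _
  have h1 : Set.range (h.app (U i)).hom ⊆ K := fun x hx => Subring.subset_closure (Or.inl hx)
  have h2 : (f.appLE ⊤ (h ⁻¹ᵁ U i) le_top).hom '' (E i : Set Γ(Y, ⊤)) ⊆ K := by
    rintro _ ⟨a, ha, rfl⟩
    obtain ⟨b, hb⟩ := hr (by
      simp only [Finset.coe_biUnion, Set.mem_iUnion]
      exact ⟨i, by simp, ha⟩ : a ∈ _)
    refine Subring.subset_closure (Or.inr ⟨b, ?_⟩)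
    rw [e1, ← hb]
    rfl
  have h3 : (G i : Set Γ(X, h ⁻¹ᵁ U i)) ⊆ K := by
    refine (hE i).trans ?_
    have h4 : Subring.closure (Set.range (h.app (U i)).hom ∪
      (f.appLE ⊤ (h ⁻¹ᵁ U i) le_top).hom '' (E i : Set Γ(Y, ⊤))) ≤ K :=
      Subring.closure_le.mpr (Set.union_subset h1 h2)
    exact h4
  rw [eq_top_iff, ← hG i, Subring.closure_le]
  refine Set.union_subset ?_ h3
  rintro _ ⟨a, rfl⟩
  refine Subring.subset_closure (Or.inr ⟨g₁.appTop.hom a, ?_⟩)
  rw [e2]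
  rfl

end Crit

end Groth.Agent.Flat2G.ContrRed
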