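import Mathlib.AlgebraicGeometry.Morphisms.Etale
import Mathlib.AlgebraicGeometry.Morphisms.UniversallyOpen
import Mathlib.RingTheory.Unramified.Locus
import Mathlib.RingTheory.Etale.Kaehler
import Mathlib.RingTheory.Flat.FaithfullyFlat.Algebra
import Groth.Agent.S0114
import Groth.Agent.S1996

/-!
# Étale morphisms descend along étale covers of the source

`etale_of_comp`: if `f : X ⟶ Y` is étale and surjective and `f ≫ q` is étale then `q` is étale.
-/

set_option autoImplicit false
universe u

open AlgebraicGeometry CategoryTheory Limits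

namespace Groth.Agent.Flat2G.EtaleSource

theorem formallyUnramified_ofLocalizationPrime :
    RingHom.OfLocalizationPrime (fun {R S : Type u} [CommRing R] [CommRing S] (f : R →+* S) => f.FormallyUnramified) := by
  intro R S _ _ f H
  algebraize [f]
  change Algebra.FormallyUnramified R S
  rw [Algebra.formallyUnramified_iff_forall]
  intro q
  let p := q.asIdeal.under R
  let := Localization.AtPrime.algebraOfLiesOver p q.asIdeal
  have h : Algebra.FormallyUnramified (Localization.AtPrime p) (Localization.AtPrime q.asIdeal) := H q.asIdeal inferInstance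
  have h2 : Algebra.FormallyUnramified R (Localization.AtPrime p) :=
    Algebra.FormallyUnramified.of_isLocalization p.primeCompl
  exact Algebra.FormallyUnramified.comp R (Localization.AtPrime p) _

open TensorProduct in
theorem formallyUnramified_of_formallyEtale_faithfullyFlat (A B C : Type u) [CommRing A] [CommRing B] [CommRing C]
    [Algebra A B] [Algebra B C] [Algebra A C] [IsScalarTower A B C] [Algebra.FormallyEtale B C]
    [Module.FaithfullyFlat B C] [Algebra.FormallyUnramified A C] : Algebra.FormallyUnramified A B := by
  rw [Algebra.formallyUnramified_iff]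
  have h1 : Subsingleton (C ⊗[B] Ω[B⁄A]) := by
    have := (Algebra.formallyUnramified_iff A C).1 inferInstance
    exact (KaehlerDifferential.tensorKaehlerEquivOfFormallyEtale A B C).toEquiv.subsingleton
  exact Module.FaithfullyFlat.lTensor_reflects_triviality B C _

theorem ringHom_formallyUnramified_of_comp {A B C : Type u} [CommRing A] [CommRing B] [CommRing C]
    [IsLocalRing B] [IsLocalRing C] (ψ : A →+* B) (φ : B →+* C) (hl : IsLocalHom φ) (h1 : φ.Flat) (h2 : φ.FormallyUnramified)
    (h3 : φ.FormallySmooth) (h : (φ.comp ψ).FormallyUnramified) : ψ.FormallyUnramified := by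
  algebraize [φ, ψ, φ.comp ψ]
  have hl : IsLocalHom (algebraMap B C) := hl
  have h4 : Algebra.FormallyEtale B C := by
    rw [Algebra.FormallyEtale.iff_formallyUnramified_and_formallySmooth]
    exact ⟨inferInstance, inferInstance⟩
  have := Module.FaithfullyFlat.of_flat_of_isLocalHom (A := B) (B := C)
  exact formallyUnramified_of_formallyEtale_faithfullyFlat A B C

/-- Flatness descends from a composition along a flat surjective morphism. -/
theorem flat_of_comp {X Y S : Scheme.{u}} (f : X ⟶ Y) (q : Y ⟶ S) [Surjective f] [Flat f]
    [Flat (f ≫ q)] : Flat q := by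
  apply Flat.of_stalkMap
  intro y
  obtain ⟨x, rfl⟩ := f.surjective y
  have h1 : (f.stalkMap x).hom.Flat := Flat.stalkMap f x
  have h2 : ((f ≫ q).stalkMap x).hom.Flat := Flat.stalkMap (f ≫ q) x
  have h3 : (f.stalkMap x).hom.FaithfullyFlat := by
    algebraize [(f.stalkMap x).hom]
    have hl : IsLocalHom (algebraMap (Y.presheaf.stalk (f x)) (X.presheaf.stalk x)) :=
      inferInstanceAs (IsLocalHom (f.stalkMap x).hom)
    have := Module.FaithfullyFlat.of_flat_of_isLocalHom
      (A := Y.presheaf.stalk (f x)) (B := X.presheaf.stalk x)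
    rw [← RingHom.faithfullyFlat_algebraMap_iff] at this
    exact this
  refine Groth.Agent.S1996.ringHom_flat_of_faithfullyFlat_comp _ (f.stalkMap x).hom h3 ?_
  rw [Scheme.Hom.stalkMap_comp] at h2
  exact h2

theorem formallyUnramified_of_comp {X Y S : Scheme.{u}} (f : X ⟶ Y) (q : Y ⟶ S) [Surjective f] [Etale f]
    [FormallyUnramified (f ≫ q)] : FormallyUnramified q := by
  apply HasRingHomProperty.of_stalkMap formallyUnramified_ofLocalizationPrime
  intro y
  obtain ⟨x, rfl⟩ := f.surjective y
  have h1 : (f.stalkMap x).hom.Flat := Flat.stalkMap f x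
  have h2 : ((f ≫ q).stalkMap x).hom.FormallyUnramified := FormallyUnramified.stalkMap (f ≫ q) x
  have h4 : (f.stalkMap x).hom.FormallyUnramified := FormallyUnramified.stalkMap f x
  have h5 : (f.stalkMap x).hom.FormallySmooth := by
    have : f.smoothLocus = ⊤ := f.smoothLocus_eq_top
    have hx : x ∈ f.smoothLocus := by rw [this]; trivial
    exact hx
  have hl : IsLocalHom (f.stalkMap x).hom := inferInstance
  rw [Scheme.Hom.stalkMap_comp] at h2
  exact ringHom_formallyUnramified_of_comp (q.stalkMap (f x)).hom (f.stalkMap x).hom hl h1 h4 h5 h2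

theorem etale_of_comp {X Y S : Scheme.{u}} (f : X ⟶ Y) (q : Y ⟶ S) [Surjective f] [Etale f]
    [Etale (f ≫ q)] : Etale q := by
  have h1 : LocallyOfFinitePresentation q := Groth.Agent.S0114.result f q
  have h2 : Flat q := flat_of_comp f q
  have h3 : FormallyUnramified q := formallyUnramified_of_comp f q
  exact Etale.of_formallyUnramified_of_flat q

end Groth.Agent.Flat2G.EtaleSource
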