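import Groth.Agent.Flat2G.FibAlgQ
import Mathlib.RingTheory.Flat.FaithfullyFlat.Algebra
import Mathlib.RingTheory.EssentialFiniteness
import Mathlib.AlgebraicGeometry.Morphisms.FiniteType

universe u
open CategoryTheory Limits AlgebraicGeometry TensorProduct

namespace Groth.Agent.Flat2G.FibAlgBC

open Groth.Agent.Flat2G.FibAlgGeom Groth.Agent.Flat2G.FibAlgLoc

lemma noeth_of_faithfullyFlat {A B : Type*} [CommRing A] [CommRing B] [Algebra A B]
    [Module.FaithfullyFlat A B] [IsNoetherianRing B] : IsNoetherianRing A := by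
  refine monotone_stabilizes_iff_noetherian.1 fun f ↦ ?_
  let F : ℕ →o Ideal B :=
    ⟨fun n ↦ Ideal.map (algebraMap A B) (f n), fun _ _ h ↦ Ideal.map_mono (f.monotone h)⟩
  obtain ⟨n, hn⟩ := monotone_stabilizes_iff_noetherian.mpr (inferInstanceAs (IsNoetherian B B)) F
  refine ⟨n, fun m hm ↦ ?_⟩
  have := hn m hm
  rw [← Ideal.comap_map_eq_self_of_faithfullyFlat (B := B) (f n),
    ← Ideal.comap_map_eq_self_of_faithfullyFlat (B := B) (f m)]
  exact congr(Ideal.comap _ $this)

lemma noeth_tensor_iff {k K S : Type u} [Field k] [Field K] [Algebra k K]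
    [Algebra.EssFiniteType k K] [CommRing S] [Algebra k S] :
    IsNoetherianRing (K ⊗[k] S) ↔ IsNoetherianRing S := by
  let e := Algebra.TensorProduct.comm k K S
  constructor
  · intro h
    have := isNoetherianRing_of_ringEquiv _ e.toRingEquiv
    exact noeth_of_faithfullyFlat (A := S) (B := S ⊗[k] K)
  · intro h
    have : IsNoetherianRing (S ⊗[k] K) := Algebra.EssFiniteType.isNoetherianRing S _
    exact isNoetherianRing_of_ringEquiv _ e.symm.toRingEquiv

variable {P : ∀ (R : Type u) [CommRing R], Prop}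

/-- geometric base change invariance -/
def GeomInv (P : ∀ (R : Type u) [CommRing R], Prop) : Prop :=
  ∀ (k S : Type u) [Field k] [CommRing S] [Algebra k S] [IsNoetherianRing S] (K : Type u) [Field K]
    [Algebra k K] [Algebra.EssFiniteType k K],
    (∀ (k' : Type u) [Field k'] [Algebra k k'], Module.Finite k k' → P (k' ⊗[k] S)) ↔
    (∀ (K' : Type u) [Field K'] [Algebra K K'], Module.Finite K K' → P (K' ⊗[K] (K ⊗[k] S)))

lemma gq_iff_of_isPushout (hP : RingLocal P) (H : GeomInv P) {k K S T : Type u} [Field k] [Field K]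
    [Algebra k K] [Algebra.EssFiniteType k K] [CommRing S] [CommRing T] [Algebra k S] [Algebra K T]
    [Algebra S T] [Algebra k T] [IsScalarTower k K T] [IsScalarTower k S T]
    [Algebra.IsPushout k K S T] : GQ P (algebraMap k S) ↔ GQ P (algebraMap K T) := by
  let e : K ⊗[k] S ≃ₐ[K] T := Algebra.IsPushout.equiv k K S T
  rw [gq_algebraMap, gq_algebraMap]
  have h1 : IsNoetherianRing T ↔ IsNoetherianRing S := by
    rw [← noeth_tensor_iff (k := k) (K := K) (S := S)]
    exact ⟨fun _ ↦ isNoetherianRing_of_ringEquiv _ e.symm.toRingEquiv,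
      fun _ ↦ isNoetherianRing_of_ringEquiv _ e.toRingEquiv⟩
  rw [h1]
  refine and_congr_right fun hS ↦ ?_
  rw [H k S K]
  refine forall_congr' fun K' ↦ forall_congr' fun _ ↦ forall_congr' fun _ ↦ forall_congr' fun _ ↦ ?_
  let e' := Algebra.TensorProduct.congr (AlgEquiv.refl : K' ≃ₐ[K] K') e
  exact ⟨fun h ↦ hP.of_equiv e'.toRingEquiv h, fun h ↦ hP.of_equiv e'.symm.toRingEquiv h⟩

lemma gq_iff_of_isPushout' (hP : RingLocal P) (H : GeomInv P) {k K : Type u} [Field k] [Field K]
    {S T : CommRingCat.{u}} (φ : CommRingCat.of k ⟶ CommRingCat.of K) (hφ : φ.hom.EssFiniteType)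
    (ψ : CommRingCat.of k ⟶ S) (ψ' : CommRingCat.of K ⟶ T) (φ' : S ⟶ T)
    (h : IsPushout φ ψ ψ' φ') : GQ P ψ.hom ↔ GQ P ψ'.hom := by
  let := φ.hom.toAlgebra
  let := ψ.hom.toAlgebra
  let := ψ'.hom.toAlgebra
  let := φ'.hom.toAlgebra
  let := (φ ≫ ψ').hom.toAlgebra
  have : IsScalarTower k K T := .of_algebraMap_eq fun _ ↦ rfl
  have : IsScalarTower k S T := .of_algebraMap_eq fun x ↦ congr($(h.w) x)
  have : Algebra.EssFiniteType k K := hφ
  have : Algebra.IsPushout k K S T := CommRingCat.isPushout_iff_isPushout.1 h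
  exact gq_iff_of_isPushout hP H (k := k) (K := K) (S := S) (T := T)

lemma essFiniteType_residueFieldMap {X Y : Scheme.{u}} (g : X ⟶ Y) [LocallyOfFiniteType g] (x : X) :
    (g.residueFieldMap x).hom.EssFiniteType :=
  (LocallyOfFiniteType.stalkMap g x).residueFieldMap

theorem fibre_iff_of_isPullback (hP : RingLocal P) (H : GeomInv P) {X Y X' Y' : Scheme.{u}} {f : X ⟶ Y}
    {f' : X' ⟶ Y'} {g' : X' ⟶ X} {g : Y' ⟶ Y} [LocallyOfFiniteType g] [Surjective g]
    (hc : IsPullback g' f' f g) :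
    (∀ y, SA (GQ P) (f.fiberToSpecResidueField y)) ↔
      ∀ y', SA (GQ P) (f'.fiberToSpecResidueField y') := by
  have key (y' : Y') : SA (GQ P) (f.fiberToSpecResidueField (g y')) ↔
      SA (GQ P) (f'.fiberToSpecResidueField y') := by
    refine SA.iff_of_isPullback (GQ.fieldLocal hP) (isField_residueField _) (isField_residueField _)
      (g.residueFieldMap y') ?_ (isPullback_fiberToSpecResidueField_of_isPullback hc y')
    intro S T ψ ψ' φ' h
    exact gq_iff_of_isPushout' hP H (k := Y.residueField (g y')) (K := Y'.residueField y')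
      (g.residueFieldMap y') (essFiniteType_residueFieldMap g y') ψ ψ' φ' h
  refine ⟨fun h y' ↦ (key y').1 (h _), fun h y ↦ ?_⟩
  obtain ⟨y', rfl⟩ := g.surjective y
  exact (key y').2 (h y')

end Groth.Agent.Flat2G.FibAlgBC
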