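import Groth.Agent.Flat2G.FibAlgBC
import Mathlib.AlgebraicGeometry.Morphisms.LocalFlatDescent

/-!
Fppf locality on the target of `flat with Noetherian, geometrically P fibres`.
-/

universe u
open CategoryTheory Limits AlgebraicGeometry TensorProduct

namespace Groth.Agent.Flat2G.FibAlgFppf

open Groth.Agent.Flat2G.FibAlgGeom Groth.Agent.Flat2G.FibAlgLoc Groth.Agent.Flat2G.FibAlgBC

/-- Flatness codescends along faithfully flat ring maps. -/
theorem flat_codescends : RingHom.CodescendsAlong.{u} RingHom.Flat RingHom.FaithfullyFlat := by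
  refine RingHom.CodescendsAlong.mk _ RingHom.Flat.respectsIso fun R S T _ _ _ _ _ h h' ↦ ?_
  rw [RingHom.flat_algebraMap_iff] at h' ⊢
  rw [RingHom.faithfullyFlat_algebraMap_iff] at h
  exact Module.Flat.of_flat_tensorProduct R T S

theorem flat_descends : MorphismProperty.DescendsAlong @Flat
    (@Surjective ⊓ @Flat ⊓ @QuasiCompact : MorphismProperty Scheme.{u}) :=
  HasRingHomProperty.descendsAlong_flat flat_codescends

lemma flat_iff_of_isPullback {X Y X' Y' : Scheme.{u}} {f : X ⟶ Y}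
    {f' : X' ⟶ Y'} {g' : X' ⟶ X} {g : Y' ⟶ Y} [Flat g] [LocallyOfFinitePresentation g]
    [Surjective g] (hc : IsPullback g' f' f g) : Flat f ↔ Flat f' := by
  constructor
  · intro h
    exact MorphismProperty.of_isPullback hc h
  · intro h
    have := flat_descends.{u}
    exact MorphismProperty.of_isPullback_of_descendsAlong (P := @Flat)
      (Q := @Surjective ⊓ @Flat ⊓ @LocallyOfFinitePresentation) hc.flip
      ⟨⟨inferInstance, inferInstance⟩, inferInstance⟩ h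

lemma flat_iff {X Y : Scheme.{u}} (f : X ⟶ Y) :
    (∀ (U : X.Opens) (V : Y.Opens) (_ : IsAffineOpen U) (_ : IsAffineOpen V) (hUV : U ≤ f ⁻¹ᵁ V),
      letI := (f.appLE V U hUV).hom.toAlgebra
      Module.Flat Γ(Y, V) Γ(X, U)) ↔ Flat f := by
  rw [HasRingHomProperty.iff_appLE (P := @Flat)]
  exact ⟨fun H V U hUV ↦ H U.1 V.1 U.2 V.2 hUV, fun H U V hU hV hUV ↦ H ⟨V, hV⟩ ⟨U, hU⟩ hUV⟩

lemma isLocallyNoetherian_of_SA {P : ∀ (R : Type u) [CommRing R], Prop} {Z : Scheme.{u}}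
    {k : CommRingCat.{u}} {h : Z ⟶ Spec k} (H : SA (GQ P) h) : IsLocallyNoetherian Z :=
  ⟨fun U ↦ (H U).1⟩

/-- `f` has locally Noetherian fibres, is flat, and all the fibre algebras are geometrically `P`. -/
def IsPHom (P : ∀ (R : Type u) [CommRing R], Prop) {X Y : Scheme.{u}} (f : X ⟶ Y) : Prop :=
  (∀ y : Y, IsLocallyNoetherian (f.fiber y)) ∧
    ∀ (U : X.Opens) (V : Y.Opens) (_ : IsAffineOpen U) (_ : IsAffineOpen V) (hUV : U ≤ f ⁻¹ᵁ V),
      letI := (f.appLE V U hUV).hom.toAlgebra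
      Module.Flat Γ(Y, V) Γ(X, U) ∧ ∀ (p : Ideal Γ(Y, V)) [p.IsPrime],
        ∀ (k' : Type u) [Field k'] [Algebra p.ResidueField k'], Module.Finite p.ResidueField k' →
          P (k' ⊗[p.ResidueField] (p.Fiber Γ(X, U)))

lemma isPHom_iff {P : ∀ (R : Type u) [CommRing R], Prop} (hP : RingLocal P) {X Y : Scheme.{u}}
    (f : X ⟶ Y) : IsPHom P f ↔
      Flat f ∧ ∀ y, SA (GQ P) (f.fiberToSpecResidueField y) := by
  have h1 : (∀ y : Y, IsLocallyNoetherian (f.fiber y)) ↔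
      ∀ y : Y, SA (GQ (fun R _ ↦ True)) (f.fiberToSpecResidueField y) := by
    refine forall_congr' fun y ↦ ⟨fun h U ↦ ?_, fun h ↦ isLocallyNoetherian_of_SA h⟩
    exact ⟨h.component_noetherian U, fun _ _ _ _ ↦ trivial⟩
  have hT : RingLocal (fun (R : Type u) _ ↦ True) :=
    ⟨fun _ _ ↦ trivial, fun _ _ _ _ _ _ ↦ trivial, fun _ _ _ ↦ trivial⟩
  rw [← flat_iff, ← forall_fiber_iff (GQ.fieldLocal hP)]
  unfold IsPHom
  rw [h1, ← forall_fiber_iff (GQ.fieldLocal hT)]
  constructor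
  · rintro ⟨hN, H⟩
    refine ⟨fun U V hU hV hUV ↦ (H U V hU hV hUV).1, fun U V hU hV hUV p hp ↦ ?_⟩
    let := (f.appLE V U hUV).hom.toAlgebra
    rw [gq_algebraMap]
    have := hN U V hU hV hUV p
    rw [gq_algebraMap] at this
    exact ⟨this.1, (H U V hU hV hUV).2 p⟩
  · intro H
    refine ⟨fun U V hU hV hUV p hp ↦ ?_, fun U V hU hV hUV ↦ ⟨H.1 U V hU hV hUV, fun p hp ↦ ?_⟩⟩
    · have := H.2 U V hU hV hUV p
      rw [gq_algebraMap] at this ⊢
      exact ⟨this.1, fun _ _ _ _ ↦ trivial⟩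
    · have := H.2 U V hU hV hUV p
      rw [gq_algebraMap] at this
      exact this.2

theorem isPHom_iff_of_isPullback {P : ∀ (R : Type u) [CommRing R], Prop} (hP : RingLocal P)
    (H : GeomInv P) {X Y X' Y' : Scheme.{u}} {f : X ⟶ Y}
    {f' : X' ⟶ Y'} {g' : X' ⟶ X} {g : Y' ⟶ Y} [Flat g] [LocallyOfFinitePresentation g]
    [Surjective g] (hc : IsPullback g' f' f g) : IsPHom P f ↔ IsPHom P f' := by
  rw [isPHom_iff hP, isPHom_iff hP, flat_iff_of_isPullback hc, fibre_iff_of_isPullback hP H hc]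

end Groth.Agent.Flat2G.FibAlgFppf
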