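import Mathlib.AlgebraicGeometry.Fiber
import Mathlib.AlgebraicGeometry.Morphisms.FiniteType
import Mathlib.AlgebraicGeometry.Morphisms.RingHomProperties

universe u
open CategoryTheory Limits AlgebraicGeometry

namespace Groth.Agent.Flat2G.FibAlgGeom

variable (Q : ∀ {k S : Type u} [CommRing k] [CommRing S], (k →+* S) → Prop)

/-- A property of ring maps whose source is a field which is local on the target. -/
structure FieldLocal : Prop where
  respectsIso : RingHom.RespectsIso Q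
  away : ∀ {k S : Type u} [CommRing k] [CommRing S] (φ : k →+* S), IsField k → Q φ →
    ∀ (f : S) (S' : Type u) [CommRing S'] [Algebra S S'] [IsLocalization.Away f S'],
      Q ((algebraMap S S').comp φ)
  ofSpan : ∀ {k S : Type u} [CommRing k] [CommRing S] (φ : k →+* S), IsField k →
    ∀ s : Finset S, Ideal.span (s : Set S) = ⊤ →
    (∀ f ∈ s, Q ((algebraMap S (Localization.Away f)).comp φ)) → Q φ

variable {Q}

/-- `SA Q h` : for every affine open `U` of the source, `k → Γ(Z, U)` has `Q`. -/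
def SA (Q : ∀ {k S : Type u} [CommRing k] [CommRing S], (k →+* S) → Prop)
    {Z : Scheme.{u}} {R : CommRingCat.{u}} (h : Z ⟶ Spec R) : Prop :=
  ∀ U : Z.affineOpens, Q (h.appLE ⊤ U le_top).hom

lemma isField_Γ {R : CommRingCat.{u}} (hR : IsField R) : IsField Γ(Spec R, ⊤) :=
  MulEquiv.isField hR (Scheme.ΓSpecIso R).commRingCatIsoToRingEquiv.toMulEquiv

lemma appLE_affineBasicOpen {Z Y : Scheme.{u}} (h : Z ⟶ Y) (U : Z.affineOpens) (f : Γ(Z, U)) :
    h.appLE ⊤ (Z.affineBasicOpen f) le_top = 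
      h.appLE ⊤ U le_top ≫ Z.presheaf.map (homOfLE (Z.basicOpen_le f)).op := by
  rw [Scheme.Hom.appLE_map]
  rfl

lemma SA.of_cover (hQ : FieldLocal Q) {Z : Scheme.{u}} {R : CommRingCat.{u}} (hR : IsField R)
    (h : Z ⟶ Spec R) {ι} (U : ι → Z.affineOpens) (hU : (⨆ i, U i : Z.Opens) = ⊤)
    (H : ∀ i, Q (h.appLE ⊤ (U i) le_top).hom) : SA Q h := by
  intro V
  refine of_affine_open_cover U hU V ?_ ?_ H
  · intro U f hf
    have := U.2.isLocalization_basicOpen f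
    have := hQ.away _ (isField_Γ hR) hf f Γ(Z, Z.basicOpen f)
    rw [appLE_affineBasicOpen]
    exact this
  · intro U s hs H
    refine hQ.ofSpan _ (isField_Γ hR) s hs fun f hf ↦ ?_
    have := U.2.isLocalization_basicOpen f
    have h1 := H ⟨f, hf⟩
    rw [appLE_affineBasicOpen] at h1
    have h2 := hQ.respectsIso.1 _ (IsLocalization.algEquiv (.powers f) Γ(Z, Z.basicOpen f) (Localization.Away f)).toRingEquiv h1
    have h3 : ((IsLocalization.algEquiv (.powers f) Γ(Z, Z.basicOpen f) (Localization.Away f)).toRingEquiv.toRingHom.comp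
      (h.appLE ⊤ U le_top ≫ Z.presheaf.map (homOfLE (Z.basicOpen_le f)).op).hom) =
       (algebraMap Γ(Z, U) (Localization.Away f)).comp (h.appLE ⊤ U le_top).hom := by
      ext x
      exact (IsLocalization.algEquiv (.powers f) Γ(Z, Z.basicOpen f) (Localization.Away f)).commutes _
    rw [← h3]
    exact h2

lemma appLE_comp_openImmersion (hQ : RingHom.RespectsIso Q) {Z Z' Y : Scheme.{u}} (j : Z' ⟶ Z)
    [IsOpenImmersion j] (h : Z ⟶ Y) (U : Z'.Opens) :
    Q ((j ≫ h).appLE ⊤ U le_top).hom ↔ Q (h.appLE ⊤ (j ''ᵁ U) le_top).hom := by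
  have : IsIso (j.appLE (j ''ᵁ U) U (j.preimage_image_eq _).ge) :=
      inferInstanceAs (IsIso (j.app _ ≫
        Z'.presheaf.map (eqToHom (j.preimage_image_eq _).symm).op))
  rw [← Scheme.Hom.appLE_comp_appLE _ _ ⊤ (j ''ᵁ U) U le_top (j.preimage_image_eq _).ge,
      CommRingCat.hom_comp, hQ.cancel_right_isIso]

lemma SA.comp_openImmersion (hQ : RingHom.RespectsIso Q) {Z Z' : Scheme.{u}} {R : CommRingCat.{u}}
    {h : Z ⟶ Spec R} (H : SA Q h) (j : Z' ⟶ Z) [IsOpenImmersion j] : SA Q (j ≫ h) := by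
  intro U
  rw [appLE_comp_openImmersion hQ]
  exact H ⟨j ''ᵁ U, U.2.image_of_isOpenImmersion j⟩

lemma SA.of_openCover (hQ : FieldLocal Q) {Z : Scheme.{u}} {R : CommRingCat.{u}} (hR : IsField R)
    (h : Z ⟶ Spec R) (𝒰 : Z.OpenCover) (H : ∀ i, SA Q (𝒰.f i ≫ h)) : SA Q h := by
  refine SA.of_cover hQ hR h (ι := Σ i : 𝒰.I₀, (𝒰.X i).affineOpens)
    (fun i ↦ ⟨𝒰.f i.1 ''ᵁ i.2, i.2.2.image_of_isOpenImmersion _⟩) ?_ ?_
  · rw [eq_top_iff]
    intro x _
    obtain ⟨y, hy⟩ := 𝒰.covers x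
    obtain ⟨_, ⟨V, hV, rfl⟩, hyV, -⟩ := (𝒰.X _).isBasis_affineOpens.exists_subset_of_mem_open
      (Set.mem_univ y) isOpen_univ
    rw [TopologicalSpace.Opens.mem_iSup]
    exact ⟨⟨_, ⟨V, hV⟩⟩, y, hyV, hy⟩
  · intro i
    rw [← appLE_comp_openImmersion hQ.respectsIso]
    exact H i.1 i.2

lemma SA.iff_openCover (hQ : FieldLocal Q) {Z : Scheme.{u}} {R : CommRingCat.{u}} (hR : IsField R)
    (h : Z ⟶ Spec R) (𝒰 : Z.OpenCover) : SA Q h ↔ ∀ i, SA Q (𝒰.f i ≫ h) :=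
  ⟨fun H i ↦ H.comp_openImmersion hQ.respectsIso _, SA.of_openCover hQ hR h 𝒰⟩

lemma SA.comp_iso (hQ : RingHom.RespectsIso Q) {Z : Scheme.{u}} {R R' : CommRingCat.{u}}
    {h : Z ⟶ Spec R} (e : Spec R ⟶ Spec R') [IsIso e] :
    SA Q (h ≫ e) ↔ SA Q h := by
  refine forall_congr' fun U ↦ ?_
  rw [Scheme.Hom.comp_appLE]
  exact hQ.cancel_left_isIso (e.app ⊤) (h.appLE ⊤ U le_top)

lemma SA.iso_comp (hQ : RingHom.RespectsIso Q) {Z Z' : Scheme.{u}} {R : CommRingCat.{u}}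
    {h : Z ⟶ Spec R} (e : Z' ⟶ Z) [IsIso e] :
    SA Q (e ≫ h) ↔ SA Q h := by
  refine ⟨fun H ↦ ?_, fun H ↦ H.comp_openImmersion hQ _⟩
  have := H.comp_openImmersion hQ (inv e)
  rwa [IsIso.inv_hom_id_assoc] at this

lemma SA.top (hQ : FieldLocal Q) {Z : Scheme.{u}} [IsAffine Z] {R : CommRingCat.{u}} (hR : IsField R)
    {h : Z ⟶ Spec R} : SA Q h ↔ Q h.appTop.hom := by
  constructor
  · intro H
    have := H ⟨⊤, isAffineOpen_top Z⟩
    rw [Scheme.Hom.appTop, Scheme.Hom.app_eq_appLE]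
    exact this
  · intro H
    refine SA.of_cover hQ hR h (ι := Unit) (fun _ ↦ ⟨⊤, isAffineOpen_top Z⟩) (by simp) fun _ ↦ ?_
    rw [Scheme.Hom.appTop, Scheme.Hom.app_eq_appLE] at H
    exact H

lemma SA.Spec_map (hQ : FieldLocal Q) {R S : CommRingCat.{u}} (hR : IsField R)
    (φ : R ⟶ S) : SA Q (Spec.map φ) ↔ Q φ.hom := by
  rw [SA.top hQ hR]
  have : (Spec.map φ).appTop = (Scheme.ΓSpecIso R).hom ≫ φ ≫ (Scheme.ΓSpecIso S).inv := by
    simp
  rw [this, CommRingCat.hom_comp, hQ.respectsIso.cancel_left_isIso, CommRingCat.hom_comp, hQ.respectsIso.cancel_right_isIso]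

lemma SA.iff_of_isPullback_aux (hQ : FieldLocal Q) {k K : CommRingCat.{u}} (hk : IsField k)
    (hK : IsField K) (φ : k ⟶ K)
    (H : ∀ {S T : CommRingCat.{u}} (ψ : k ⟶ S) (ψ' : K ⟶ T) (φ' : S ⟶ T),
      IsPushout φ ψ ψ' φ' → (Q ψ.hom ↔ Q ψ'.hom))
    {Z Z' : Scheme.{u}} {a : Z' ⟶ Z} {h' : Z' ⟶ Spec K} {h : Z ⟶ Spec k}
    (sq : IsPullback a h' h (Spec.map φ)) {S : CommRingCat.{u}} (j : Spec S ⟶ Z) :
    SA Q (j ≫ h) ↔ SA Q (pullback.fst a j ≫ h') := by
  obtain ⟨ψ, hψ⟩ := Spec.map_surjective (j ≫ h)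
  rw [← hψ, SA.Spec_map hQ hk]
  have h1 : IsPullback (Spec.map (pushout.inr φ ψ)) (Spec.map (pushout.inl φ ψ))
      (Spec.map ψ) (Spec.map φ) :=
    ((IsPushout.of_hasPushout φ ψ).op.map Scheme.Spec)
  have h2 : IsPullback (pullback.snd a j) (pullback.fst a j ≫ h') (j ≫ h) (Spec.map φ) :=
    (IsPullback.of_hasPullback a j).flip.paste_vert sq
  rw [← hψ] at h2
  have h3 := IsPullback.isoIsPullback_hom_snd _ _ h2 h1
  rw [← h3, SA.iso_comp hQ.respectsIso, SA.Spec_map hQ hK]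
  exact H _ _ _ (IsPushout.of_hasPushout φ ψ)

/-- Invariance of `SA Q` under a base change of fields for which `Q` is invariant. -/
lemma SA.iff_of_isPullback (hQ : FieldLocal Q) {k K : CommRingCat.{u}} (hk : IsField k)
    (hK : IsField K) (φ : k ⟶ K)
    (H : ∀ {S T : CommRingCat.{u}} (ψ : k ⟶ S) (ψ' : K ⟶ T) (φ' : S ⟶ T),
      IsPushout φ ψ ψ' φ' → (Q ψ.hom ↔ Q ψ'.hom))
    {Z Z' : Scheme.{u}} {a : Z' ⟶ Z} {h' : Z' ⟶ Spec K} {h : Z ⟶ Spec k}
    (sq : IsPullback a h' h (Spec.map φ)) : SA Q h ↔ SA Q h' := by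
  rw [SA.iff_openCover hQ hk h Z.affineCover,
    SA.iff_openCover hQ hK h' (Z.affineCover.pullback₁ a)]
  exact forall_congr' fun i ↦ SA.iff_of_isPullback_aux hQ hk hK φ H sq (Z.affineCover.f i)

lemma SA.arrow_iso (hQ : RingHom.RespectsIso Q) {Z Z' : Scheme.{u}} {R R' : CommRingCat.{u}}
    {h : Z ⟶ Spec R} {h' : Z' ⟶ Spec R'} (e : Arrow.mk h ≅ Arrow.mk h') : SA Q h ↔ SA Q h' := by
  have h1 : h' = inv e.hom.left ≫ h ≫ e.hom.right := by
    rw [IsIso.eq_inv_comp]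
    exact e.hom.w
  rw [h1, SA.iso_comp hQ, SA.comp_iso hQ]

lemma SA.iff_of_isPullback_iso (hQ : RingHom.RespectsIso Q) {k K : CommRingCat.{u}} (φ : k ⟶ K)
    [IsIso φ] {Z Z' : Scheme.{u}} {a : Z' ⟶ Z} {h' : Z' ⟶ Spec K} {h : Z ⟶ Spec k}
    (sq : IsPullback a h' h (Spec.map φ)) : SA Q h ↔ SA Q h' := by
  have : IsIso a := sq.isIso_fst_of_isIso
  refine SA.arrow_iso hQ (Arrow.isoMk (asIso a) (asIso (Spec.map φ)) ?_).symm
  exact sq.w

lemma isField_residueField {Y : Scheme.{u}} (y : Y) : IsField (Y.residueField y) :=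
  Field.toIsField (Y.residueField y)

lemma fiber_baseChange_openImmersion (hQ : RingHom.RespectsIso Q) {X Y X' Y' : Scheme.{u}} {f : X ⟶ Y}
    {f' : X' ⟶ Y'} {g' : X' ⟶ X} {g : Y' ⟶ Y} [IsOpenImmersion g]
    (hc : IsPullback g' f' f g) (y' : Y') :
    SA Q (f.fiberToSpecResidueField (g y')) ↔ SA Q (f'.fiberToSpecResidueField y') :=
  SA.iff_of_isPullback_iso hQ _ (isPullback_fiberToSpecResidueField_of_isPullback hc y')

/-- The map of fibres induced by `j : X' ⟶ X`. -/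
noncomputable def fiberComp {X X' Y : Scheme.{u}} (j : X' ⟶ X) (f : X ⟶ Y) (y : Y) :
    (j ≫ f).fiber y ⟶ f.fiber y :=
  pullback.lift ((j ≫ f).fiberι y ≫ j) ((j ≫ f).fiberToSpecResidueField y)
    (by rw [Category.assoc]; exact (j ≫ f).fiber_fac y)

lemma fiberComp_toSpec {X X' Y : Scheme.{u}} (j : X' ⟶ X) (f : X ⟶ Y) (y : Y) :
    fiberComp j f y ≫ f.fiberToSpecResidueField y = (j ≫ f).fiberToSpecResidueField y :=
  pullback.lift_snd _ _ _

lemma isPullback_fiberComp {X X' Y : Scheme.{u}} (j : X' ⟶ X) (f : X ⟶ Y) (y : Y) :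
    IsPullback ((j ≫ f).fiberι y) (fiberComp j f y) j (f.fiberι y) := by
  refine IsPullback.of_bot (v₂₁ := f.fiberToSpecResidueField y) (h₃₁ := Y.fromSpecResidueField y)
    (v₂₂ := f) ?_ (pullback.lift_fst _ _ _).symm (IsPullback.of_hasPullback f (Y.fromSpecResidueField y))
  rw [fiberComp_toSpec]
  exact IsPullback.of_hasPullback _ _

lemma SA.fiber_comp (hQ : RingHom.RespectsIso Q) {X X' Y : Scheme.{u}} (j : X' ⟶ X)
    [IsOpenImmersion j] (f : X ⟶ Y) (y : Y) (H : SA Q (f.fiberToSpecResidueField y)) :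
    SA Q ((j ≫ f).fiberToSpecResidueField y) := by
  have : IsOpenImmersion (fiberComp j f y) :=
    MorphismProperty.of_isPullback (isPullback_fiberComp j f y) ‹_›
  rw [← fiberComp_toSpec]
  exact H.comp_openImmersion hQ _

lemma SA.fiber_of_openCover (hQ : FieldLocal Q) {X Y : Scheme.{u}} (f : X ⟶ Y) (y : Y)
    (𝒰 : X.OpenCover) (H : ∀ i, SA Q ((𝒰.f i ≫ f).fiberToSpecResidueField y)) :
    SA Q (f.fiberToSpecResidueField y) := by
  refine SA.of_openCover hQ (isField_residueField y) _ (𝒰.pullback₁ (f.fiberι y)) fun i ↦ ?_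
  have h1 := isPullback_fiberComp (𝒰.f i) f y
  have h2 := IsPullback.isoIsPullback_hom_fst _ _ (IsPullback.of_hasPullback (f.fiberι y) (𝒰.f i)) h1.flip
  change SA Q (pullback.fst (f.fiberι y) (𝒰.f i) ≫ _)
  rw [← h2, Category.assoc, SA.iso_comp hQ.respectsIso, fiberComp_toSpec]
  exact H i

lemma isPullback_comp_mono {Z Y' Y : Scheme.{u}} (g : Z ⟶ Y') (i : Y' ⟶ Y) [Mono i] :
    IsPullback (𝟙 Z) g (g ≫ i) i := by
  have h1 : IsPullback (𝟙 Z) g g (𝟙 Y') := IsPullback.of_horiz_isIso ⟨by simp⟩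
  have h2 : IsPullback (𝟙 Y') (𝟙 Y') i i := IsKernelPair.id_of_mono i
  have := h1.paste_vert h2
  rwa [Category.comp_id] at this

lemma SA.fiber_comp_openImmersion_iff (hQ : RingHom.RespectsIso Q) {Z Y' Y : Scheme.{u}} (g : Z ⟶ Y')
    (i : Y' ⟶ Y) [IsOpenImmersion i] (y' : Y') :
    SA Q ((g ≫ i).fiberToSpecResidueField (i y')) ↔ SA Q (g.fiberToSpecResidueField y') :=
  fiber_baseChange_openImmersion hQ (f := g ≫ i) (f' := g) (g' := 𝟙 _) (g := i)
    (isPullback_comp_mono g i) y'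

lemma SA.fiber_Spec (hQ : FieldLocal Q) (R S : Type u) [CommRing R] [CommRing S] [Algebra R S]
    (p : PrimeSpectrum R) :
    SA Q ((Spec.map (CommRingCat.ofHom <| algebraMap R S)).fiberToSpecResidueField p) ↔
      Q (algebraMap p.asIdeal.ResidueField (p.asIdeal.Fiber S)) := by
  rw [SA.arrow_iso hQ.respectsIso (Spec.fiberToSpecResidueFieldIso R S p), SA.Spec_map hQ]
  · rfl
  · exact Field.toIsField p.asIdeal.ResidueField

lemma SA.fiber_Spec' (hQ : FieldLocal Q) {R S : CommRingCat.{u}} (φ : R ⟶ S)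
    (p : Ideal R) [p.IsPrime] :
    SA Q ((Spec.map φ).fiberToSpecResidueField ⟨p, ‹_›⟩) ↔
      (letI := φ.hom.toAlgebra
      Q (algebraMap p.ResidueField (p.Fiber S))) := by
  let := φ.hom.toAlgebra
  exact SA.fiber_Spec hQ R S ⟨p, ‹_›⟩

lemma SA.fiber_affine_aux (hQ : FieldLocal Q) {X Y : Scheme.{u}} (f : X ⟶ Y)
    (H : ∀ (U : X.Opens) (V : Y.Opens) (_ : IsAffineOpen U) (_ : IsAffineOpen V) (hUV : U ≤ f ⁻¹ᵁ V),
      letI := (f.appLE V U hUV).hom.toAlgebra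
      ∀ (p : Ideal Γ(Y, V)) [p.IsPrime], Q (algebraMap p.ResidueField (p.Fiber Γ(X, U))))
    {V : Y.Opens} (hV : IsAffineOpen V) (p : PrimeSpectrum Γ(Y, V))
    {S : CommRingCat.{u}} (k : Spec S ⟶ X) [IsOpenImmersion k] (g : Spec S ⟶ Spec Γ(Y, V))
    (hk : g ≫ hV.fromSpec = k ≫ f) :
    SA Q ((k ≫ f).fiberToSpecResidueField (hV.fromSpec p)) := by
  have hU : IsAffineOpen k.opensRange := isAffineOpen_opensRange k
  have hUV : k.opensRange ≤ f ⁻¹ᵁ V := by
    rintro _ ⟨x, rfl⟩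
    change (k ≫ f) x ∈ V
    rw [← hk]
    have : hV.fromSpec (g x) ∈ Set.range hV.fromSpec := ⟨_, rfl⟩
    rw [hV.range_fromSpec] at this
    exact this
  have h2 := IsAffineOpen.SpecMap_appLE_fromSpec f hV hU hUV
  have h3 : SA Q ((hU.fromSpec ≫ f).fiberToSpecResidueField (hV.fromSpec p)) := by
    rw [← h2, SA.fiber_comp_openImmersion_iff hQ.respectsIso]
    exact (SA.fiber_Spec' hQ (f.appLE V k.opensRange hUV) p.asIdeal).2 (H _ _ hU hV hUV p.asIdeal)
  obtain ⟨e, he⟩ : ∃ e : Spec S ⟶ Spec Γ(X, k.opensRange), e ≫ hU.fromSpec = k :=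
    ⟨IsOpenImmersion.lift hU.fromSpec k (by rw [hU.range_fromSpec]; exact le_rfl),
      IsOpenImmersion.lift_fac _ _ _⟩
  have he' : IsOpenImmersion e := by
    have : IsOpenImmersion (e ≫ hU.fromSpec) := by rw [he]; infer_instance
    exact IsOpenImmersion.of_comp e hU.fromSpec
  have h4 := SA.fiber_comp hQ.respectsIso e _ _ h3
  rwa [← Category.assoc, he] at h4

/-- The property `Q` of all the fibre algebras of the ring maps between affine opens is the same as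
`SA Q` for all the fibres. -/
theorem forall_fiber_iff (hQ : FieldLocal Q) {X Y : Scheme.{u}} (f : X ⟶ Y) :
    (∀ (U : X.Opens) (V : Y.Opens) (_ : IsAffineOpen U) (_ : IsAffineOpen V) (hUV : U ≤ f ⁻¹ᵁ V),
      letI := (f.appLE V U hUV).hom.toAlgebra
      ∀ (p : Ideal Γ(Y, V)) [p.IsPrime], Q (algebraMap p.ResidueField (p.Fiber Γ(X, U)))) ↔
    ∀ y, SA Q (f.fiberToSpecResidueField y) := by
  constructor
  · intro H y
    obtain ⟨_, ⟨V, hV, rfl⟩, hyV, -⟩ := Y.isBasis_affineOpens.exists_subset_of_mem_open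
      (Set.mem_univ y) isOpen_univ
    obtain ⟨p, rfl⟩ : ∃ p, hV.fromSpec p = y := by
      have := hV.range_fromSpec
      exact this.ge hyV
    have hsq := IsPullback.of_hasPullback f hV.fromSpec
    rw [fiber_baseChange_openImmersion hQ.respectsIso hsq]
    refine SA.fiber_of_openCover hQ _ _ (pullback f hV.fromSpec).affineCover fun i ↦ ?_
    rw [← SA.fiber_comp_openImmersion_iff hQ.respectsIso _ hV.fromSpec]
    have hk : ((pullback f hV.fromSpec).affineCover.f i ≫ pullback.snd f hV.fromSpec) ≫ hV.fromSpec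
      = ((pullback f hV.fromSpec).affineCover.f i ≫ pullback.fst f hV.fromSpec) ≫ f := by
      simp only [Category.assoc, pullback.condition]
    rw [hk]
    have : IsOpenImmersion (pullback.fst f hV.fromSpec) := inferInstance
    have : IsOpenImmersion ((pullback f hV.fromSpec).affineCover.f i) := inferInstance
    have : IsOpenImmersion ((pullback f hV.fromSpec).affineCover.f i ≫ pullback.fst f hV.fromSpec) :=
      inferInstance
    exact @SA.fiber_affine_aux _ hQ _ _ f H _ hV p _ _ this _ hk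
  · intro H U V hU hV hUV p hp
    have h1 := (H (hV.fromSpec ⟨p, hp⟩)).fiber_comp hQ.respectsIso hU.fromSpec
    have h2 := IsAffineOpen.SpecMap_appLE_fromSpec f hV hU hUV
    rw [← h2, SA.fiber_comp_openImmersion_iff hQ.respectsIso] at h1
    exact (SA.fiber_Spec' hQ (f.appLE V U hUV) p).1 h1

end Groth.Agent.Flat2G.FibAlgGeom
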