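import Groth.Prelude.Def_Found
import Groth.Prelude.Def_EGA4b
import Groth.Agent.Flat2G.FibAlgGeom
import Mathlib.AlgebraicGeometry.Noetherian
import Mathlib.RingTheory.Localization.BaseChange

universe u
open CategoryTheory Limits AlgebraicGeometry TensorProduct

namespace Groth.Agent.Flat2G.FibAlgLoc

open Groth.Agent.Flat2G.FibAlgGeom

/-- A property of rings local in the Zariski topology. -/
structure RingLocal (P : ∀ (R : Type u) [CommRing R], Prop) : Prop where
  of_equiv : ∀ {R R' : Type u} [CommRing R] [CommRing R'], (R ≃+* R') → P R → P R'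
  away : ∀ {R : Type u} [CommRing R], P R → ∀ (f : R) (R' : Type u) [CommRing R'] [Algebra R R']
    [IsLocalization.Away f R'], P R'
  ofSpan : ∀ {R : Type u} [CommRing R], ∀ s : Finset R, Ideal.span (s : Set R) = ⊤ →
    (∀ f ∈ s, P (Localization.Away f)) → P R

lemma RingLocal.and {P Q : ∀ (R : Type u) [CommRing R], Prop} (hP : RingLocal P)
    (hQ : RingLocal Q) : RingLocal (fun R _ ↦ P R ∧ Q R) where
  of_equiv e h := ⟨hP.of_equiv e h.1, hQ.of_equiv e h.2⟩
  away h f R' _ _ _ := ⟨hP.away h.1 f R', hQ.away h.2 f R'⟩
  ofSpan s hs H := ⟨hP.ofSpan s hs fun f hf ↦ (H f hf).1, hQ.ofSpan s hs fun f hf ↦ (H f hf).2⟩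

/-- A property of rings defined by its local rings is local. -/
lemma RingLocal.of_localRings {L : ∀ (R : Type u) [CommRing R], Prop}
    (hL : ∀ {R R' : Type u} [CommRing R] [CommRing R'], (R ≃+* R') → L R → L R') :
    RingLocal (fun R _ ↦ ∀ (p : Ideal R) [p.IsPrime], L (Localization.AtPrime p)) where
  of_equiv {R R'} _ _ e h p _ :=
    hL (IsLocalization.ringEquivOfRingEquiv
      (Localization.AtPrime (p.comap e)) (Localization.AtPrime p) e (e.map_primeCompl_comap_eq p))
      (h (p.comap e))
  away {R} _ h f R' _ _ _ q _ := by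
    have := IsLocalization.isLocalization_isLocalization_atPrime_isLocalization
      (Submonoid.powers f) (Localization.AtPrime q) q
    exact hL (IsLocalization.algEquiv (q.comap (algebraMap R R')).primeCompl
      (Localization.AtPrime (q.comap (algebraMap R R'))) (Localization.AtPrime q)).toRingEquiv
      (h _)
  ofSpan {R} _ s hs H p hp := by
    obtain ⟨f, hf, hfp⟩ : ∃ f ∈ s, f ∉ p := by
      by_contra hcon
      push Not at hcon
      apply hp.ne_top
      rw [eq_top_iff, ← hs, Ideal.span_le]
      exact hcon
    have hdisj : Disjoint (Submonoid.powers f : Set R) (p : Set R) := by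
      rw [Set.disjoint_left]
      rintro _ ⟨n, rfl⟩ hn
      exact hfp (hp.mem_of_pow_mem _ hn)
    let q : Ideal (Localization.Away f) := p.map (algebraMap R (Localization.Away f))
    have hq : q.IsPrime := IsLocalization.isPrime_of_isPrime_disjoint (.powers f) _ p hp hdisj
    have hqp : q.comap (algebraMap R (Localization.Away f)) = p :=
      IsLocalization.comap_map_of_isPrime_disjoint (.powers f) _ hp hdisj
    have := IsLocalization.isLocalization_isLocalization_atPrime_isLocalization
      (Submonoid.powers f) (Localization.AtPrime q) q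
    simp only [hqp] at this
    exact hL (IsLocalization.algEquiv p.primeCompl
      (Localization.AtPrime q) (Localization.AtPrime p)).toRingEquiv (H f hf q)

lemma RingLocal.isNoetherianRing : RingLocal (fun R _ ↦ IsNoetherianRing R) where
  of_equiv e h := isNoetherianRing_of_ringEquiv _ e
  away {R} _ h f R' _ _ _ := IsLocalization.isNoetherianRing (.powers f) R' h
  ofSpan s hs H := isNoetherianRing_of_away s hs fun f ↦ H f.1 f.2

lemma RingLocal.isRegularRing : RingLocal (fun R _ ↦ IsRegularRing R) := by
  have h := RingLocal.isNoetherianRing.and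
    (RingLocal.of_localRings (L := fun R _ ↦ IsRegularLocalRing R) fun e h ↦ .of_ringEquiv e)
  convert! h with R _
  exact ⟨fun h ↦ ⟨inferInstance, fun p _ ↦ inferInstance⟩, fun h ↦
    have := h.1; isRegularRing_iff.2 h.2⟩

lemma RingLocal.isNormalRing : RingLocal (fun R _ ↦ EGA4.IsNormalRing R) := by
  refine RingLocal.of_localRings (L := fun R _ ↦ IsDomain R ∧ IsIntegrallyClosed R) ?_
  rintro R R' _ _ e ⟨h1, h2⟩
  exact ⟨e.symm.toMulEquiv.isDomain _, .of_equiv e⟩

end Groth.Agent.Flat2G.FibAlgLoc
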