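import Groth.Agent.Flat2G.FibAlgLoc

universe u
open CategoryTheory Limits AlgebraicGeometry TensorProduct

namespace Groth.Agent.Flat2G.FibAlgLoc

open Groth.Agent.Flat2G.FibAlgGeom

/-- The property `Noetherian and geometrically P`. -/
def GQ (P : ∀ (R : Type u) [CommRing R], Prop) {k S : Type u} [CommRing k] [CommRing S]
    (φ : k →+* S) : Prop :=
  letI := φ.toAlgebra
  IsNoetherianRing S ∧ ∀ (k' : Type u) [Field k'] [Algebra k k'], Module.Finite k k' → P (k' ⊗[k] S)

variable {P : ∀ (R : Type u) [CommRing R], Prop}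

lemma gq_algebraMap {k S : Type u} [CommRing k] [CommRing S] [Algebra k S] :
    GQ P (algebraMap k S) ↔ IsNoetherianRing S ∧
      ∀ (k' : Type u) [Field k'] [Algebra k k'], Module.Finite k k' → P (k' ⊗[k] S) := by
  have h : (algebraMap k S).toAlgebra = ‹Algebra k S› := Algebra.algebra_ext _ _ fun _ ↦ rfl
  unfold GQ
  rw [h]

lemma awayTensor {k S k' : Type u} [CommRing k] [CommRing S] [Algebra k S] [CommRing k']
    [Algebra k k'] (f : S) (S' : Type u) [CommRing S'] [Algebra k S'] [Algebra S S']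
    [IsScalarTower k S S'] [IsLocalization.Away f S'] :
    Nonempty (k' ⊗[k] S' ≃+* Localization.Away (1 ⊗ₜ[k] f : k' ⊗[k] S)) := by
  let ψ := Algebra.TensorProduct.map (AlgHom.id k' k') (IsScalarTower.toAlgHom k S S')
  let : Algebra (k' ⊗[k] S) (k' ⊗[k] S') := ψ.toRingHom.toAlgebra
  have : IsScalarTower k' (k' ⊗[k] S) (k' ⊗[k] S') := .of_algebraMap_eq' ψ.comp_algebraMap.symm
  have h := IsLocalization.tensorProduct_tensorProduct_right k k' (Submonoid.powers f) S' (by
    ext; simp [RingHom.algebraMap_toAlgebra, ψ])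
  rw [Submonoid.map_powers] at h
  have h' : IsLocalization.Away (1 ⊗ₜ[k] f : k' ⊗[k] S) (k' ⊗[k] S') := h
  exact ⟨(IsLocalization.algEquiv (.powers (1 ⊗ₜ[k] f : k' ⊗[k] S)) (k' ⊗[k] S')
        (Localization.Away (1 ⊗ₜ[k] f : k' ⊗[k] S))).toRingEquiv⟩

lemma GQ.away_aux (hP : RingLocal P) {k S : Type u} [CommRing k] [CommRing S] (φ : k →+* S) (f : S)
    (S' : Type u) [CommRing S'] [Algebra S S'] [IsLocalization.Away f S']
    (h : GQ P ((algebraMap S S').comp φ)) (k' : Type u) [Field k'] [Algebra k k']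
    (hk' : Module.Finite k k') :
    letI := φ.toAlgebra
    P (Localization.Away (1 ⊗ₜ[k] f : k' ⊗[k] S)) := by
  obtain ⟨h1, h2⟩ := h
  let := φ.toAlgebra
  let := ((algebraMap S S').comp φ).toAlgebra
  have : IsScalarTower k S S' := .of_algebraMap_eq fun r ↦ rfl
  obtain ⟨e⟩ := awayTensor (k' := k') (k := k) f S'
  exact hP.of_equiv e (h2 k' hk')

lemma GQ.fieldLocal (hP : RingLocal P) : FieldLocal (GQ P) where
  respectsIso := by
    constructor
    · intro R S T _ _ _ f e ⟨h1, h2⟩
      let := f.toAlgebra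
      let := (e.toRingHom.comp f).toAlgebra
      refine ⟨isNoetherianRing_of_ringEquiv _ e, fun k' _ _ hk' ↦ ?_⟩
      let e' : S ≃ₐ[R] T := AlgEquiv.ofRingEquiv (f := e) fun r ↦ rfl
      exact hP.of_equiv (Algebra.TensorProduct.congr (AlgEquiv.refl : k' ≃ₐ[R] k') e').toRingEquiv
        (h2 k' hk')
    · intro R S T _ _ _ f e ⟨h1, h2⟩
      let := f.toAlgebra
      let := (f.comp e.toRingHom).toAlgebra
      let := e.toRingHom.toAlgebra
      refine ⟨h1, fun k' _ _ hk' ↦ ?_⟩
      let : Algebra S k' := ((algebraMap R k').comp e.symm.toRingHom).toAlgebra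
      have : IsScalarTower R S k' := .of_algebraMap_eq fun r ↦ by
        simp [RingHom.algebraMap_toAlgebra]
      have : IsScalarTower R S T := .of_algebraMap_eq fun r ↦ by
        simp [RingHom.algebraMap_toAlgebra]
      have : Module.Finite S k' := Module.Finite.of_restrictScalars_finite R S k'
      have hc : TensorProduct.CompatibleSMul R S k' T := ⟨fun s m n ↦ by
        obtain ⟨r, rfl⟩ := e.surjective s
        have h3 : e r = algebraMap R S r := rfl
        rw [h3, algebraMap_smul, algebraMap_smul, TensorProduct.smul_tmul]⟩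
      exact hP.of_equiv (Algebra.TensorProduct.equivOfCompatibleSMul R S R k' T).toRingEquiv
        (h2 k' this)
  away {k S} _ _ φ hk h f S' _ _ _ := by
    obtain ⟨h1, h2⟩ := h
    let := φ.toAlgebra
    let := ((algebraMap S S').comp φ).toAlgebra
    have : IsScalarTower k S S' := .of_algebraMap_eq fun r ↦ rfl
    refine ⟨RingLocal.isNoetherianRing.away h1 f S', fun k' _ _ hk' ↦ ?_⟩
    obtain ⟨e⟩ := awayTensor (k' := k') (k := k) f S'
    exact hP.of_equiv e.symm (hP.away (h2 k' hk') (1 ⊗ₜ f) _)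
  ofSpan {k S} _ _ φ hk s hs H := by
    let := φ.toAlgebra
    refine ⟨RingLocal.isNoetherianRing.ofSpan s hs fun f hf ↦ (H f hf).1, fun k' _ _ hk' ↦ ?_⟩
    classical
    refine hP.ofSpan (s.image (Algebra.TensorProduct.includeRight : S →ₐ[k] k' ⊗[k] S)) ?_ ?_
    · rw [Finset.coe_image]
      have := congr(Ideal.map (Algebra.TensorProduct.includeRight : S →ₐ[k] k' ⊗[k] S) $hs)
      rw [Ideal.map_span, Ideal.map_top] at this
      exact this
    · intro g hg
      obtain ⟨f, hf, rfl⟩ := Finset.mem_image.1 hg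
      exact GQ.away_aux hP φ f (Localization.Away f) (H f hf) k' hk'

end Groth.Agent.Flat2G.FibAlgLoc
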