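import Mathlib.AlgebraicGeometry.Morphisms.FlatRank
import Mathlib.AlgebraicGeometry.ZariskisMainTheorem
import Mathlib.LinearAlgebra.Dimension.Basic

/-!
# Ranks of rings of sections over a field, additivity for disjoint opens
-/

set_option autoImplicit false
universe u

open AlgebraicGeometry CategoryTheory Limits TopologicalSpace

namespace Groth.Agent.Flat2G.FibreDegreeA

section ring

variable {K A B C : Type u} [Field K] [CommRing A] [CommRing B] [CommRing C]

/-- The rank of the target of a ring homomorphism out of a field. -/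
noncomputable def rk (φ : K →+* A) : Cardinal.{u} :=
  letI := φ.toAlgebra
  Module.rank K A

lemma rk_comp_surjective (φ : K →+* A) (e : A →+* B) (he : Function.Surjective e) :
    rk (e.comp φ) ≤ rk φ := by
  letI := φ.toAlgebra
  letI := (e.comp φ).toAlgebra
  let e' : A →ₐ[K] B := { e with commutes' := fun _ => rfl }
  exact LinearMap.rank_le_of_surjective e'.toLinearMap he

lemma rk_comp_bijective (φ : K →+* A) (e : A →+* B) (he : Function.Bijective e) :
    rk (e.comp φ) = rk φ := by
  letI := φ.toAlgebra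
  letI := (e.comp φ).toAlgebra
  let e' : A →ₐ[K] B := { e with commutes' := fun _ => rfl }
  exact (LinearEquiv.ofBijective e'.toLinearMap he).rank_eq.symm

lemma rk_prod (φ : K →+* A) (a : A →+* B) (b : A →+* C)
    (h : Function.Bijective (fun x => (a x, b x))) :
    rk φ = rk (a.comp φ) + rk (b.comp φ) := by
  letI := φ.toAlgebra
  letI := (a.comp φ).toAlgebra
  letI := (b.comp φ).toAlgebra
  let a' : A →ₐ[K] B := { a with commutes' := fun _ => rfl }
  let b' : A →ₐ[K] C := { b with commutes' := fun _ => rfl }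
  have e : A ≃ₗ[K] B × C := LinearEquiv.ofBijective (a'.toLinearMap.prod b'.toLinearMap) h
  have := e.rank_eq
  rw [rank_prod'] at this
  exact this

lemma one_le_rk (φ : K →+* A) [Nontrivial A] : 1 ≤ rk φ := by
  letI := φ.toAlgebra
  rw [Cardinal.one_le_iff_pos]
  exact rank_pos

lemma rk_eq_finrank (φ : K →+* A) (h : φ.Finite) (x : PrimeSpectrum K) :
    rk φ = (φ.finrank x : Cardinal.{u}) := by
  letI := φ.toAlgebra
  haveI : Module.Finite K A := h
  change Module.rank K A = ((Module.rankAtStalk A x : ℕ) : Cardinal)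
  rw [Module.rankAtStalk_eq_finrank_of_free]
  simp [Module.finrank_eq_rank]

end ring

section scheme

variable {K : Type u} [Field K] {Z : Scheme.{u}} (q : Z ⟶ Spec (CommRingCat.of K))

/-- The structure map from `K` to the sections over an open. -/
noncomputable def strMap (U : Z.Opens) : K →+* Γ(Z, U) :=
  ((Scheme.ΓSpecIso (CommRingCat.of K)).inv ≫ q.appLE ⊤ U le_top).hom

/-- The rank over `K` of the ring of sections over an open. -/
noncomputable def rkS (U : Z.Opens) : Cardinal.{u} := rk (strMap q U)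

lemma strMap_comp {U V : Z.Opens} (h : V ≤ U) :
    (Z.presheaf.map (homOfLE h).op).hom.comp (strMap q U) = strMap q V := by
  rw [strMap, strMap, ← CommRingCat.hom_comp, Category.assoc, Scheme.Hom.appLE_map]

lemma rkS_top_eq :
    rkS q ⊤ = (letI := ((Scheme.ΓSpecIso (CommRingCat.of K)).inv ≫ q.appTop).hom.toAlgebra
      Module.rank K (Γ(Z, ⊤) : Type u)) := by
  have : q.appLE ⊤ ⊤ le_top = q.appTop := by
    rw [Scheme.Hom.appLE]
    simp
  simp only [rkS, strMap, this]
  rfl

lemma rkS_ι (U : Z.Opens) : rkS (U.ι ≫ q) ⊤ = rkS q U := by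
  have h : strMap (U.ι ≫ q) ⊤ = (U.topIso.inv.hom).comp (strMap q U) := by
    rw [strMap, strMap, ← CommRingCat.hom_comp, Category.assoc]
    congr 2
    rw [Scheme.Hom.comp_appLE, Scheme.Hom.appLE, Scheme.Hom.appLE]
    simp
    congr 1
    erw [Category.comp_id]
    exact Z.presheaf.map_comp _ _
  rw [rkS, h, rk_comp_bijective]
  · rfl
  · exact ConcreteCategory.bijective_of_isIso U.topIso.inv

/-- Additivity of the rank for disjoint opens. -/
lemma rkS_sup {V W : Z.Opens} (h : V ⊓ W = ⊥) : rkS q (V ⊔ W) = rkS q V + rkS q W := by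
  rw [rkS, rkS, rkS, ← strMap_comp q (le_sup_left : V ≤ V ⊔ W),
    ← strMap_comp q (le_sup_right : W ≤ V ⊔ W)]
  apply rk_prod
  let e := (Z.sheaf.isProductOfDisjoint V W h).conePointUniqueUpToIso
      (CommRingCat.prodFanIsLimit _ _)
  have h1 : e.hom ≫ CommRingCat.ofHom (RingHom.fst _ _) = _ :=
    (Z.sheaf.isProductOfDisjoint V W h).conePointUniqueUpToIso_hom_comp
      (CommRingCat.prodFanIsLimit _ _) ⟨WalkingPair.left⟩
  have h2 : e.hom ≫ CommRingCat.ofHom (RingHom.snd _ _) = _ :=
    (Z.sheaf.isProductOfDisjoint V W h).conePointUniqueUpToIso_hom_comp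
      (CommRingCat.prodFanIsLimit _ _) ⟨WalkingPair.right⟩
  have h3 := ConcreteCategory.bijective_of_isIso e.hom
  refine (congrArg Function.Bijective (funext fun x => ?_)).mpr h3
  exact Prod.ext (congr($h1 x)).symm (congr($h2 x)).symm

lemma one_le_rkS {V : Z.Opens} (h : (V : Set Z).Nonempty) : 1 ≤ rkS q V := by
  haveI : Nonempty V := h.to_subtype
  exact one_le_rk _

lemma rkS_top_eq_finrank [IsFinite q] (t : Spec (CommRingCat.of K)) :
    rkS q ⊤ = (q.finrank t : Cardinal.{u}) := by
  haveI : IsAffine Z := isAffine_of_isAffineHom q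
  obtain ⟨φ, hφ⟩ := Spec.map_surjective (Z.isoSpec.inv ≫ q)
  have hq : q = Z.isoSpec.hom ≫ Spec.map φ := by rw [hφ]; simp
  haveI : Flat (Spec.map φ) := inferInstance
  haveI : IsFinite (Spec.map φ) := by rw [hφ]; infer_instance
  have h1 := (IsFinite.SpecMap_iff _).mp this
  have h2 := Flat.SpecMap_iff.mp ‹Flat (Spec.map φ)›
  subst hq
  rw [Scheme.Hom.finrank_comp_left_of_isIso, Scheme.Hom.finrank_SpecMap_eq_finrank h1 h2,
    ← rk_eq_finrank _ h1]
  have : strMap (Z.isoSpec.hom ≫ Spec.map φ) ⊤ =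
      ((Scheme.ΓSpecIso _).inv ≫ Z.isoSpec.hom.appTop).hom.comp φ.hom := by
    rw [strMap, ← CommRingCat.hom_comp, Scheme.ΓSpecIso_inv_naturality_assoc]
    simp [Scheme.Hom.appLE]
  rw [rkS, this, rk_comp_bijective]
  haveI : IsIso Z.isoSpec.hom.appTop := inferInstanceAs (IsIso (Z.isoSpec.hom.app ⊤))
  haveI := IsIso.comp_isIso (f := (Scheme.ΓSpecIso Γ(Z, ⊤)).inv) (h := Z.isoSpec.hom.appTop)
  exact ConcreteCategory.bijective_of_isIso ((Scheme.ΓSpecIso Γ(Z, ⊤)).inv ≫ Z.isoSpec.hom.appTop)

lemma rkS_eq_finrank (V : Z.Opens) [IsFinite (V.ι ≫ q)] (t : Spec (CommRingCat.of K)) :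
    rkS q V = ((V.ι ≫ q).finrank t : Cardinal.{u}) := by
  rw [← rkS_ι, rkS_top_eq_finrank]

end scheme

end Groth.Agent.Flat2G.FibreDegreeA
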