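import Groth.Agent.Flat2G.FibreDegreeA
import Mathlib.AlgebraicGeometry.ResidueField

/-!
# Finite open pieces of separated, locally quasi-finite, flat morphisms
-/

set_option autoImplicit false
universe u

open AlgebraicGeometry CategoryTheory Limits TopologicalSpace
open Groth.Agent.Flat2G.FibreDegreeA

namespace Groth.Agent.Flat2G.FibreDegreeB

/-- An open of `Z` which is finite over `T` is closed in `Z`, when `Z` is separated over `T`. -/
lemma isClosed_of_isFinite {Z T : Scheme.{u}} (q : Z ⟶ T) [IsSeparated q] (V : Z.Opens)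
    [IsFinite (V.ι ≫ q)] : IsClosed (V : Set Z) := by
  haveI : IsFinite V.ι := IsFinite.of_comp V.ι q
  have h := V.ι.isClosedMap
  simpa using h.isClosed_range

/-- The complement in `W` of an open `V` finite over the base. -/
def cpl {Z T : Scheme.{u}} (q : Z ⟶ T) [IsSeparated q] (V W : Z.Opens)
    [IsFinite (V.ι ≫ q)] : Z.Opens := W ⊓ ⟨(V : Set Z)ᶜ, (isClosed_of_isFinite q V).isOpen_compl⟩

lemma mem_cpl {Z T : Scheme.{u}} (q : Z ⟶ T) [IsSeparated q] {V W : Z.Opens}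
    [IsFinite (V.ι ≫ q)] {z : Z} : z ∈ cpl q V W ↔ z ∈ W ∧ z ∉ V := Iff.rfl

lemma sup_cpl {Z T : Scheme.{u}} (q : Z ⟶ T) [IsSeparated q] {V W : Z.Opens}
    [IsFinite (V.ι ≫ q)] (h : V ≤ W) : V ⊔ cpl q V W = W := by
  ext z
  have := @h z
  change z ∈ V ∨ (z ∈ W ∧ z ∉ V) ↔ z ∈ W
  tauto

lemma inf_cpl {Z T : Scheme.{u}} (q : Z ⟶ T) [IsSeparated q] {V W : Z.Opens}
    [IsFinite (V.ι ≫ q)] : V ⊓ cpl q V W = ⊥ := by
  ext z
  change z ∈ V ∧ (z ∈ W ∧ z ∉ V) ↔ False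
  tauto

/-- Restriction of a pullback square to an open of the top right corner. -/
lemma isPullback_preimage {Z Z' T T' : Scheme.{u}} {a : Z' ⟶ Z} {q' : Z' ⟶ T'} {q : Z ⟶ T}
    {h : T' ⟶ T} (sq : IsPullback a q' q h) (V : Z.Opens) :
    IsPullback (a ∣_ V) ((a ⁻¹ᵁ V).ι ≫ q') (V.ι ≫ q) h :=
  (isPullback_morphismRestrict a V).flip.flip.paste_vert sq

lemma isFinite_preimage {Z Z' T T' : Scheme.{u}} {a : Z' ⟶ Z} {q' : Z' ⟶ T'} {q : Z ⟶ T}
    {h : T' ⟶ T} (sq : IsPullback a q' q h) (V : Z.Opens) [IsFinite (V.ι ≫ q)] :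
    IsFinite ((a ⁻¹ᵁ V).ι ≫ q') :=
  MorphismProperty.of_isPullback (P := @IsFinite) (isPullback_preimage sq V) inferInstance

lemma finrank_preimage {Z Z' T T' : Scheme.{u}} {a : Z' ⟶ Z} {q' : Z' ⟶ T'} {q : Z ⟶ T}
    {h : T' ⟶ T} (sq : IsPullback a q' q h) [Flat q] (V : Z.Opens) [IsFinite (V.ι ≫ q)] (t : T') :
    ((a ⁻¹ᵁ V).ι ≫ q').finrank t = (V.ι ≫ q).finrank (h t) :=
  Scheme.Hom.finrank_of_isPullback _ _ _ _ (isPullback_preimage sq V) t

/-- `q` has, over `t`, an open piece finite over the base, of degree at least `d` at `t`. -/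
def Has {Z T : Scheme.{u}} (q : Z ⟶ T) (d : ℕ) (t : T) : Prop :=
  ∃ V : Z.Opens, IsFinite (V.ι ≫ q) ∧ d ≤ (V.ι ≫ q).finrank t

lemma Has.of_isPullback {Z Z' T T' : Scheme.{u}} {a : Z' ⟶ Z} {q' : Z' ⟶ T'} {q : Z ⟶ T}
    {h : T' ⟶ T} (sq : IsPullback a q' q h) [Flat q] {d : ℕ} {t : T'} (H : Has q d (h t)) :
    Has q' d t := by
  obtain ⟨V, hV, hd⟩ := H
  exact ⟨a ⁻¹ᵁ V, isFinite_preimage sq V, by rwa [finrank_preimage sq V]⟩

lemma Has.mono {Z T : Scheme.{u}} {q : Z ⟶ T} {d e : ℕ} {t : T} (h : e ≤ d) (H : Has q d t) :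
    Has q e t := by
  obtain ⟨V, hV, hd⟩ := H
  exact ⟨V, hV, h.trans hd⟩

/-- The union of two opens finite over the base is finite over the base. -/
lemma isFinite_sup {Z T : Scheme.{u}} (q : Z ⟶ T) [IsSeparated q] [LocallyOfFiniteType q]
    [LocallyQuasiFinite q] (V W : Z.Opens) [IsFinite (V.ι ≫ q)] [IsFinite (W.ι ≫ q)] :
    IsFinite ((V ⊔ W).ι ≫ q) := by
  let p : (V : Scheme.{u}) ⨿ (W : Scheme.{u}) ⟶ (V ⊔ W : Z.Opens) :=
    coprod.desc (Z.homOfLE le_sup_left) (Z.homOfLE le_sup_right)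
  haveI : Surjective p := by
    refine ⟨fun x => ?_⟩
    rcases x.2 with hx | hx
    · refine ⟨(coprod.inl : (V : Scheme.{u}) ⟶ (V : Scheme.{u}) ⨿ (W : Scheme.{u})) ⟨x.1, hx⟩, ?_⟩
      rw [← Scheme.Hom.comp_apply, coprod.inl_desc, Scheme.homOfLE_apply']
      rfl
    · refine ⟨(coprod.inr : (W : Scheme.{u}) ⟶ (V : Scheme.{u}) ⨿ (W : Scheme.{u})) ⟨x.1, hx⟩, ?_⟩
      rw [← Scheme.Hom.comp_apply, coprod.inr_desc, Scheme.homOfLE_apply']
      rfl
  haveI : IsFinite (p ≫ (V ⊔ W).ι ≫ q) := by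
    have : p ≫ (V ⊔ W).ι ≫ q = coprod.desc (V.ι ≫ q) (W.ι ≫ q) := by
      apply coprod.hom_ext <;> simp [p]
    rw [this]
    infer_instance
  haveI : UniversallyClosed ((V ⊔ W).ι ≫ q) := .of_comp_surjective p _
  haveI : IsProper ((V ⊔ W).ι ≫ q) := { }
  exact IsFinite.of_isProper_of_locallyQuasiFinite _

section field

variable {K : Type u} [Field K] {Z : Scheme.{u}} (q : Z ⟶ Spec (CommRingCat.of K))

lemma rkS_mono [IsSeparated q] {V W : Z.Opens} [IsFinite (V.ι ≫ q)] (h : V ≤ W) :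
    rkS q V ≤ rkS q W := by
  rw [← sup_cpl q h, rkS_sup q (inf_cpl q)]
  exact self_le_add_right _ _

lemma rkS_lt [IsSeparated q] {V W : Z.Opens} [IsFinite (V.ι ≫ q)] (h : V ≤ W) (z : Z)
    (hz : z ∈ W) (hz' : z ∉ V) :
    rkS q V + 1 ≤ rkS q W := by
  rw [← sup_cpl q h, rkS_sup q (inf_cpl q)]
  gcongr
  exact one_le_rkS q ⟨z, hz, hz'⟩

lemma Has.le_rkS [IsSeparated q] {d : ℕ} {t} (H : Has q d t) : (d : Cardinal.{u}) ≤ rkS q ⊤ := by
  obtain ⟨V, hV, hd⟩ := H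
  refine le_trans ?_ (rkS_mono q (le_top : V ≤ ⊤))
  rw [rkS_eq_finrank q V t]
  exact_mod_cast hd

end field

/-- Every point of a scheme is hit by the spectrum of a field. -/
lemma exists_field_point {T : Scheme.{u}} (t : T) :
    ∃ (K : Type u) (_ : Field K) (h : Spec (CommRingCat.of K) ⟶ T) (p : Spec (CommRingCat.of K)),
      h p = t := by
  refine ⟨T.residueField t, inferInstance, T.fromSpecResidueField t, ?_, ?_⟩
  · exact IsLocalRing.closedPoint (T.residueField t)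
  · exact Scheme.fromSpecResidueField_apply _ _

section finrank

variable {Z T : Scheme.{u}} (q : Z ⟶ T) [Flat q] [IsSeparated q]

lemma finrank_mono {V W : Z.Opens} [IsFinite (V.ι ≫ q)] [IsFinite (W.ι ≫ q)] (h : V ≤ W) (t : T) :
    (V.ι ≫ q).finrank t ≤ (W.ι ≫ q).finrank t := by
  obtain ⟨K, _, γ, p, rfl⟩ := exists_field_point t
  have sq := IsPullback.of_hasPullback q γ
  have e1 := finrank_preimage sq V p
  have e2 := finrank_preimage sq W p
  rw [← e1, ← e2]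
  haveI := isFinite_preimage sq V
  haveI := isFinite_preimage sq W
  have := rkS_mono (pullback.snd q γ) (V := (pullback.fst q γ) ⁻¹ᵁ V)
    (W := (pullback.fst q γ) ⁻¹ᵁ W) (fun z hz => h hz)
  rw [rkS_eq_finrank _ _ p, rkS_eq_finrank _ _ p] at this
  exact_mod_cast this

lemma finrank_lt {V W : Z.Opens} [IsFinite (V.ι ≫ q)] [IsFinite (W.ι ≫ q)] (h : V ≤ W) (z : Z)
    (hz : z ∈ W) (hz' : z ∉ V) :
    (V.ι ≫ q).finrank (q z) + 1 ≤ (W.ι ≫ q).finrank (q z) := by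
  obtain ⟨K, _, γ, p, hp⟩ := exists_field_point (q z)
  have sq := IsPullback.of_hasPullback q γ
  have e1 := finrank_preimage sq V p
  have e2 := finrank_preimage sq W p
  rw [← hp, ← e1, ← e2]
  haveI := isFinite_preimage sq V
  haveI := isFinite_preimage sq W
  obtain ⟨w, hw1, hw2⟩ := Scheme.Pullback.exists_preimage_pullback z p hp.symm
  have := rkS_lt (pullback.snd q γ) (V := (pullback.fst q γ) ⁻¹ᵁ V)
    (W := (pullback.fst q γ) ⁻¹ᵁ W) (fun z hz => h hz) w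
    (by change pullback.fst q γ w ∈ W; rwa [hw1]) (by change pullback.fst q γ w ∉ V; rwa [hw1])
  rw [rkS_eq_finrank _ _ p, rkS_eq_finrank _ _ p] at this
  exact_mod_cast this

end finrank

end Groth.Agent.Flat2G.FibreDegreeB
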