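import Groth.Agent.Flat2G.FibreDegreeB
import Mathlib.AlgebraicGeometry.Morphisms.Etale

/-!
# Etale local structure of separated, locally quasi-finite, flat morphisms
-/

set_option autoImplicit false
universe u

open AlgebraicGeometry CategoryTheory Limits TopologicalSpace
open Groth.Agent.Flat2G.FibreDegreeA Groth.Agent.Flat2G.FibreDegreeB

namespace Groth.Agent.Flat2G.FibreDegreeC

/-- `Good f d s`: etale locally around `s`, `f` has an open piece finite over the base of degree at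
least `d` at the point. -/
def Good {X S : Scheme.{u}} (f : X ⟶ S) (d : ℕ) (s : S) : Prop :=
  ∃ (U Z : Scheme.{u}) (g : U ⟶ S) (a : Z ⟶ X) (q : Z ⟶ U) (u : U),
    Etale g ∧ IsPullback a q f g ∧ g u = s ∧ Has q d u

lemma Good.of_has {X S : Scheme.{u}} {f : X ⟶ S} {d : ℕ} {s : S} (H : Has f d s) : Good f d s :=
  ⟨S, X, 𝟙 S, 𝟙 X, f, s, inferInstance, IsPullback.of_id_fst, rfl, H⟩

lemma Good.mono {X S : Scheme.{u}} {f : X ⟶ S} {d e : ℕ} {s : S} (h : e ≤ d) (H : Good f d s) :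
    Good f e s := by
  obtain ⟨U, Z, g, a, q, u, h1, h2, h3, h4⟩ := H
  exact ⟨U, Z, g, a, q, u, h1, h2, h3, h4.mono h⟩

lemma Good.zero {X S : Scheme.{u}} (f : X ⟶ S) (s : S) : Good f 0 s := by
  apply Good.of_has
  refine ⟨⊥, ?_, Nat.zero_le _⟩
  haveI : IsEmpty ((⊥ : X.Opens) : Scheme.{u}) := ⟨fun x => x.2⟩
  infer_instance

/-- Etale descent of `Good`. -/
lemma Good.of_comp {X S U Z : Scheme.{u}} {f : X ⟶ S} {g : U ⟶ S} {a : Z ⟶ X} {q : Z ⟶ U}
    [Etale g] (sq : IsPullback a q f g) {d : ℕ} {u : U} (H : Good q d u) : Good f d (g u) := by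
  obtain ⟨U', Z', g', a', q', u', h1, h2, rfl, h4⟩ := H
  refine ⟨U', Z', g' ≫ g, a' ≫ a, q', u', inferInstance, ?_, rfl, h4⟩
  exact (h2.flip.paste_vert sq.flip).flip

/-- Base change of `Good`. -/
lemma Good.of_isPullback {X S T Z : Scheme.{u}} {f : X ⟶ S} [Flat f] {g : T ⟶ S} {a : Z ⟶ X}
    {q : Z ⟶ T} (sq : IsPullback a q f g) {d : ℕ} {t : T} (H : Good f d (g t)) : Good q d t := by
  obtain ⟨U', Z', g', a', q', u', h1, h2, h3, h4⟩ := H
  obtain ⟨w, hw1, hw2⟩ := Scheme.Pullback.exists_preimage_pullback t u' h3.symm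
  have sq2 := IsPullback.of_hasPullback q (pullback.fst g g')
  have sq3 := sq2.flip.paste_vert sq.flip
  have hcomm : (pullback.fst q (pullback.fst g g') ≫ a) ≫ f =
      (pullback.snd q (pullback.fst g g') ≫ pullback.snd g g') ≫ g' := by
    rw [Category.assoc, sq.w, pullback.condition_assoc, Category.assoc, pullback.condition]
  have sq4 : IsPullback (h2.lift _ _ hcomm) (pullback.snd q (pullback.fst g g')) q'
      (pullback.snd g g') := by
    apply IsPullback.of_right (h₁₂ := a') (h₂₂ := g') (v₁₃ := f) _ (by simp) h2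
    have : h2.lift _ _ hcomm ≫ a' = pullback.fst q (pullback.fst g g') ≫ a := by simp
    rw [this, ← pullback.condition]
    exact sq3.flip
  haveI : Flat q' := MorphismProperty.of_isPullback (P := @Flat) h2 inferInstance
  refine ⟨_, _, pullback.fst g g', _, _, w, inferInstance, sq2, hw1, ?_⟩
  exact Has.of_isPullback sq4 (by rwa [hw2])

lemma isOpen_good {X S : Scheme.{u}} (f : X ⟶ S) [Flat f] [LocallyOfFinitePresentation f] (d : ℕ) :
    IsOpen {s : S | Good f d s} := by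
  rw [isOpen_iff_forall_mem_open]
  rintro s ⟨U, Z, g, a, q, u, h1, h2, rfl, V, hV, hd⟩
  haveI : Flat q := MorphismProperty.of_isPullback (P := @Flat) h2 inferInstance
  haveI : LocallyOfFinitePresentation q :=
    MorphismProperty.of_isPullback (P := @LocallyOfFinitePresentation) h2 inferInstance
  have hlc := (V.ι ≫ q).isLocallyConstant_finrank
  have hopen : IsOpen {u' : U | d ≤ (V.ι ≫ q).finrank u'} :=
    hlc {n | d ≤ n}
  refine ⟨g '' {u' : U | d ≤ (V.ι ≫ q).finrank u'}, ?_, g.isOpenMap _ hopen, ⟨u, hd, rfl⟩⟩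
  rintro _ ⟨u', hu', rfl⟩
  exact ⟨U, Z, g, a, q, u', h1, h2, rfl, V, hV, hu'⟩

/-- The inductive step: a point outside a finite piece allows to enlarge the degree. -/
lemma good_step {Z T : Scheme.{u}} (q : Z ⟶ T) [Flat q] [LocallyOfFinitePresentation q]
    [IsSeparated q] [LocallyQuasiFinite q] (V : Z.Opens) [IsFinite (V.ι ≫ q)] (z : Z)
    (hz : z ∉ V) : Good q ((V.ι ≫ q).finrank (q z) + 1) (q z) := by
  obtain ⟨U, g, hg, hs, V', W', v, hc, hfin, hv⟩ :=
    exists_etale_isCompl_of_quasiFiniteAt q (x := z) rfl (q.quasiFiniteAt z)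
  have sq := IsPullback.of_hasPullback q g
  let u : U := pullback.snd q g v.1
  have hu : g u = q z := by
    have : (pullback.snd q g ≫ g) v.1 = (pullback.fst q g ≫ q) v.1 := by
      rw [pullback.condition]
    simp only [Scheme.Hom.comp_apply, hv] at this
    exact this
  haveI := isFinite_preimage sq V
  haveI := isFinite_sup (pullback.snd q g) ((pullback.fst q g) ⁻¹ᵁ V) V'
  refine ⟨U, _, g, _, _, u, hg, sq, hu, (pullback.fst q g) ⁻¹ᵁ V ⊔ V', inferInstance, ?_⟩
  rw [← hu, ← finrank_preimage sq V u]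
  refine finrank_lt (pullback.snd q g) le_sup_left v.1 (Or.inr v.2) ?_
  change pullback.fst q g v.1 ∉ V
  rwa [hv]

/-- **Etale local structure** of a flat separated locally quasi-finite morphism around a point `s`
where the fibre degree is `r`. -/
theorem exists_etale_finite_piece {X S : Scheme.{u}} (f : X ⟶ S) [Flat f]
    [LocallyOfFinitePresentation f] [IsSeparated f] [LocallyQuasiFinite f] (r : ℕ) (s : S)
    (h1 : Good f r s) (h2 : ¬ Good f (r + 1) s) :
    ∃ (U Z : Scheme.{u}) (g : U ⟶ S) (a : Z ⟶ X) (q : Z ⟶ U) (V : Z.Opens),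
      Etale g ∧ IsPullback a q f g ∧ s ∈ Set.range g ∧ IsFinite (V.ι ≫ q) ∧
      (∀ u, (V.ι ≫ q).finrank u = r) ∧ ∀ z : Z, ¬ Good f (r + 1) (g (q z)) → z ∈ V := by
  obtain ⟨U, Z, g, a, q, u, hg, sq, hu, V, hV, hd⟩ := h1
  haveI : Flat q := MorphismProperty.of_isPullback (P := @Flat) sq inferInstance
  haveI : IsSeparated q := MorphismProperty.of_isPullback (P := @IsSeparated) sq inferInstance
  haveI : LocallyQuasiFinite q :=
    MorphismProperty.of_isPullback (P := @LocallyQuasiFinite) sq inferInstance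
  haveI : LocallyOfFinitePresentation q :=
    MorphismProperty.of_isPullback (P := @LocallyOfFinitePresentation) sq inferInstance
  have hle : ∀ u' : U, ¬ Good f (r + 1) (g u') → (V.ι ≫ q).finrank u' < r + 1 := by
    intro u' hu'
    by_contra hcon
    exact hu' ⟨U, Z, g, a, q, u', hg, sq, rfl, V, hV, not_lt.mp hcon⟩
  have hlc := (V.ι ≫ q).isLocallyConstant_finrank
  let O : U.Opens := ⟨{u' : U | (V.ι ≫ q).finrank u' = r}, hlc {r}⟩
  have hO : u ∈ O := le_antisymm (Nat.lt_succ_iff.mp (hle u (by rwa [hu]))) hd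
  have sq2 : IsPullback (q ⁻¹ᵁ O).ι (q ∣_ O) q O.ι := (isPullback_morphismRestrict q O).flip
  have sq3 : IsPullback ((q ⁻¹ᵁ O).ι ≫ a) (q ∣_ O) f (O.ι ≫ g) :=
    (sq2.flip.paste_vert sq.flip).flip
  haveI := isFinite_preimage sq2 V
  refine ⟨O, q ⁻¹ᵁ O, O.ι ≫ g, _, q ∣_ O, (q ⁻¹ᵁ O).ι ⁻¹ᵁ V, inferInstance, sq3, ?_, inferInstance,
    ?_, ?_⟩
  · exact ⟨⟨u, hO⟩, by simpa using hu⟩
  · intro u'
    rw [finrank_preimage sq2 V u']
    exact u'.2
  · intro z hz
    by_contra hcon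
    apply hz
    rw [Scheme.Hom.comp_apply]
    have e : O.ι ((q ∣_ O) z) = q ((q ⁻¹ᵁ O).ι z) := by
      rw [← Scheme.Hom.comp_apply, ← Scheme.Hom.comp_apply, sq2.w]
    rw [e]
    apply Good.of_comp sq
    have hr : (V.ι ≫ q).finrank (q ((q ⁻¹ᵁ O).ι z)) = r := by
      rw [← e]
      exact ((q ∣_ O) z).2
    have := good_step q V ((q ⁻¹ᵁ O).ι z) hcon
    rwa [hr] at this

end Groth.Agent.Flat2G.FibreDegreeC
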