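import Groth.Agent.Flat2G.FibreDegreeC
import Mathlib.AlgebraicGeometry.Artinian
import Mathlib.AlgebraicGeometry.Morphisms.FlatDescent
import Groth.Prelude.Def_Mor2

/-!
# Field valued points and the degree
-/

set_option autoImplicit false
universe u

open AlgebraicGeometry CategoryTheory Limits TopologicalSpace
open Groth.Agent.Flat2G.FibreDegreeA Groth.Agent.Flat2G.FibreDegreeB
open Groth.Agent.Flat2G.FibreDegreeC

namespace Groth.Agent.Flat2G.FibreDegreeD

lemma isIso_top_ι (Z : Scheme.{u}) : IsIso (⊤ : Z.Opens).ι :=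
  ⟨Z.topIso.inv, Z.topIso.hom_inv_id, Z.topIso.inv_hom_id⟩

lemma isFinite_of_eq_top {Z T : Scheme.{u}} (q : Z ⟶ T) (W : Z.Opens) (h : W = ⊤)
    (hf : IsFinite (W.ι ≫ q)) : IsFinite q := by
  subst h
  haveI := isIso_top_ι Z
  exact (MorphismProperty.cancel_left_of_respectsIso @IsFinite (⊤ : Z.Opens).ι q).mp hf

lemma finrank_of_eq_top {Z T : Scheme.{u}} (q : Z ⟶ T) (W : Z.Opens) (h : W = ⊤) [IsFinite q]
    [Flat q] (t : T) : (W.ι ≫ q).finrank t = q.finrank t := by
  subst h
  haveI := isIso_top_ι Z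
  rw [Scheme.Hom.finrank_comp_left_of_isIso]

lemma isFinite_of_isCompact {K : Type u} [Field K] {Z : Scheme.{u}}
    (q : Z ⟶ Spec (CommRingCat.of K)) [LocallyQuasiFinite q] (V : Z.Opens)
    (hV : IsCompact (V : Set Z)) : IsFinite (V.ι ≫ q) := by
  haveI : CompactSpace (V : Scheme.{u}) := isCompact_iff_compactSpace.mp hV
  haveI : QuasiCompact (V.ι ≫ q) :=
    (HasAffineProperty.iff_of_isAffine (P := @QuasiCompact)).mpr inferInstance
  exact IsFinite.of_locallyQuasiFinite _

/-- Finite open pieces descend along field extensions. -/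
lemma Has.descend {K L : Type u} [Field K] [Field L] {Z Z' : Scheme.{u}} {a : Z' ⟶ Z}
    {q' : Z' ⟶ Spec (CommRingCat.of L)} {q : Z ⟶ Spec (CommRingCat.of K)}
    {h : Spec (CommRingCat.of L) ⟶ Spec (CommRingCat.of K)} (sq : IsPullback a q' q h)
    [IsSeparated q] [LocallyQuasiFinite q] {d : ℕ} {t : Spec (CommRingCat.of L)}
    (H : Has q' d t) : Has q d (h t) := by
  obtain ⟨V', hV', hd⟩ := H
  haveI : IsLocallyArtinian Z := IsLocallyArtinian.of_locallyQuasiFinite q
  let V : Z.Opens := ⟨a '' (V' : Set Z'), isOpen_discrete _⟩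
  haveI : CompactSpace (V' : Scheme.{u}) := by
    have : QuasiCompact (V'.ι ≫ q') := inferInstance
    exact (HasAffineProperty.iff_of_isAffine (P := @QuasiCompact)).mp this
  have hc : IsCompact (V : Set Z) := (isCompact_iff_compactSpace.mpr this).image a.continuous
  haveI := isFinite_of_isCompact q V hc
  refine ⟨V, inferInstance, ?_⟩
  haveI := isFinite_preimage sq V
  haveI : IsSeparated q' := MorphismProperty.of_isPullback (P := @IsSeparated) sq inferInstance
  rw [← finrank_preimage sq V t]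
  refine hd.trans (finrank_mono q' ?_ t)
  exact fun z hz => ⟨z, hz, rfl⟩

/-- A common field extension for two field valued points over the same point. -/
lemma exists_common_field {K : Type u} [Field K] {U S : Scheme.{u}} (g : U ⟶ S)
    (γ : Spec (CommRingCat.of K) ⟶ S) (u : U) (p : Spec (CommRingCat.of K)) (h : g u = γ p) :
    ∃ (L : Type u) (_ : Field L) (α : Spec (CommRingCat.of L) ⟶ U)
      (β : Spec (CommRingCat.of L) ⟶ Spec (CommRingCat.of K)) (t : Spec (CommRingCat.of L)),
      α ≫ g = β ≫ γ ∧ α t = u := by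
  obtain ⟨w, hw1, hw2⟩ := Scheme.Pullback.exists_preimage_pullback u p h
  obtain ⟨L, _, δ, t, hδ⟩ := exists_field_point w
  refine ⟨L, inferInstance, δ ≫ pullback.fst g γ, δ ≫ pullback.snd g γ, t, ?_, ?_⟩
  · rw [Category.assoc, Category.assoc, pullback.condition]
  · rw [Scheme.Hom.comp_apply, hδ, hw1]

instance {K : Type u} [Field K] : Subsingleton (Spec (CommRingCat.of K)) :=
  inferInstanceAs (Subsingleton (PrimeSpectrum K))

lemma eq_of_field {K : Type u} [Field K] (p p' : Spec (CommRingCat.of K)) : p = p' :=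
  Subsingleton.elim _ _

/-- `Good` at a point gives a finite open piece over every field valued point. -/
lemma Good.has {X S : Scheme.{u}} {f : X ⟶ S} [Flat f] [IsSeparated f] [LocallyQuasiFinite f]
    {K : Type u} [Field K] {γ : Spec (CommRingCat.of K) ⟶ S} {Z : Scheme.{u}} {a : Z ⟶ X}
    {q : Z ⟶ Spec (CommRingCat.of K)} (sq : IsPullback a q f γ) {d : ℕ}
    {p : Spec (CommRingCat.of K)} (H : Good f d (γ p)) : Has q d p := by
  obtain ⟨U, Z₁, g, a₁, q₁, u, hg, sq₁, hu, H⟩ := H
  haveI : Flat q₁ := MorphismProperty.of_isPullback (P := @Flat) sq₁ inferInstance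
  haveI : IsSeparated q := MorphismProperty.of_isPullback (P := @IsSeparated) sq inferInstance
  haveI : LocallyQuasiFinite q :=
    MorphismProperty.of_isPullback (P := @LocallyQuasiFinite) sq inferInstance
  obtain ⟨L, _, α, β, t, hc, ht⟩ := exists_common_field g γ u p hu
  have sq2 := IsPullback.of_hasPullback q β
  have sq3 : IsPullback (pullback.fst q β ≫ a) (pullback.snd q β) f (β ≫ γ) :=
    (sq2.flip.paste_vert sq.flip).flip
  have hcomm : (pullback.fst q β ≫ a) ≫ f = (pullback.snd q β ≫ α) ≫ g := by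
    rw [sq3.w, Category.assoc, hc]
  have sq4 : IsPullback (sq₁.lift _ _ hcomm) (pullback.snd q β) q₁ α := by
    apply IsPullback.of_right (h₁₂ := a₁) (h₂₂ := g) (v₁₃ := f) _ (by simp) sq₁
    rw [sq₁.lift_fst, hc]
    exact sq3
  have h5 : Has (pullback.snd q β) d t := Has.of_isPullback sq4 (by rwa [ht])
  have h6 := Has.descend sq2 h5
  rwa [eq_of_field (β t) p] at h6

/-- If the degree at `γ p` is exactly `r`, then the base change to the field is finite of
degree `r`. -/
lemma isFinite_of_not_good {X S : Scheme.{u}} {f : X ⟶ S} [Flat f] [LocallyOfFinitePresentation f]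
    [IsSeparated f] [LocallyQuasiFinite f]
    {K : Type u} [Field K] {γ : Spec (CommRingCat.of K) ⟶ S} {Z : Scheme.{u}} {a : Z ⟶ X}
    {q : Z ⟶ Spec (CommRingCat.of K)} (sq : IsPullback a q f γ) {r : ℕ}
    {p : Spec (CommRingCat.of K)} (h1 : Good f r (γ p)) (h2 : ¬ Good f (r + 1) (γ p)) :
    IsFinite q ∧ q.finrank p = r := by
  haveI : IsSeparated q := MorphismProperty.of_isPullback (P := @IsSeparated) sq inferInstance
  haveI : LocallyQuasiFinite q :=
    MorphismProperty.of_isPullback (P := @LocallyQuasiFinite) sq inferInstance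
  obtain ⟨U, Z₁, g, a₁, q₁, V, hg, sq₁, ⟨u, hu⟩, hV, hr, H⟩ :=
    exists_etale_finite_piece f r (γ p) h1 h2
  haveI : Flat q₁ := MorphismProperty.of_isPullback (P := @Flat) sq₁ inferInstance
  obtain ⟨L, _, α, β, t, hc, ht⟩ := exists_common_field g γ u p hu
  have sq2 := IsPullback.of_hasPullback q β
  have sq3 : IsPullback (pullback.fst q β ≫ a) (pullback.snd q β) f (β ≫ γ) :=
    (sq2.flip.paste_vert sq.flip).flip
  have hcomm : (pullback.fst q β ≫ a) ≫ f = (pullback.snd q β ≫ α) ≫ g := by
    rw [sq3.w, Category.assoc, hc]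
  have sq4 : IsPullback (sq₁.lift _ _ hcomm) (pullback.snd q β) q₁ α := by
    apply IsPullback.of_right (h₁₂ := a₁) (h₂₂ := g) (v₁₃ := f) _ (by simp) sq₁
    rw [sq₁.lift_fst, hc]
    exact sq3
  have htop : (sq₁.lift _ _ hcomm) ⁻¹ᵁ V = ⊤ := by
    rw [eq_top_iff]
    intro z _
    apply H
    have e : q₁ ((sq₁.lift _ _ hcomm) z) = α (pullback.snd q β z) := by
      rw [← Scheme.Hom.comp_apply, ← Scheme.Hom.comp_apply, sq4.w]
    rw [e, eq_of_field (pullback.snd q β z) t, ht, hu]
    exact h2
  have hfin := isFinite_preimage sq4 V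
  have hrank := finrank_preimage sq4 V t
  rw [hr] at hrank
  haveI : Flat q := MorphismProperty.of_isPullback (P := @Flat) sq inferInstance
  haveI := isFinite_of_eq_top _ _ htop hfin
  rw [finrank_of_eq_top _ _ htop] at hrank
  haveI : CompactSpace (pullback q β : Scheme.{u}) := by
    have : QuasiCompact (pullback.snd q β) := inferInstance
    exact (HasAffineProperty.iff_of_isAffine (P := @QuasiCompact)).mp this
  haveI : Surjective β := ⟨fun x => ⟨t, eq_of_field _ _⟩⟩
  haveI : CompactSpace Z := (pullback.fst q β).surjective.compactSpace (pullback.fst q β).continuous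
  haveI : QuasiCompact q :=
    (HasAffineProperty.iff_of_isAffine (P := @QuasiCompact)).mpr inferInstance
  haveI : IsFinite q := IsFinite.of_locallyQuasiFinite q
  refine ⟨inferInstance, ?_⟩
  rw [← hrank, Scheme.Hom.finrank_pullback_snd, eq_of_field (β t) p]

lemma exists_max_good {X S : Scheme.{u}} {f : X ⟶ S} {s : S} {d : ℕ} (h : ¬ Good f d s) :
    ∃ r < d, Good f r s ∧ ¬ Good f (r + 1) s := by
  induction d with
  | zero => exact absurd (Good.zero f s) h
  | succ d ih =>
    by_cases h' : Good f d s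
    · exact ⟨d, Nat.lt_succ_self d, h', h⟩
    · obtain ⟨r, hr, h1, h2⟩ := ih h'
      exact ⟨r, hr.trans (Nat.lt_succ_self d), h1, h2⟩

/-- The degree at a field valued point is at least `d` if and only if `Good f d` holds. -/
theorem good_iff_le_rkS {X S : Scheme.{u}} {f : X ⟶ S} [Flat f] [LocallyOfFinitePresentation f]
    [IsSeparated f] [LocallyQuasiFinite f]
    {K : Type u} [Field K] {γ : Spec (CommRingCat.of K) ⟶ S} {Z : Scheme.{u}} {a : Z ⟶ X}
    {q : Z ⟶ Spec (CommRingCat.of K)} (sq : IsPullback a q f γ) {d : ℕ}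
    (p : Spec (CommRingCat.of K)) : Good f d (γ p) ↔ (d : Cardinal.{u}) ≤ rkS q ⊤ := by
  haveI : IsSeparated q := MorphismProperty.of_isPullback (P := @IsSeparated) sq inferInstance
  refine ⟨fun H => Has.le_rkS q (Good.has sq H), fun H => ?_⟩
  by_contra hcon
  obtain ⟨r, hr, h1, h2⟩ := exists_max_good hcon
  obtain ⟨h3, h4⟩ := isFinite_of_not_good sq h1 h2
  rw [rkS_top_eq_finrank q p, h4] at H
  exact absurd (Nat.cast_le.mp H) (not_le.mpr hr)

end Groth.Agent.Flat2G.FibreDegreeD
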