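import Groth.Agent.Flat2G.FibreDegreeD
import Mathlib.AlgebraicGeometry.Morphisms.FlatDescent
import Groth.Prelude.Def_Mor2

/-!
# Local descent, and the characterisation of finite locally free base changes
-/

set_option autoImplicit false
universe u

open AlgebraicGeometry CategoryTheory Limits TopologicalSpace
open Groth.Agent.Flat2G.FibreDegreeA Groth.Agent.Flat2G.FibreDegreeB
open Groth.Agent.Flat2G.FibreDegreeC Groth.Agent.Flat2G.FibreDegreeD

namespace Groth.Agent.Flat2G.FibreDegreeE

/-- A property local on the target and descending along fppf covers can be checked on a jointly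
surjective family of flat, locally finitely presented morphisms. -/
lemma of_forall_exists_fppf (P : MorphismProperty Scheme.{u}) [IsZariskiLocalAtTarget P]
    [P.IsStableUnderBaseChange]
    [P.DescendsAlong (@Surjective ⊓ @Flat ⊓ @LocallyOfFinitePresentation)]
    {Z T : Scheme.{u}} (q : Z ⟶ T)
    (H : ∀ t : T, ∃ (W : Scheme.{u}) (e : W ⟶ T), Flat e ∧ LocallyOfFinitePresentation e ∧
      t ∈ Set.range e ∧ P (pullback.snd q e)) : P q := by
  choose W e h1 h2 h3 h4 using H
  haveI (t : T) : UniversallyOpen (e t) := inferInstance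
  let O : T → T.Opens := fun t => ⟨Set.range (e t), (e t).isOpenMap.isOpen_range⟩
  refine (IsZariskiLocalAtTarget.iff_of_iSup_eq_top (P := P) O ?_).mpr fun t => ?_
  · ext t
    simp only [Opens.coe_iSup, Opens.coe_top, Set.mem_univ, iff_true, Set.mem_iUnion]
    exact ⟨t, h3 t⟩
  · have hr : Set.range (e t) ⊆ Set.range (O t).ι := by
      rw [Scheme.Opens.range_ι]
      exact subset_rfl
    let e' : W t ⟶ O t := IsOpenImmersion.lift (O t).ι (e t) hr
    have he' : e' ≫ (O t).ι = e t := IsOpenImmersion.lift_fac _ _ _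
    haveI : Flat e' := by
      have : Flat (e' ≫ (O t).ι) := by rw [he']; exact h1 t
      exact MorphismProperty.of_postcomp (W := @Flat)
        (W' := MorphismProperty.monomorphisms Scheme.{u}) e' (O t).ι
        (inferInstanceAs (Mono (O t).ι)) this
    haveI : LocallyOfFinitePresentation e' := by
      have : LocallyOfFinitePresentation (e' ≫ (O t).ι) := by rw [he']; exact h2 t
      exact MorphismProperty.of_postcomp (W := @LocallyOfFinitePresentation)
        (W' := MorphismProperty.monomorphisms Scheme.{u}) e' (O t).ι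
        (inferInstanceAs (Mono (O t).ι)) this
    haveI : Surjective e' := by
      refine ⟨fun x => ?_⟩
      obtain ⟨w, hw⟩ : (x.1 : T) ∈ Set.range (e t) := x.2
      refine ⟨w, ?_⟩
      apply (O t).ι.isOpenEmbedding.injective
      rw [← Scheme.Hom.comp_apply, he', hw]
      rfl
    have sq1 : IsPullback (q ⁻¹ᵁ (O t)).ι (q ∣_ (O t)) q (O t).ι :=
      (isPullback_morphismRestrict q (O t)).flip
    have sq2 := IsPullback.of_hasPullback q (e t)
    have hcomm : pullback.fst q (e t) ≫ q = (pullback.snd q (e t) ≫ e') ≫ (O t).ι := by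
      rw [Category.assoc, he', pullback.condition]
    have sq3 : IsPullback (sq1.lift _ _ hcomm) (pullback.snd q (e t)) (q ∣_ (O t)) e' := by
      apply IsPullback.of_right (h₁₂ := (q ⁻¹ᵁ (O t)).ι) (h₂₂ := (O t).ι) (v₁₃ := q) _ (by simp) sq1
      rw [sq1.lift_fst, he']
      exact sq2
    exact MorphismProperty.of_isPullback_of_descendsAlong (P := P)
      (Q := @Surjective ⊓ @Flat ⊓ @LocallyOfFinitePresentation) sq3.flip
      ⟨⟨inferInstance, inferInstance⟩, inferInstance⟩ (h4 t)

/-- Double base change: given pullbacks of `f` along `g` and `g'`, the pullback over the fibre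
product of `g` and `g'`. -/
lemma exists_isPullback {X S T U Z Z' : Scheme.{u}} {f : X ⟶ S} {g : T ⟶ S} {a : Z ⟶ X}
    {q : Z ⟶ T} (sq : IsPullback a q f g) {g' : U ⟶ S} {a' : Z' ⟶ X} {q' : Z' ⟶ U}
    (sq' : IsPullback a' q' f g') :
    ∃ b, IsPullback b (pullback.snd q (pullback.fst g g')) q' (pullback.snd g g') := by
  have sq2 := IsPullback.of_hasPullback q (pullback.fst g g')
  have sq3 := sq2.flip.paste_vert sq.flip
  have hcomm : (pullback.fst q (pullback.fst g g') ≫ a) ≫ f =
      (pullback.snd q (pullback.fst g g') ≫ pullback.snd g g') ≫ g' := by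
    rw [Category.assoc, sq.w, pullback.condition_assoc, Category.assoc, pullback.condition]
  refine ⟨sq'.lift _ _ hcomm, ?_⟩
  apply IsPullback.of_right (h₁₂ := a') (h₂₂ := g') (v₁₃ := f) _ (by simp) sq'
  have : sq'.lift _ _ hcomm ≫ a' = pullback.fst q (pullback.fst g g') ≫ a := by simp
  rw [this, ← pullback.condition]
  exact sq3.flip

theorem isFinLocFreeOfDeg_iff {X S : Scheme.{u}} (f : X ⟶ S) [Flat f]
    [LocallyOfFinitePresentation f] [IsSeparated f] [LocallyQuasiFinite f] (deg : S → ℕ)
    (hdeg : ∀ s d, d ≤ deg s ↔ Good f d s) (T : Scheme.{u}) (g : T ⟶ S) (r : ℕ) :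
    Mor2.IsFinLocFreeOfDeg r (pullback.snd f g) ↔ ∀ t : T, deg (g t) = r := by
  constructor
  · rintro ⟨⟨h1, h2, h3⟩, h4⟩ t
    obtain ⟨K, _, γ, p, rfl⟩ := exists_field_point t
    have sq1 := IsPullback.of_hasPullback f g
    have sq2 := IsPullback.of_hasPullback (pullback.snd f g) γ
    have sq3 : IsPullback (pullback.fst (pullback.snd f g) γ ≫ pullback.fst f g)
      (pullback.snd (pullback.snd f g) γ) f (γ ≫ g) := (sq2.flip.paste_vert sq1.flip).flip
    have key : ∀ d, d ≤ deg (g (γ p)) ↔ d ≤ r := by
      intro d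
      rw [hdeg, ← Scheme.Hom.comp_apply, good_iff_le_rkS sq3 p,
        rkS_top_eq_finrank (pullback.snd (pullback.snd f g) γ) p,
        Scheme.Hom.finrank_pullback_snd, h4 (γ p)]
      exact Nat.cast_le
    exact le_antisymm ((key _).mp le_rfl) ((key _).mpr le_rfl)
  · intro H
    have key : ∀ t : T, ∃ (W : Scheme.{u}) (e : W ⟶ T), Etale e ∧
      t ∈ Set.range e ∧ IsFinite (pullback.snd (pullback.snd f g) e) ∧
      ∀ w, (pullback.snd (pullback.snd f g) e).finrank w = r := by
      intro t
      obtain ⟨U, Z', g', a', q', V, hg', sq', ⟨u, hu⟩, hV, hr, HV⟩ :=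
        exists_etale_finite_piece f r (g t) ((hdeg _ _).mp (H t).ge)
          (fun h => by have := (hdeg _ _).mpr h; have := H t; omega)
      haveI : Flat q' := MorphismProperty.of_isPullback (P := @Flat) sq' inferInstance
      obtain ⟨w, hw1, hw2⟩ := Scheme.Pullback.exists_preimage_pullback t u hu.symm
      obtain ⟨b, sqb⟩ := exists_isPullback (IsPullback.of_hasPullback f g) sq'
      have htop : b ⁻¹ᵁ V = ⊤ := by
        rw [eq_top_iff]
        intro z _
        apply HV
        have e : q' (b z) = pullback.snd g g' (pullback.snd (pullback.snd f g) _ z) := by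
          rw [← Scheme.Hom.comp_apply, ← Scheme.Hom.comp_apply, sqb.w]
        rw [e, ← Scheme.Hom.comp_apply, ← pullback.condition, Scheme.Hom.comp_apply, ← hdeg, H]
        omega
      haveI := isFinite_of_eq_top _ _ htop (isFinite_preimage sqb V)
      refine ⟨pullback g g', pullback.fst g g', inferInstance, ⟨w, hw1⟩, inferInstance, ?_⟩
      intro w'
      rw [← finrank_of_eq_top _ _ htop, finrank_preimage sqb V, hr]
    haveI : UniversallyClosed (pullback.snd f g) := by
      apply of_forall_exists_fppf @UniversallyClosed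
      intro t
      obtain ⟨W, e, h1, h2, h3, -⟩ := key t
      exact ⟨W, e, inferInstance, inferInstance, h2, inferInstance⟩
    haveI : IsProper (pullback.snd f g) := { }
    haveI : IsFinite (pullback.snd f g) := IsFinite.of_isProper_of_locallyQuasiFinite _
    refine ⟨⟨inferInstance, inferInstance, inferInstance⟩, fun t => ?_⟩
    obtain ⟨W, e, h1, ⟨w, rfl⟩, h3, h4⟩ := key t
    rw [← h4 w, Scheme.Hom.finrank_pullback_snd (pullback.snd f g) e w]

end Groth.Agent.Flat2G.FibreDegreeE
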