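import Groth.Agent.Flat2G.FibreDegreeE

/-!
# The degree function
-/

set_option autoImplicit false
universe u

open AlgebraicGeometry CategoryTheory Limits TopologicalSpace
open Groth.Agent.Flat2G.FibreDegreeA Groth.Agent.Flat2G.FibreDegreeB
open Groth.Agent.Flat2G.FibreDegreeC Groth.Agent.Flat2G.FibreDegreeD

namespace Groth.Agent.Flat2G.FibreDegreeF

/-- The degree function of a morphism: the largest `d` with `Good f d s`. -/
noncomputable def deg {X S : Scheme.{u}} (f : X ⟶ S) (s : S) : ℕ := sSup {d | Good f d s}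

lemma le_deg_iff {X S : Scheme.{u}} (f : X ⟶ S) {s : S} (h : BddAbove {d | Good f d s}) (d : ℕ) :
    d ≤ deg f s ↔ Good f d s := by
  refine ⟨fun hd => ?_, fun hd => le_csSup h hd⟩
  have h1 : deg f s ∈ {d | Good f d s} := Nat.sSup_mem ⟨0, Good.zero f s⟩ h
  exact Good.mono hd h1

lemma isClosed_deg_le {X S : Scheme.{u}} (f : X ⟶ S) [Flat f] [LocallyOfFinitePresentation f]
    (h : ∀ s, BddAbove {d | Good f d s}) (r : ℕ) : IsClosed {s : S | deg f s ≤ r} := by
  have : {s : S | deg f s ≤ r} = {s : S | Good f (r + 1) s}ᶜ := by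
    ext s
    have := le_deg_iff f (h s) (r + 1)
    simp only [Set.mem_setOf_eq, Set.mem_compl_iff, ← this]
    omega
  rw [this]
  exact (isOpen_good f (r + 1)).isClosed_compl

lemma bddAbove_of_quasiCompact {X S : Scheme.{u}} (f : X ⟶ S) [Flat f]
    [LocallyOfFinitePresentation f] [IsSeparated f] [LocallyQuasiFinite f] [QuasiCompact f]
    (s : S) : BddAbove {d | Good f d s} := by
  obtain ⟨K, _, γ, p, rfl⟩ := exists_field_point s
  have sq := IsPullback.of_hasPullback f γ
  haveI : IsFinite (pullback.snd f γ) := IsFinite.of_locallyQuasiFinite _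
  refine ⟨(pullback.snd f γ).finrank p, fun d hd => ?_⟩
  have := (good_iff_le_rkS sq p).mp hd
  rw [rkS_top_eq_finrank _ p] at this
  exact_mod_cast this

end Groth.Agent.Flat2G.FibreDegreeF
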