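import Groth.Agent.Flat2G.FibreDegreeF
import Groth.Agent.EtpbcA.ConstrTop
import Groth.Agent.Ega43.ConsCrit

/-!
# Constructibility of the level sets of the degree function
-/

set_option autoImplicit false
universe u

open AlgebraicGeometry CategoryTheory Limits TopologicalSpace Topology
open Groth.Agent.Flat2G.FibreDegreeA Groth.Agent.Flat2G.FibreDegreeB
open Groth.Agent.Flat2G.FibreDegreeC Groth.Agent.Flat2G.FibreDegreeD
open Groth.Agent.Flat2G.FibreDegreeF

namespace Groth.Agent.Flat2G.FibreDegreeG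

lemma quasiCompact_ι_of_isClosed {Z : Scheme.{u}} (J : Z.Opens) (hJ : IsClosed (J : Set Z)) :
    QuasiCompact J.ι := by
  refine ⟨fun U _ hU => ?_⟩
  have : IsClosedEmbedding J.ι := by
    refine ⟨J.ι.isOpenEmbedding.isEmbedding, ?_⟩
    rw [Scheme.Opens.range_ι]
    exact hJ
  exact this.isCompact_preimage hU

/-- If all points over `u'` lie in the finite piece `V` of degree `r`, then the degree is `r`. -/
lemma deg_eq_of_forall_mem {X S : Scheme.{u}} (f : X ⟶ S) [Flat f] [LocallyOfFinitePresentation f]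
    [IsSeparated f] [LocallyQuasiFinite f] (hb : ∀ s, BddAbove {d | Good f d s})
    {U Z : Scheme.{u}} {g : U ⟶ S} {a : Z ⟶ X} {q : Z ⟶ U}
    (sq : IsPullback a q f g) (V : Z.Opens) [IsFinite (V.ι ≫ q)] (r : ℕ) (u : U)
    (hr : (V.ι ≫ q).finrank u = r) (H : ∀ z : Z, q z = u → z ∈ V) : deg f (g u) = r := by
  haveI : Flat q := MorphismProperty.of_isPullback (P := @Flat) sq inferInstance
  obtain ⟨K, _, γ, p, rfl⟩ := exists_field_point u
  have sq2 := IsPullback.of_hasPullback q γ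
  have sq3 : IsPullback (pullback.fst q γ ≫ a) (pullback.snd q γ) f (γ ≫ g) :=
    (sq2.flip.paste_vert sq.flip).flip
  have htop : (pullback.fst q γ) ⁻¹ᵁ V = ⊤ := by
    rw [eq_top_iff]
    intro z _
    apply H
    have e : q (pullback.fst q γ z) = γ (pullback.snd q γ z) := by
      rw [← Scheme.Hom.comp_apply, ← Scheme.Hom.comp_apply, sq2.w]
    rw [e, eq_of_field (pullback.snd q γ z) p]
  haveI := isFinite_of_eq_top _ _ htop (isFinite_preimage sq2 V)
  have hk : (pullback.snd q γ).finrank p = r := by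
    rw [← finrank_of_eq_top _ _ htop, finrank_preimage sq2 V, hr]
  have key : ∀ d, d ≤ deg f (g (γ p)) ↔ d ≤ r := by
    intro d
    rw [le_deg_iff f (hb _), ← Scheme.Hom.comp_apply, good_iff_le_rkS sq3 p,
      rkS_top_eq_finrank (pullback.snd q γ) p, hk]
    exact Nat.cast_le
  exact le_antisymm ((key _).mp le_rfl) ((key _).mpr le_rfl)

theorem isConstructible_deg_eq {X S : Scheme.{u}} (f : X ⟶ S) [Flat f]
    [LocallyOfFinitePresentation f] [IsSeparated f] [LocallyQuasiFinite f] [QuasiCompact f]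
    (W : S.Opens) (hW : IsAffineOpen W) (r : ℕ) :
    IsConstructible {x : (W : Scheme.{u}) | deg f (W.ι x) = r} := by
  have hb : ∀ s, BddAbove {d | Good f d s} := bddAbove_of_quasiCompact f
  haveI : IsAffine (W : Scheme.{u}) := hW
  apply Groth.Agent.Ega43.ConsCrit.isConstructible_of_forall_exists
  intro x
  let d := deg f (W.ι x)
  have hd1 : Good f d (W.ι x) := (le_deg_iff f (hb _) _).mp le_rfl
  have hd2 : ¬ Good f (d + 1) (W.ι x) := fun h => by
    have := (le_deg_iff f (hb _) _).mpr h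
    have : deg f (W.ι x) = d := rfl
    omega
  obtain ⟨U, Z, g, a, q, V, hg, sq, ⟨u, hu⟩, hV, hr, H⟩ :=
    exists_etale_finite_piece f d (W.ι x) hd1 hd2
  haveI : IsSeparated q := MorphismProperty.of_isPullback (P := @IsSeparated) sq inferInstance
  haveI : QuasiCompact q := MorphismProperty.of_isPullback (P := @QuasiCompact) sq inferInstance
  haveI : LocallyOfFinitePresentation q :=
    MorphismProperty.of_isPullback (P := @LocallyOfFinitePresentation) sq inferInstance
  let J : Z.Opens := cpl q V ⊤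
  have hJ : ∀ z : Z, z ∈ J ↔ z ∉ V := fun z => by
    rw [mem_cpl]
    exact ⟨fun h => h.2, fun h => ⟨trivial, h⟩⟩
  have hJc : IsClosed (J : Set Z) := by
    have : (J : Set Z) = (V : Set Z)ᶜ := Set.ext hJ
    rw [this]
    exact V.isOpen.isClosed_compl
  haveI := quasiCompact_ι_of_isClosed J hJc
  have hR := (J.ι ≫ q).isLocallyConstructible_image IsLocallyConstructible.univ
  -- an affine neighbourhood of `u` mapping into `W`
  obtain ⟨U', hU', huU', hU'W⟩ : ∃ U' : U.Opens, IsAffineOpen U' ∧ u ∈ U' ∧ U' ≤ g ⁻¹ᵁ W := by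
    obtain ⟨_, ⟨U', hU', rfl⟩, huU', hU'W⟩ :=
      U.isBasis_affineOpens.exists_subset_of_mem_open
        (show u ∈ (g ⁻¹ᵁ W : Set U) from by change g u ∈ W; rw [hu]; exact x.2) (g ⁻¹ᵁ W).2
    exact ⟨U', hU', huU', hU'W⟩
  haveI : IsAffine (U' : Scheme.{u}) := hU'
  let g' : (U' : Scheme.{u}) ⟶ (W : Scheme.{u}) := g.resLE W U' hU'W
  have hg' : g' ≫ W.ι = U'.ι ≫ g := Scheme.Hom.resLE_comp_ι g hU'W
  have hR' : IsConstructible (U'.ι ⁻¹' ((J.ι ≫ q) '' Set.univ)) :=
    (hR.preimage_of_isOpenEmbedding U'.ι.isOpenEmbedding).isConstructible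
  have hD := g'.isConstructible_image hR'.compl
  have hu' : W.ι (g' ⟨u, huU'⟩) = W.ι x := by
    rw [← Scheme.Hom.comp_apply, hg', Scheme.Hom.comp_apply, ← hu]
    rfl
  have hdeg : ∀ y ∈ g' '' (U'.ι ⁻¹' ((J.ι ≫ q) '' Set.univ))ᶜ, deg f (W.ι y) = d := by
    rintro _ ⟨y, hy, rfl⟩
    rw [← Scheme.Hom.comp_apply, hg', Scheme.Hom.comp_apply]
    refine deg_eq_of_forall_mem f hb sq V d (U'.ι y) (hr _) fun z hz => ?_
    by_contra hcon
    refine hy ⟨⟨z, (hJ z).mpr hcon⟩, trivial, ?_⟩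
    rw [Scheme.Hom.comp_apply, ← hz]
    rfl
  refine ⟨g' '' (U'.ι ⁻¹' ((J.ι ≫ q) '' Set.univ))ᶜ, hD, ⟨⟨u, huU'⟩, ?_, ?_⟩, ?_⟩
  · rintro ⟨z, -, hz⟩
    have hz2 : q (J.ι z) = u := by
      rw [Scheme.Hom.comp_apply] at hz
      exact hz
    exact (hJ _).mp z.2 (H _ (by
      change ¬ Good f (d + 1) (g (q (J.ι z)))
      rw [hz2, hu]
      exact hd2))
  · exact W.ι.isOpenEmbedding.injective hu'
  · by_cases hrd : r = d
    · convert hD using 1
      refine Set.inter_eq_left.mpr fun y hy => ?_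
      rw [hrd]
      exact hdeg y hy
    · convert IsConstructible.empty using 1
      rw [Set.eq_empty_iff_forall_notMem]
      rintro y ⟨hy1, hy2⟩
      exact hrd ((hdeg y hy1).symm.trans hy2).symm

theorem isRetrocompact_deg_eq {X S : Scheme.{u}} (f : X ⟶ S) [Flat f]
    [LocallyOfFinitePresentation f] [IsSeparated f] [LocallyQuasiFinite f] [QuasiCompact f]
    (r : ℕ) : IsRetrocompact {s : S | deg f s = r} := by
  intro U hU hUo
  obtain ⟨t, ht, hUt⟩ := (isCompact_iff_finite_and_eq_biUnion_affineOpens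
    (X := S) (U := ⟨U, hUo⟩)).mp hU
  have : {s : S | deg f s = r} ∩ U = ⋃ i ∈ t, ({s : S | deg f s = r} ∩ (i.1 : Set S)) := by
    have h2 : U = ⋃ i ∈ t, (i.1 : Set S) := by
      have := congrArg (fun O : S.Opens => (O : Set S)) hUt
      simpa using this
    rw [h2, Set.inter_iUnion₂]
  rw [this]
  refine ht.isCompact_biUnion fun W _ => ?_
  haveI : IsAffine (W.1 : Scheme.{u}) := W.2
  have hc := Groth.Agent.EtpbcA.ConstrTop.isCompact_of_isConstructible
    (isConstructible_deg_eq f W.1 W.2 r)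
  have := hc.image W.1.ι.continuous
  convert this using 1
  ext s
  constructor
  · rintro ⟨h1, h2⟩
    exact ⟨⟨s, h2⟩, h1, rfl⟩
  · rintro ⟨y, h1, rfl⟩
    exact ⟨h1, y.2⟩

end Groth.Agent.Flat2G.FibreDegreeG
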