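import Groth.Prelude.Def_FlatMod2
import Groth.Prelude.Def_MoreMor
import Groth.Agent.Fdesc.FlatBC
import Groth.Agent.Ega3B.FlatRestrict
import Groth.Agent.Flat2D.FiberStalk

/-!
# Flatness of a module over a fibre in terms of quotients of stalks
-/

set_option autoImplicit false
universe u

open AlgebraicGeometry CategoryTheory CategoryTheory.Limits TopologicalSpace

namespace Groth.Agent.Flat2G.FibreFlatAt

theorem flat_quotient {B C B' C' M N : Type u} [CommRing B] [CommRing C] [CommRing B'] [CommRing C'] [AddCommGroup M]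
    [AddCommGroup N] [Algebra B C] [Algebra C C'] [Algebra B B'] [Algebra B' C'] [Module C M] [Module B M]
    [IsScalarTower B C M] [Module C' N] [Module B' N] [IsScalarTower B' C' N]
    (hcomm : ∀ b : B, algebraMap B' C' (algebraMap B B' b) = algebraMap C C' (algebraMap B C b))
    (hB : Function.Surjective (algebraMap B B')) (J : Ideal B) (hJ : RingHom.ker (algebraMap B B') = J)
    (hC : RingHom.ker (algebraMap C C') = J.map (algebraMap B C))
    (can : M →+ N) (hcan : ∀ (c : C) (m : M), can (c • m) = algebraMap C C' c • can m)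
    (hsurj : Function.Surjective can) (hker : ∀ m, can m = 0 → m ∈ (RingHom.ker (algebraMap C C') • (⊤ : Submodule C M)))
    (hN : Module.Flat B' N) : Module.Flat (B ⧸ J) (M ⧸ (J • (⊤ : Submodule B M))) := by
  subst hJ
  let _ : Module B N := Module.compHom N (algebraMap B B')
  let can' : M →ₗ[B] N :=
    { toFun := can
      map_add' := map_add _
      map_smul' := fun b m => by
        change can (b • m) = algebraMap B B' b • can m
        rw [← algebraMap_smul C b m, hcan, ← hcomm, algebraMap_smul] }
  have hle : RingHom.ker (algebraMap B B') • (⊤ : Submodule B M) ≤ LinearMap.ker can' := by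
    rw [Submodule.smul_le]
    intro b hb m _
    change can (b • m) = 0
    rw [← algebraMap_smul C b m, hcan, ← hcomm, (RingHom.mem_ker).mp hb, map_zero, zero_smul]
  have hge : LinearMap.ker can' ≤ RingHom.ker (algebraMap B B') • (⊤ : Submodule B M) := by
    intro m hm
    have h1 := hker m hm
    rw [hC] at h1
    have h2 := Ideal.smul_restrictScalars (RingHom.ker (algebraMap B B')) (⊤ : Submodule C M)
    rw [Submodule.restrictScalars_top] at h2
    rw [← h2]
    exact h1
  let e : (M ⧸ (RingHom.ker (algebraMap B B') • (⊤ : Submodule B M))) ≃ₗ[B] N :=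
    (Submodule.quotEquivOfEq _ _ (le_antisymm hle hge)).trans
      (can'.quotKerEquivOfSurjective hsurj)
  let σ : (B ⧸ RingHom.ker (algebraMap B B')) ≃+* B' := RingHom.quotientKerEquivOfSurjective hB
  refine (Ega3B.FlatRestrict.flat_iff_of_semilinear σ e.toAddEquiv ?_).mpr hN
  intro r m
  obtain ⟨b, rfl⟩ := Ideal.Quotient.mk_surjective r
  have h1 : (Ideal.Quotient.mk (RingHom.ker (algebraMap B B')) b) • m = b • m := by
    obtain ⟨m, rfl⟩ := Submodule.Quotient.mk_surjective _ m
    rfl
  rw [h1]
  change e (b • m) = algebraMap B B' b • e m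
  rw [map_smul]
  rfl

variable {X Y Y' P : Scheme.{u}} {p : P ⟶ X} {q : P ⟶ Y'} {f : X ⟶ Y} {g : Y' ⟶ Y}

open Fdesc.PullbackStalk Fdesc.FlatBC

/-- flatness over a closed-immersion-like base change (surjective on stalks) in terms of quotients of stalks -/
theorem flat_quotient_of_isFlatOverAt (w : p ≫ f = q ≫ g) (F : X.Modules) (z : P) (J : Ideal (Y.presheaf.stalk (f (p z))))
    (hp : Function.Surjective (p.stalkMap z).hom)
    (hc : Function.Surjective (crossMap w z).hom) (hJ : RingHom.ker (crossMap w z).hom = J)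
    (hker : RingHom.ker (p.stalkMap z).hom = J.map (f.stalkMap (p z)).hom)
    (h : FlatMod.IsFlatOverAt q ((Scheme.Modules.pullback p).obj F) z) :
    letI := FlatMod.moduleStalkOver f F (p z)
    Module.Flat (Y.presheaf.stalk (f (p z)) ⧸ J) (F.presheaf.stalk (p z) ⧸ (J • (⊤ : Submodule (Y.presheaf.stalk (f (p z))) (F.presheaf.stalk (p z))))) := by
  let := FlatMod.moduleStalkOver f F (p z)
  let := stalkAlg f (p.base z)
  let : Algebra (Y.presheaf.stalk (f.base (p.base z))) (Y'.presheaf.stalk (q.base z)) :=
    (crossMap w z).hom.toAlgebra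
  let := stalkAlg p z
  let := stalkAlg q z
  let := FlatMod.moduleStalkOver q ((Scheme.Modules.pullback p).obj F) z
  have := isScalarTower f F (p z)
  have := isScalarTower q ((Scheme.Modules.pullback p).obj F) z
  have hsurj : Function.Surjective (canAdd p F z) := by
    intro t
    have ht : t ∈ Submodule.span (P.presheaf.stalk z) (Set.range (canAdd p F z)) := by
      rw [span_range_canAdd]; trivial
    induction ht using Submodule.span_induction with
    | mem t ht => exact ht
    | zero => exact ⟨0, map_zero _⟩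
    | add a b _ _ ha hb =>
      obtain ⟨a, rfl⟩ := ha
      obtain ⟨b, rfl⟩ := hb
      exact ⟨a + b, map_add _ _ _⟩
    | smul r a _ ha =>
      obtain ⟨a, rfl⟩ := ha
      obtain ⟨r, rfl⟩ := hp r
      exact ⟨r • a, canAdd_smul p F z r a⟩
  refine flat_quotient (C := X.presheaf.stalk (p z)) (B' := Y'.presheaf.stalk (q z)) (C' := P.presheaf.stalk z)
    (N := ((Scheme.Modules.pullback p).obj F).presheaf.stalk z) ?_ hc J hJ hker (canAdd p F z) (canAdd_smul p F z) hsurj ?_ h
  · intro b
    exact congr(($(crossMap_comp w z)).hom b)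
  · intro t ht
    -- the quotient as a module over the stalk of P
    let I := RingHom.ker (p.stalkMap z).hom
    let Q := F.presheaf.stalk (p z) ⧸ (I • (⊤ : Submodule (X.presheaf.stalk (p z)) (F.presheaf.stalk (p z))))
    let σ : (X.presheaf.stalk (p z) ⧸ I) ≃+* P.presheaf.stalk z := RingHom.quotientKerEquivOfSurjective hp
    let _ : Module (P.presheaf.stalk z) Q := Module.compHom Q σ.symm.toRingHom
    have hg : ∀ (r : X.presheaf.stalk (p z)) (t : F.presheaf.stalk (p z)),
      (Submodule.mkQ (I • (⊤ : Submodule (X.presheaf.stalk (p z)) (F.presheaf.stalk (p z))))).toAddMonoidHom (r • t) =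
        p.stalkMap z r • (Submodule.mkQ (I • (⊤ : Submodule (X.presheaf.stalk (p z)) (F.presheaf.stalk (p z))))).toAddMonoidHom t := by
      intro r t
      have hσ : σ.symm (p.stalkMap z r) = Ideal.Quotient.mk I r := by
        rw [RingEquiv.symm_apply_eq]
        rfl
      change _ = σ.symm (p.stalkMap z r) •
        (Submodule.mkQ (I • (⊤ : Submodule (X.presheaf.stalk (p z)) (F.presheaf.stalk (p z))))) t
      rw [hσ]
      rfl
    have h1 := lift_canAdd (M := F) (Q := Q) p _ hg t
    rw [ht, map_zero] at h1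
    exact (Submodule.Quotient.mk_eq_zero _).mp h1.symm


theorem stalkSpecializes_bijective {y y' : Y} (h : y' ⤳ y) (e : y' = y) :
    Function.Bijective (Y.presheaf.stalkSpecializes h).hom := by
  subst e
  rw [TopCat.Presheaf.stalkSpecializes_refl]
  exact Function.bijective_id

theorem comap_stalkSpecializes_fibreIdeal {S : Scheme.{u}} (g : Y ⟶ S) {y y' : Y} (h : y' ⤳ y) (e : y' = y) :
    (Flat2D.FiberStalk.fibreIdeal g y').comap (Y.presheaf.stalkSpecializes h).hom = Flat2D.FiberStalk.fibreIdeal g y := by
  subst e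
  rw [TopCat.Presheaf.stalkSpecializes_refl]
  rfl

/-- flatness of the restriction to the fibre implies flatness of the quotients of stalks -/
theorem flat_quotient_fiber {X Y S : Scheme.{u}} (f : X ⟶ Y) (g : Y ⟶ S) (F : X.Modules) (s : S)
    (z : ((f ≫ g).fiber s))
    (h : FlatMod.IsFlatOverAt (MoreMor.fiberMap f g s) ((Scheme.Modules.pullback ((f ≫ g).fiberι s)).obj F) z) :
    letI := FlatMod.moduleStalkOver f F ((f ≫ g).fiberι s z)
    Module.Flat (↑(Y.presheaf.stalk (f ((f ≫ g).fiberι s z))) ⧸ Ideal.map (g.stalkMap (f ((f ≫ g).fiberι s z))).hom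
        (IsLocalRing.maximalIdeal ↑(S.presheaf.stalk (g (f ((f ≫ g).fiberι s z))))))
      (↑(F.presheaf.stalk ((f ≫ g).fiberι s z)) ⧸ (Ideal.map (g.stalkMap (f ((f ≫ g).fiberι s z))).hom
        (IsLocalRing.maximalIdeal ↑(S.presheaf.stalk (g (f ((f ≫ g).fiberι s z))))) •
          (⊤ : Submodule ↑(Y.presheaf.stalk (f ((f ≫ g).fiberι s z))) ↑(F.presheaf.stalk ((f ≫ g).fiberι s z))))) := by
  have w : (f ≫ g).fiberι s ≫ f = MoreMor.fiberMap f g s ≫ g.fiberι s := (Limits.pullback.lift_fst _ _ _).symm
  refine flat_quotient_of_isFlatOverAt w F z _ (Flat2D.FiberStalk.stalkMap_fiberι_surjective (f ≫ g) s z) ?_ ?_ ?_ h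
  · -- crossMap surjective
    rw [crossMap, CommRingCat.hom_comp]
    refine (Flat2D.FiberStalk.stalkMap_fiberι_surjective g s _).comp (stalkSpecializes_bijective _ ?_).2
    exact (congr($w z)).symm
  · have h1 := Flat2D.FiberStalk.ker_stalkMap_fiberι g s (MoreMor.fiberMap f g s z)
    rw [crossMap, CommRingCat.hom_comp, ← RingHom.comap_ker, h1]
    exact comap_stalkSpecializes_fibreIdeal g _ (congr($w z)).symm
  · rw [Flat2D.FiberStalk.ker_stalkMap_fiberι, Flat2D.FiberStalk.fibreIdeal_def, Ideal.map_map,
      Scheme.Hom.stalkMap_comp]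
    rfl

end Groth.Agent.Flat2G.FibreFlatAt
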