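import Mathlib.AlgebraicGeometry.PullbackCarrier
import Mathlib.AlgebraicGeometry.AffineScheme
import Mathlib.AlgebraicGeometry.Pullbacks
import Mathlib.AlgebraicGeometry.Morphisms.OpenImmersion
import Mathlib.Algebra.Category.Ring.Constructions
import Mathlib.AlgebraicGeometry.ResidueField

/-!
# Stalks of the base change of a morphism to a field-valued point

`exists_chart`: if `Z = Y ×_S Spec K` then every stalk of `Z` is the local ring at a prime of
`K ⊗[Γ(S,V)] Γ(Y,U)` for affine opens `U ≤ h ⁻¹ᵁ V`.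
-/

set_option autoImplicit false
universe u

open AlgebraicGeometry CategoryTheory Limits TensorProduct

namespace Groth.Agent.Flat2G.FieldChart

lemma isPullback_comp_mono {C : Type*} [Category C] {W A B T S : C} {w₁ : W ⟶ A} {w₂ : W ⟶ B} {α : A ⟶ T}
    {β : B ⟶ T} (h : IsPullback w₁ w₂ α β) (m : T ⟶ S) [Mono m] : IsPullback w₁ w₂ (α ≫ m) (β ≫ m) := by
  have h2 : IsPullback (𝟙 A) α (α ≫ m) m := IsPullback.of_horiz_isIso_mono ⟨by simp⟩
  simpa using h.paste_horiz h2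

/-- The base change of a chart of `h : Y ⟶ S` along a field valued point, as an open immersion. -/
theorem exists_chart_openImmersion {Y S Z : Scheme.{u}} (h : Y ⟶ S) {K : Type u} [Field K]
    (t : Spec (.of K) ⟶ S) (a : Z ⟶ Y) (b : Z ⟶ Spec (.of K)) (hZ : IsPullback a b h t) (z : Z) :
    ∃ (U : Y.Opens) (V : S.Opens) (_ : IsAffineOpen U) (_ : IsAffineOpen V) (hUV : U ≤ h ⁻¹ᵁ V)
      (φ : Γ(S, V) →+* K),
      letI := (h.appLE V U hUV).hom.toAlgebra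
      letI := φ.toAlgebra
      ∃ (i : Spec (.of (K ⊗[Γ(S, V)] Γ(Y, U))) ⟶ Z), IsOpenImmersion i ∧ z ∈ Set.range i := by
  obtain ⟨V, hV, hzV, -⟩ := exists_isAffineOpen_mem_and_subset (X := S) (x := h (a z)) (U := ⊤) trivial
  obtain ⟨U, hU, hzU, hUV⟩ := exists_isAffineOpen_mem_and_subset (X := Y) (x := a z) (U := h ⁻¹ᵁ V) hzV
  have hUV' : U ≤ h ⁻¹ᵁ V := hUV
  -- factor `t` through `V`
  have ht : Set.range t ⊆ Set.range hV.fromSpec := by
    rintro _ ⟨x, rfl⟩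
    rw [hV.range_fromSpec, Subsingleton.elim x (b z), ← Scheme.Hom.comp_apply, ← hZ.w, Scheme.Hom.comp_apply]
    exact hzV
  let t' : Spec (.of K) ⟶ Spec Γ(S, V) := IsOpenImmersion.lift hV.fromSpec t ht
  have ht' : t' ≫ hV.fromSpec = t := IsOpenImmersion.lift_fac _ _ _
  obtain ⟨φ, hφ⟩ := Spec.map_surjective t'
  refine ⟨U, V, hU, hV, hUV', φ.hom, ?_⟩
  let := (h.appLE V U hUV').hom.toAlgebra
  let := φ.hom.toAlgebra
  let w₁ : Spec (.of (K ⊗[Γ(S, V)] Γ(Y, U))) ⟶ Spec Γ(Y, U) :=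
    Spec.map (CommRingCat.ofHom (Algebra.TensorProduct.includeRight (R := Γ(S, V)) (A := K) (B := Γ(Y, U))).toRingHom)
  let w₂ : Spec (.of (K ⊗[Γ(S, V)] Γ(Y, U))) ⟶ Spec (.of K) :=
    Spec.map (CommRingCat.ofHom (Algebra.TensorProduct.includeLeftRingHom (R := Γ(S, V)) (A := K) (B := Γ(Y, U))))
  have hW : IsPullback w₁ w₂ (Spec.map (h.appLE V U hUV')) t' := by
    rw [← hφ]
    exact (isPullback_SpecMap_of_isPushout _ _ _ _
      (CommRingCat.isPushout_tensorProduct Γ(S, V) K Γ(Y, U))).flip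
  have hW2 : IsPullback w₁ w₂ (hU.fromSpec ≫ h) t := by
    have := isPullback_comp_mono hW hV.fromSpec
    rwa [ht', IsAffineOpen.SpecMap_appLE_fromSpec h hV hU] at this
  let i : Spec (.of (K ⊗[Γ(S, V)] Γ(Y, U))) ⟶ Z := hZ.lift (w₁ ≫ hU.fromSpec) w₂
    (by rw [Category.assoc]; exact hW2.w)
  have hi₁ : i ≫ a = w₁ ≫ hU.fromSpec := hZ.lift_fst _ _ _
  have hi₂ : i ≫ b = w₂ := hZ.lift_snd _ _ _
  have hi : IsPullback i w₁ a hU.fromSpec := by
    refine IsPullback.of_right (h₁₂ := b) (v₁₃ := t) (h₂₂ := h) ?_ hi₁ hZ.flip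
    rw [hi₂]
    exact hW2.flip
  have hi' : IsOpenImmersion i := MorphismProperty.of_isPullback (P := @IsOpenImmersion) hi.flip inferInstance
  refine ⟨i, hi', ?_⟩
  have hz : a z ∈ Set.range hU.fromSpec := by rw [hU.range_fromSpec]; exact hzU
  obtain ⟨y, hy⟩ := hz
  obtain ⟨w, hw, -⟩ := Scheme.exists_preimage_of_isPullback hi z y hy.symm
  exact ⟨w, hw⟩

/-- Every stalk of `Y ×_S Spec K` is the local ring of `K ⊗[Γ(S,V)] Γ(Y,U)` at some prime. -/
theorem exists_chart {Y S Z : Scheme.{u}} (h : Y ⟶ S) {K : Type u} [Field K]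
    (t : Spec (.of K) ⟶ S) (a : Z ⟶ Y) (b : Z ⟶ Spec (.of K)) (hZ : IsPullback a b h t) (z : Z) :
    ∃ (U : Y.Opens) (V : S.Opens) (_ : IsAffineOpen U) (_ : IsAffineOpen V) (hUV : U ≤ h ⁻¹ᵁ V)
      (φ : Γ(S, V) →+* K),
      letI := (h.appLE V U hUV).hom.toAlgebra
      letI := φ.toAlgebra
      ∃ (q : Ideal (K ⊗[Γ(S, V)] Γ(Y, U))) (_ : q.IsPrime),
        Nonempty (Z.presheaf.stalk z ≃+* Localization.AtPrime q) := by
  obtain ⟨U, V, hU, hV, hUV, φ, i, hi, w, rfl⟩ := exists_chart_openImmersion h t a b hZ z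
  refine ⟨U, V, hU, hV, hUV, φ, ?_⟩
  let := (h.appLE V U hUV).hom.toAlgebra
  let := φ.toAlgebra
  refine ⟨w.asIdeal, w.2, ⟨?_⟩⟩
  exact (asIso (i.stalkMap w)).commRingCatIsoToRingEquiv.trans
    (Spec.stalkIso (CommRingCat.of (K ⊗[Γ(S, V)] Γ(Y, U))) w).commRingCatIsoToRingEquiv

end Groth.Agent.Flat2G.FieldChart
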