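import Groth.Agent.Hensel.PairEtale
import Mathlib.RingTheory.Finiteness.ModuleFinitePresentation
import Mathlib.AlgebraicGeometry.AffineScheme
import Mathlib.AlgebraicGeometry.Morphisms.OpenImmersion
import Mathlib.RingTheory.FinitePresentation
import Mathlib.RingTheory.Localization.Away.Basic

/-!
# Zariski's main theorem, affine finitely presented form

If `B` is a quasi-finite finitely presented `A`-algebra then there are a finite, finitely presented `A`-algebra `C` and
an `A`-algebra map `C → B` with `Spec B → Spec C` an open immersion.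

Flat2G / helper446.
-/

set_option autoImplicit false
universe u

open AlgebraicGeometry CategoryTheory Limits TensorProduct

namespace Groth.Agent.Flat2G.FinModel

lemma awayMapₐ_mk' {A B C : Type*} [CommRing A] [CommRing B] [CommRing C] [Algebra A B] [Algebra A C]
    (j : C →ₐ[A] B) (c : C) (y : C) (n : ℕ) : Localization.awayMapₐ j c
      (IsLocalization.mk' (Localization.Away c) y (⟨c ^ n, n, rfl⟩ : Submonoid.powers c)) =
      IsLocalization.mk' (Localization.Away (j c)) (j y) (⟨j c ^ n, n, rfl⟩ : Submonoid.powers (j c)) := by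
  refine (IsLocalization.map_mk' (M := Submonoid.powers c) (T := Submonoid.powers (j c)) (g := j.toRingHom)
    (by rintro _ ⟨n, rfl⟩; exact ⟨n, by simp⟩) y (⟨c ^ n, n, rfl⟩ : Submonoid.powers c)).trans ?_
  congr 1
  exact Subtype.ext (map_pow j c n)

lemma awayMapₐ_surjective {A B C : Type*} [CommRing A] [CommRing B] [CommRing C] [Algebra A B] [Algebra A C]
    (j : C →ₐ[A] B) (c : C) (h1 : ∀ x : B, ∃ n : ℕ, j c ^ n * x ∈ j.range) :
    Function.Surjective (Localization.awayMapₐ j c) := by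
  intro x
  obtain ⟨y, ⟨_, n, rfl⟩, rfl⟩ := IsLocalization.exists_mk'_eq (Submonoid.powers (j c)) x
  obtain ⟨m, z, hz⟩ := h1 y
  refine ⟨IsLocalization.mk' (Localization.Away c) z (⟨c ^ (m + n), m + n, rfl⟩ : Submonoid.powers c), ?_⟩
  rw [awayMapₐ_mk', IsLocalization.mk'_eq_iff_eq]
  change algebraMap _ _ (j c ^ n * j z) = algebraMap _ _ (j c ^ (m + n) * y)
  congr 1
  rw [show j z = j c ^ m * y from hz]
  ring

lemma exists_of_awayMapₐ_eq_zero {A B C : Type*} [CommRing A] [CommRing B] [CommRing C] [Algebra A B] [Algebra A C]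
    (j : C →ₐ[A] B) (c : C) (y : C) (n : ℕ) (h : Localization.awayMapₐ j c
      (IsLocalization.mk' (Localization.Away c) y (⟨c ^ n, n, rfl⟩ : Submonoid.powers c)) = 0) :
    ∃ m : ℕ, j (c ^ m * y) = 0 := by
  rw [awayMapₐ_mk', IsLocalization.mk'_eq_zero_iff] at h
  obtain ⟨⟨_, m, rfl⟩, hm⟩ := h
  exact ⟨m, by rw [map_mul, map_pow]; exact hm⟩

/-- `C[1/c] → B[1/j c]` is bijective if every `x : B` is, up to a power of `j c`, in the range of `j`, and every
element of the kernel of `j` up to a power of `j c` is killed by a power of `c`. -/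
lemma awayMapₐ_bijective {A B C : Type*} [CommRing A] [CommRing B] [CommRing C] [Algebra A B] [Algebra A C]
    (j : C →ₐ[A] B) (c : C) (h1 : ∀ x : B, ∃ n : ℕ, j c ^ n * x ∈ j.range)
    (h2 : ∀ y : C, j y = 0 → ∃ n : ℕ, c ^ n * y = 0) :
    Function.Bijective (Localization.awayMapₐ j c) := by
  refine ⟨?_, awayMapₐ_surjective j c h1⟩
  rw [injective_iff_map_eq_zero]
  intro x hx
  obtain ⟨y, ⟨_, n, rfl⟩, rfl⟩ := IsLocalization.exists_mk'_eq (Submonoid.powers c) x
  obtain ⟨m, hm⟩ := exists_of_awayMapₐ_eq_zero j c y n hx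
  rw [IsLocalization.mk'_eq_zero_iff]
  obtain ⟨k, hk⟩ := h2 (c ^ m * y) hm
  refine ⟨⟨c ^ (k + m), k + m, rfl⟩, ?_⟩
  change c ^ (k + m) * y = 0
  rw [pow_add, mul_assoc]
  exact hk

/-- Open immersion criterion. -/
lemma isOpenImmersion_SpecMap {B C : Type u} [CommRing B] [CommRing C] (j : C →+* B) (G : Set C)
    (hG : Ideal.span (j '' G) = ⊤) (h : ∀ g ∈ G, Function.Bijective (Localization.awayMap j g)) :
    IsOpenImmersion (Spec.map (CommRingCat.ofHom j)) := by
  refine IsZariskiLocalAtTarget.of_range_subset_iSup (P := @IsOpenImmersion)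
    (fun g : G => (PrimeSpectrum.basicOpen g.1 : (Spec (.of C)).Opens)) ?_ ?_
  · rintro _ ⟨P, rfl⟩
    have h1 : ∃ g ∈ G, j g ∉ P.asIdeal := by
      by_contra! hcon
      apply P.2.ne_top
      rw [eq_top_iff, ← hG, Ideal.span_le]
      rintro _ ⟨g, hg, rfl⟩
      exact hcon g hg
    obtain ⟨g, hg, hgP⟩ := h1
    exact TopologicalSpace.Opens.mem_iSup.mpr ⟨⟨g, hg⟩, hgP⟩
  · rintro ⟨g, hg⟩
    rw [MorphismProperty.arrow_mk_iso_iff @IsOpenImmersion (SpecMapRestrictBasicOpenIso (CommRingCat.ofHom j) g)]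
    have : IsIso (CommRingCat.ofHom (Localization.awayMap j g)) :=
      (ConcreteCategory.isIso_iff_bijective (CommRingCat.ofHom (Localization.awayMap j g))).mpr (h g hg)
    change IsOpenImmersion (Spec.map (CommRingCat.ofHom (Localization.awayMap j g)))
    infer_instance

theorem exists_finite_model {A B : Type u} [CommRing A] [CommRing B] [Algebra A B]
    [Algebra.FinitePresentation A B] [Algebra.QuasiFinite A B] :
    ∃ (C : Type u) (_ : CommRing C) (_ : Algebra A C) (j : C →ₐ[A] B), Module.Finite A C ∧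
      Algebra.FinitePresentation A C ∧ IsOpenImmersion (Spec.map (CommRingCat.ofHom j.toRingHom)) := by
  classical
  obtain ⟨C₀, hC₀, hZ⟩ := Groth.Agent.Hensel.PairEtale.exists_finite_subalgebra (R := A) (S := B)
  obtain ⟨C₁, _, _, _, _, _, φ₀, hφ₀⟩ := Module.Finite.exists_free_surjective A C₀
  let φ : C₁ →ₐ[A] B := C₀.val.comp φ₀
  have hφ : ∀ x : B, x ∈ C₀ ↔ x ∈ φ.range := by
    intro x
    constructor
    · intro hx
      obtain ⟨y, hy⟩ := hφ₀ ⟨x, hx⟩
      exact ⟨y, congrArg Subtype.val hy⟩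
    · rintro ⟨y, rfl⟩
      exact (φ₀ y).2
  -- a finite set of elements of `C₁`
  let G₀ : Set C₁ := {g | ∀ x : B, ∃ n : ℕ, φ g ^ n * x ∈ φ.range}
  have hspan : Ideal.span (φ '' G₀) = ⊤ := by
    by_contra hne
    obtain ⟨M, hM, hle⟩ := Ideal.exists_le_maximal _ hne
    obtain ⟨g, hgC, hgM, hg⟩ := hZ M hM.isPrime
    obtain ⟨g', rfl⟩ := (hφ g).mp hgC
    refine hgM (hle (Ideal.subset_span ⟨g', fun x => ?_, rfl⟩))
    obtain ⟨n, hn⟩ := hg x
    exact ⟨n, (hφ _).mp hn⟩
  obtain ⟨F, hF, hF1⟩ := (Ideal.span_eq_top_iff_finite _).mp hspan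
  obtain ⟨G, hGG₀, hGF⟩ : ∃ G : Finset C₁, (G : Set C₁) ⊆ G₀ ∧ φ '' (G : Set C₁) = F := by
    obtain ⟨G, hG1, hG2⟩ := Finset.subset_set_image_iff.mp hF
    exact ⟨G, hG1, by rw [← hG2]; simp⟩
  -- the kernel becomes finitely generated after inverting each `g ∈ G`
  have hker : ∀ g ∈ G, ∃ T : Finset C₁, (∀ t ∈ T, φ t = 0) ∧
      ∀ y : C₁, φ y = 0 → ∃ n : ℕ, g ^ n * y ∈ Ideal.span (T : Set C₁) := by
    intro g hg
    let Φ := Localization.awayMapₐ φ g
    have hΦ : Function.Surjective Φ := awayMapₐ_surjective φ g (hGG₀ hg)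
    have h1 : Algebra.FinitePresentation A (Localization.Away g) := by
      have : Algebra.FinitePresentation C₁ (Localization.Away g) := inferInstance
      exact Algebra.FinitePresentation.trans A C₁ _
    have h2 : Algebra.FinitePresentation A (Localization.Away (φ g)) := by
      have : Algebra.FinitePresentation B (Localization.Away (φ g)) := inferInstance
      exact Algebra.FinitePresentation.trans A B _
    have h3 : (RingHom.ker Φ.toRingHom).FG := Algebra.FinitePresentation.ker_fG_of_surjective Φ hΦ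
    have h4 : RingHom.ker Φ.toRingHom = Ideal.span (algebraMap C₁ (Localization.Away g) '' {y | φ y = 0}) := by
      apply le_antisymm
      · intro x hx
        obtain ⟨y, ⟨_, n, rfl⟩, rfl⟩ := IsLocalization.exists_mk'_eq (Submonoid.powers g) x
        obtain ⟨m, hm⟩ := exists_of_awayMapₐ_eq_zero φ g y n hx
        have h5 : IsLocalization.mk' (Localization.Away g) y (⟨g ^ n, n, rfl⟩ : Submonoid.powers g) =
            IsLocalization.mk' (Localization.Away g) 1 (⟨g ^ (n + m), n + m, rfl⟩ : Submonoid.powers g) *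
              algebraMap C₁ (Localization.Away g) (g ^ m * y) := by
          rw [mul_comm, ← IsLocalization.mk'_eq_mul_mk'_one, IsLocalization.mk'_eq_iff_eq]
          change algebraMap _ _ (g ^ (n + m) * y) = algebraMap _ _ (g ^ n * (g ^ m * y))
          congr 1
          ring
        change IsLocalization.mk' (Localization.Away g) y (⟨g ^ n, n, rfl⟩ : Submonoid.powers g) ∈ _
        rw [h5]
        exact Ideal.mul_mem_left _ _ (Ideal.subset_span ⟨_, hm, rfl⟩)
      · rw [Ideal.span_le]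
        rintro _ ⟨y, hy, rfl⟩
        change Φ (algebraMap C₁ (Localization.Away g) y) = 0
        have h5 : Φ (algebraMap C₁ (Localization.Away g) y) = algebraMap B (Localization.Away (φ g)) (φ y) :=
          IsLocalization.map_eq (M := Submonoid.powers g) (T := Submonoid.powers (φ g)) (g := φ.toRingHom)
            (by rintro _ ⟨n, rfl⟩; exact ⟨n, by simp⟩) y
        rw [h5, show φ y = 0 from hy, map_zero]
    rw [h4] at h3
    obtain ⟨s, hs, hs'⟩ := (Submodule.fg_span_iff_fg_span_finset_subset _).mp h3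
    obtain ⟨T, hT1, hT2⟩ := Finset.subset_set_image_iff.mp hs
    refine ⟨T, fun t ht => hT1 ht, fun y hy => ?_⟩
    have h6 : algebraMap C₁ (Localization.Away g) y ∈ (Ideal.span (T : Set C₁)).map (algebraMap C₁ (Localization.Away g)) := by
      rw [Ideal.map_span]
      have h7 : (algebraMap C₁ (Localization.Away g)) '' (T : Set C₁) = (s : Set _) := by
        rw [← hT2]; simp
      rw [h7]
      have h8 : algebraMap C₁ (Localization.Away g) y ∈
          Ideal.span (algebraMap C₁ (Localization.Away g) '' {y | φ y = 0}) :=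
        Ideal.subset_span ⟨y, hy, rfl⟩
      exact hs'.le h8
    rw [IsLocalization.mem_map_algebraMap_iff (Submonoid.powers g)] at h6
    obtain ⟨⟨⟨a, ha⟩, ⟨_, m, rfl⟩⟩, hm⟩ := h6
    rw [← map_mul, IsLocalization.eq_iff_exists (Submonoid.powers g)] at hm
    obtain ⟨⟨_, k, rfl⟩, hk⟩ := hm
    refine ⟨k + m, ?_⟩
    have h9 : g ^ (k + m) * y = g ^ k * a := by
      have h10 : g ^ k * (y * g ^ m) = g ^ k * a := hk
      rw [← h10]
      ring
    rw [h9]
    exact Ideal.mul_mem_left _ _ ha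
  choose! T hT hT' using hker
  let J₀ : Ideal C₁ := Ideal.span (⋃ g ∈ G, (T g : Set C₁))
  have hJ₀ : J₀.FG := Submodule.fg_span (G.finite_toSet.biUnion fun g _ => (T g).finite_toSet)
  have hJ₀φ : ∀ x ∈ J₀, φ x = 0 := by
    intro x hx
    have h1 : J₀ ≤ RingHom.ker φ := by
      rw [Ideal.span_le]
      intro y hy
      simp only [Set.mem_iUnion] at hy
      obtain ⟨g, hg, hy⟩ := hy
      exact hT g hg y hy
    exact h1 hx
  let j : C₁ ⧸ J₀ →ₐ[A] B := Ideal.Quotient.liftₐ J₀ φ hJ₀φ
  refine ⟨C₁ ⧸ J₀, inferInstance, inferInstance, j, inferInstance,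
    Algebra.FinitePresentation.quotient hJ₀, ?_⟩
  refine isOpenImmersion_SpecMap j.toRingHom (Ideal.Quotient.mk J₀ '' G) ?_ ?_
  · rw [← hF1, ← hGF, ← Set.image_comp]
    rfl
  · rintro _ ⟨g, hg, rfl⟩
    refine awayMapₐ_bijective j _ ?_ ?_
    · intro x
      obtain ⟨n, y, hy⟩ := hGG₀ hg x
      exact ⟨n, Ideal.Quotient.mk J₀ y, hy⟩
    · intro y hy
      obtain ⟨z, rfl⟩ := Ideal.Quotient.mk_surjective y
      obtain ⟨n, hn⟩ := hT' g hg z hy
      refine ⟨n, ?_⟩
      rw [← map_pow, ← map_mul, Ideal.Quotient.eq_zero_iff_mem]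
      exact Ideal.span_mono (Set.subset_biUnion_of_mem (u := fun g => (T g : Set C₁)) hg) hn

end Groth.Agent.Flat2G.FinModel
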