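import Groth.Agent.Flat2G.AclPt
import Groth.Agent.Flat2B.LST1
import Groth.Agent.Flat2A.Fiber
import Groth.Agent.FlatA.FibreDim
import Groth.Agent.FlatB.AffSpaceSmooth
import Mathlib.AlgebraicGeometry.ZariskisMainTheorem

/-!
# Local charts quasi-finite over affine space, adapted to a point (052D)
-/

set_option autoImplicit false
universe u

open AlgebraicGeometry CategoryTheory Limits

namespace Groth.Agent.Flat2G.FinSmoothChart

theorem quasiFiniteAt_SpecMap {P B : Type u} [CommRing P] [CommRing B] (φ : P →+* B) (x : PrimeSpectrum B)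
    (h : φ.QuasiFiniteAt x.asIdeal) :
    Scheme.Hom.QuasiFiniteAt (X := Spec (.of B)) (Spec.map (CommRingCat.ofHom φ)) x := by
  algebraize [φ]
  have h' : Algebra.QuasiFinite P (Localization.AtPrime x.asIdeal) := h
  have h0 : (Spec (.of B)).fromSpecStalk x = Spec.map (Spec.stalkIso (.of B) x).inv ≫
      Spec.map (CommRingCat.ofHom (algebraMap B (Localization.AtPrime x.asIdeal))) := by
    rw [← Spec.map_comp]
    exact (Spec.fromSpecStalk_eq _ _).trans (congrArg Spec.map (Spec.algebraMap_stalkIso_inv ..).symm)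
  have h1 : LocallyQuasiFinite ((Spec.map (Spec.stalkIso (.of B) x).inv ≫
      Spec.map (CommRingCat.ofHom (algebraMap B (Localization.AtPrime x.asIdeal)))) ≫
        Spec.map (CommRingCat.ofHom φ)) := by
    have h2 : LocallyQuasiFinite (Spec.map (CommRingCat.ofHom φ ≫
        CommRingCat.ofHom (algebraMap B (Localization.AtPrime x.asIdeal)))) := by
      rw [HasRingHomProperty.Spec_iff (P := @LocallyQuasiFinite)]
      change RingHom.QuasiFinite ((algebraMap B (Localization.AtPrime x.asIdeal)).comp (algebraMap P B))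
      rw [← IsScalarTower.algebraMap_eq]
      exact RingHom.quasiFinite_algebraMap.mpr h'
    rw [Category.assoc, ← Spec.map_comp]
    infer_instance
  refine Scheme.Hom.quasiFiniteAt_iff.mpr ?_
  rw [← h0] at h1
  exact h1

/-- Affine charts near `x` with `X₀ → A = 𝔸ⁿ` quasi-finite at `x₀` and residue field of the image point in
which the residue field of the base point is algebraically closed. -/
theorem exists_chart {X S : Scheme.{u}} (f : X ⟶ S) [LocallyOfFiniteType f] (x : X) (n : ℕ)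
    (hn : FlatMor.fibreDimAt f x = n) :
    ∃ (S₀ X₀ A : Scheme.{u}) (j : S₀ ⟶ S) (i : X₀ ⟶ X) (k : X₀ ⟶ A) (c : A ⟶ S₀) (x₀ : X₀),
      IsAffine S₀ ∧ IsAffine X₀ ∧ IsAffine A ∧ IsOpenImmersion j ∧ IsOpenImmersion i ∧ i x₀ = x ∧
      k ≫ c ≫ j = i ≫ f ∧ LocallyOfFiniteType k ∧ k.QuasiFiniteAt x₀ ∧
      SmoothOfRelativeDimension n c ∧ AclPt.Pt c (k x₀) := by
  obtain ⟨V, hV, hxV, -⟩ := exists_isAffineOpen_mem_and_subset (U := ⊤) (x := f x) (by trivial)
  obtain ⟨U, hU, hxU, hUV⟩ := exists_isAffineOpen_mem_and_subset (U := f ⁻¹ᵁ V) (x := x) hxV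
  have e : U ≤ f ⁻¹ᵁ V := hUV
  have hft : (f.appLE V U e).hom.FiniteType := f.finiteType_appLE hV hU e
  let := (f.appLE V U e).hom.toAlgebra
  have : Algebra.FiniteType Γ(S, V) Γ(X, U) := hft
  have h1 := Groth.Agent.FlatA.FibreDim.fibreDimAt_fromSpec f hV hU e (hU.primeIdealOf ⟨x, hxU⟩)
  rw [hU.fromSpec_primeIdealOf ⟨x, hxU⟩] at h1
  rw [h1] at hn
  let q : PrimeSpectrum Γ(X, U) := hU.primeIdealOf ⟨x, hxU⟩
  let p : PrimeSpectrum Γ(S, V) := PrimeSpectrum.comap (algebraMap Γ(S, V) Γ(X, U)) q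
  have hqp : q.asIdeal.LiesOver p.asIdeal := ⟨rfl⟩
  let ε := PrimeSpectrum.preimageHomeomorphFiber Γ(S, V) Γ(X, U) p
  let z : PrimeSpectrum (p.asIdeal.Fiber Γ(X, U)) := ε ⟨q, rfl⟩
  have hz : z.asIdeal = FlatCA.fiberIdeal p.asIdeal q.asIdeal := by
    have h2 : z.asIdeal.comap (Algebra.TensorProduct.includeRight (R := Γ(S, V))
        (A := p.asIdeal.ResidueField) (B := Γ(X, U))).toRingHom = q.asIdeal :=
      congr($(ε.symm_apply_apply ⟨q, rfl⟩).1.1)
    have h3 := Flat2A.Fiber.fiberIdeal_comap p.asIdeal z.asIdeal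
    rw [h2] at h3
    exact h3.symm
  have hz2 : FlatMor.localDim (PrimeSpectrum (p.asIdeal.Fiber Γ(X, U))) z = n := by
    rw [← hn]
    exact (VarietyB.DimTop.localDim_eq_of_homeomorph ε _).symm
  obtain ⟨g, φ, Q, hQ, hQq, y, hy, hyp, hg, hQy, hqf, hpt⟩ :=
    Flat2B.LST1.exists_quasiFinite_purelyTranscendental p.asIdeal q.asIdeal n z hz hz2
  obtain ⟨w, rfl⟩ : ∃ w : PrimeSpectrum (Localization.Away g), w.asIdeal = Q := ⟨⟨Q, hQ⟩, rfl⟩
  obtain ⟨v, rfl⟩ : ∃ v : PrimeSpectrum (MvPolynomial (Fin n) Γ(S, V)), v.asIdeal = y := ⟨⟨y, hy⟩, rfl⟩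
  let c : Spec (.of (MvPolynomial (Fin n) Γ(S, V))) ⟶ Spec Γ(S, V) :=
    Spec.map (CommRingCat.ofHom (algebraMap Γ(S, V) (MvPolynomial (Fin n) Γ(S, V))))
  let k : Spec (.of (Localization.Away g)) ⟶ Spec (.of (MvPolynomial (Fin n) Γ(S, V))) :=
    Spec.map (CommRingCat.ofHom φ.toRingHom)
  let a : Spec (.of (Localization.Away g)) ⟶ Spec Γ(X, U) :=
    Spec.map (CommRingCat.ofHom (algebraMap Γ(X, U) (Localization.Away g)))
  have ha : IsOpenImmersion a := IsOpenImmersion.of_isLocalization g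
  have hkc : k ≫ c = a ≫ Spec.map (f.appLE V U e) := by
    simp only [k, c, a, ← Spec.map_comp]
    congr 1
    ext1
    change φ.toRingHom.comp (algebraMap Γ(S, V) (MvPolynomial (Fin n) Γ(S, V))) =
      (algebraMap Γ(X, U) (Localization.Away g)).comp (algebraMap Γ(S, V) Γ(X, U))
    rw [← IsScalarTower.algebraMap_eq]
    exact φ.comp_algebraMap
  have hsm : SmoothOfRelativeDimension n c :=
    Groth.Agent.FlatB.AffSpaceSmooth.smoothOfRelativeDimension_SpecMap Γ(S, V) n
  have hkft : LocallyOfFiniteType k := by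
    refine (HasRingHomProperty.Spec_iff (P := @LocallyOfFiniteType)).mpr ?_
    refine RingHom.FiniteType.of_comp_finiteType
      (f := algebraMap Γ(S, V) (MvPolynomial (Fin n) Γ(S, V))) ?_
    change (φ.toRingHom.comp (algebraMap Γ(S, V) (MvPolynomial (Fin n) Γ(S, V)))).FiniteType
    have : φ.toRingHom.comp (algebraMap Γ(S, V) (MvPolynomial (Fin n) Γ(S, V))) =
      algebraMap Γ(S, V) (Localization.Away g) := φ.comp_algebraMap
    rw [this]
    exact RingHom.finiteType_algebraMap.mpr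
      (Algebra.FiniteType.trans (S := Γ(X, U)) inferInstance (IsLocalization.finiteType_of_monoid_fg
        (Submonoid.powers g) _))
  refine ⟨Spec Γ(S, V), Spec (.of (Localization.Away g)), Spec (.of (MvPolynomial (Fin n) Γ(S, V))),
    hV.fromSpec, a ≫ hU.fromSpec, k, c, w, inferInstance, inferInstance, inferInstance,
    inferInstance, inferInstance, ?_, ?_, hkft, ?_, hsm, ?_⟩
  · change hU.fromSpec (a w) = x
    have : a w = q := PrimeSpectrum.ext (w.asIdeal.over_def q.asIdeal).symm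
    rw [this]
    exact hU.fromSpec_primeIdealOf ⟨x, hxU⟩
  · rw [reassoc_of% hkc, Category.assoc, IsAffineOpen.SpecMap_appLE_fromSpec f hV hU e]
  · exact quasiFiniteAt_SpecMap φ.toRingHom w hqf
  · have h4 := AclPt.pt_of_purelyTranscendental p.asIdeal v.asIdeal hpt
    have h5 : k w = v := PrimeSpectrum.ext hQy
    rw [h5]
    exact h4

end Groth.Agent.Flat2G.FinSmoothChart
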