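import Groth.Prelude.Def_FlatMod2
import Groth.Agent.Fdesc.QCohStalk
import Groth.Agent.Desc.FPSections
import Groth.Agent.S0387
import Mathlib.RingTheory.Flat.Localization
import Mathlib.Algebra.Module.FinitePresentation
import Mathlib.AlgebraicGeometry.Morphisms.FinitePresentation

/-!
# The flat locus of a quasi-coherent module over the base, on affine opens
-/

set_option autoImplicit false
universe u

open AlgebraicGeometry CategoryTheory CategoryTheory.Limits TopologicalSpace

namespace Groth.Agent.Flat2G.FlatLocus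

theorem flat_iff_localizedModule {R S R' M N : Type u} [CommRing R] [CommRing S] [CommRing R'] [Algebra R S] [Algebra R R']
    [AddCommGroup M] [Module S M] [Module R M] [IsScalarTower R S M]
    [AddCommGroup N] [Module S N] [Module R' N] (p : Submonoid R) [IsLocalization p R'] (q : Submonoid S)
    (φ : M →ₗ[S] N) [IsLocalizedModule q φ] (h : ∀ (r : R) (n : N), algebraMap R R' r • n = algebraMap R S r • n) :
    Module.Flat R' N ↔ Module.Flat R (LocalizedModule q M) := by
  let _ : Module R N := Module.compHom N (algebraMap R R')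
  have : IsScalarTower R R' N := .of_algebraMap_smul fun _ _ => rfl
  have : IsScalarTower R S N := .of_algebraMap_smul fun r n => (h r n).symm
  rw [Module.flat_iff_of_isLocalization R' p N]
  let e : LocalizedModule q M ≃ₗ[S] N := IsLocalizedModule.iso q φ
  let e' : LocalizedModule q M ≃ₗ[R] N := e.restrictScalars R
  exact ⟨fun _ => Module.Flat.of_linearEquiv e', fun _ => Module.Flat.of_linearEquiv e'.symm⟩

variable {X Y : Scheme.{u}} (f : X ⟶ Y) (F : X.Modules)

theorem isFlatOverAt_iff (hq : Coh.IsQCoh F) {U : X.Opens} {V : Y.Opens} (hU : IsAffineOpen U) (hV : IsAffineOpen V)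
    (e : U ≤ f ⁻¹ᵁ V) (x : X) (hx : x ∈ U) :
    letI := (f.appLE V U e).hom.toAlgebra
    letI : Module Γ(Y, V) Γ(F, U) := Module.compHom _ (f.appLE V U e).hom
    haveI : IsScalarTower Γ(Y, V) Γ(X, U) Γ(F, U) := .of_algebraMap_smul fun _ _ => rfl
    FlatMod.IsFlatOverAt f F x ↔
      Module.Flat Γ(Y, V) (LocalizedModule (hU.primeIdealOf ⟨x, hx⟩).asIdeal.primeCompl Γ(F, U)) := by
  let := (f.appLE V U e).hom.toAlgebra
  let : Module Γ(Y, V) Γ(F, U) := Module.compHom _ (f.appLE V U e).hom
  have : IsScalarTower Γ(Y, V) Γ(X, U) Γ(F, U) := .of_algebraMap_smul fun _ _ => rfl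
  let := Fdesc.QCohStalk.stalkModule F x hx
  let := FlatMod.moduleStalkOver f F x
  have hloc := Fdesc.QCohStalk.isLocalizedModule_germ F hU hq x hx
  have hyV : f x ∈ V := e hx
  let : Algebra Γ(Y, V) (Y.presheaf.stalk (f x)) := (Y.presheaf.germ V (f x) hyV).hom.toAlgebra
  have : IsLocalization (hV.primeIdealOf ⟨f x, hyV⟩).asIdeal.primeCompl (Y.presheaf.stalk (f x)) :=
    hV.isLocalization_stalk ⟨f x, hyV⟩
  refine flat_iff_localizedModule (hV.primeIdealOf ⟨f x, hyV⟩).asIdeal.primeCompl _
    (Fdesc.QCohStalk.germₗ F x hx) ?_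
  intro r n
  have h1 : (f.stalkMap x).hom (Y.presheaf.germ V (f x) hyV r) = X.presheaf.germ U x hx (f.appLE V U e r) := by
    have := Scheme.Hom.germ_stalkMap_apply f V x hyV r
    rw [this, Scheme.Hom.appLE]
    exact (TopCat.Presheaf.germ_res_apply _ _ _ _ _).symm
  change (f.stalkMap x).hom (Y.presheaf.germ V (f x) hyV r) • n = X.presheaf.germ U x hx (f.appLE V U e r) • n
  rw [h1]

/-- The flat locus of a finitely presented quasi-coherent module over the target of a morphism locally of finite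
presentation is open. -/
theorem isOpen_flatLocus [LocallyOfFinitePresentation f] (hq : Coh.IsQCoh F) (hfp : CohB1.IsFP F) :
    IsOpen {x : X | FlatMod.IsFlatOverAt f F x} := by
  rw [isOpen_iff_forall_mem_open]
  intro x hx
  obtain ⟨V, hV, hxV, -⟩ := exists_isAffineOpen_mem_and_subset (x := f x) (U := ⊤) trivial
  obtain ⟨U, hU, hxU, e⟩ := exists_isAffineOpen_mem_and_subset (x := x) (U := f ⁻¹ᵁ V) hxV
  let := (f.appLE V U e).hom.toAlgebra
  let : Module Γ(Y, V) Γ(F, U) := Module.compHom _ (f.appLE V U e).hom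
  have : IsScalarTower Γ(Y, V) Γ(X, U) Γ(F, U) := .of_algebraMap_smul fun _ _ => rfl
  have : Algebra.FinitePresentation Γ(Y, V) Γ(X, U) :=
    LocallyOfFinitePresentation.finitePresentation_appLE f hV hU e
  have : Module.FinitePresentation Γ(X, U) Γ(F, U) := Desc.FPSections.finitePresentation_sections hU hq hfp
  have hop := S0387.result (R := Γ(Y, V)) (S := Γ(X, U)) (M := Γ(F, U))
  let O : (Spec Γ(X, U)).Opens := ⟨_, hop⟩
  have key : ∀ (y : X) (hy : y ∈ U), FlatMod.IsFlatOverAt f F y ↔ hU.primeIdealOf ⟨y, hy⟩ ∈ O :=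
    fun y hy => isFlatOverAt_iff f F hq hU hV e y hy
  refine ⟨hU.fromSpec ''ᵁ O, ?_, (hU.fromSpec ''ᵁ O).2, ?_⟩
  · rintro _ ⟨q, hq', rfl⟩
    have hxq : hU.fromSpec q ∈ U := by
      rw [← SetLike.mem_coe, ← hU.range_fromSpec]
      exact ⟨q, rfl⟩
    refine (key _ hxq).mpr ?_
    have h3 : hU.primeIdealOf ⟨hU.fromSpec q, hxq⟩ = q := by
      apply hU.fromSpec.isOpenEmbedding.injective
      exact hU.fromSpec_primeIdealOf _
    rw [h3]
    exact hq'
  · exact ⟨_, (key x hxU).mp hx, hU.fromSpec_primeIdealOf _⟩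

end Groth.Agent.Flat2G.FlatLocus
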