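import Mathlib.Algebra.Module.FinitePresentation
import Mathlib.RingTheory.TensorProduct.MvPolynomial
import Mathlib.RingTheory.TensorProduct.IsBaseChangeRightExact
import Mathlib.RingTheory.TensorProduct.IsBaseChangePi
import Mathlib.RingTheory.FinitePresentation
import Mathlib.RingTheory.Flat.Stability
import Mathlib.RingTheory.Ideal.MinimalPrime.Noetherian
import Mathlib.RingTheory.FiniteType
import Mathlib.RingTheory.Nilpotent.Lemmas
import Groth.Agent.S0389

/-!
# Generic flatness stratification, affine algebraic part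

`FlatOn A I J M`: the module `M` becomes flat after base change to any `A`-algebra `C` with `I C = 0`
and `J C = C` (that is, over the locally closed stratum `V(I) \ V(J)`).

Main result `exists_flat_chain`: for finitely many finitely presented modules over finitely presented
`A`-algebras there is a finite chain of finitely generated ideals `H 0 ≤ ... ≤ H t = A`, with
`H 0` contained in the nilradical, such that all modules are flat over each stratum.
-/

set_option autoImplicit false
set_option linter.style.haveILetI false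

universe u

open TensorProduct

namespace Groth.Agent.Flat2G.FlatStratAlg

/-- Flatness of `M` over the stratum `V(I) \ V(J)`, functorial form. -/
def FlatOn (A : Type u) [CommRing A] (I J : Ideal A) (M : Type u) [AddCommGroup M] [Module A M] :
    Prop :=
  ∀ (C : Type u) [CommRing C] [Algebra A C], I.map (algebraMap A C) = ⊥ →
    J.map (algebraMap A C) = ⊤ → Module.Flat C (C ⊗[A] M)

section FlatOn

variable {A : Type u} [CommRing A] {I I' J J' : Ideal A} {M N : Type u} [AddCommGroup M] [Module A M]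
  [AddCommGroup N] [Module A N]

theorem FlatOn.mono (h : FlatOn A I J M) (hI : I ≤ I') (hJ : J' ≤ J) : FlatOn A I' J' M := by
  intro C _ _ h1 h2
  refine h C ?_ ?_
  · exact le_bot_iff.mp ((Ideal.map_mono hI).trans h1.le)
  · exact top_le_iff.mp (h2.ge.trans (Ideal.map_mono hJ))

theorem map_eq_top_of_le_radical {C : Type u} [CommRing C] [Algebra A C] (hJ : J' ≤ J.radical)
    (h : J'.map (algebraMap A C) = ⊤) : J.map (algebraMap A C) = ⊤ := by
  have h1 : J'.map (algebraMap A C) ≤ (J.map (algebraMap A C)).radical :=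
    (Ideal.map_mono hJ).trans (Ideal.map_radical_le _)
  rw [h, top_le_iff, Ideal.radical_eq_top] at h1
  exact h1

/-- variant of monotonicity: the open part may be changed by an ideal with the same
radical, and relative to `I`. -/
theorem FlatOn.mono' (h : FlatOn A I J M) (hI : I ≤ I') (hJ : J' ≤ (J ⊔ I').radical) :
    FlatOn A I' J' M := by
  intro C _ _ h1 h2
  refine h C ?_ ?_
  · exact le_bot_iff.mp ((Ideal.map_mono hI).trans h1.le)
  · have := map_eq_top_of_le_radical hJ h2
    rwa [Ideal.map_sup, h1, sup_bot_eq] at this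

theorem FlatOn.of_equiv (h : FlatOn A I J M) (e : M ≃ₗ[A] N) : FlatOn A I J N := by
  intro C _ _ h1 h2
  have := h C h1 h2
  exact Module.Flat.of_linearEquiv (LinearEquiv.baseChange A C _ _ e).symm

end FlatOn

/-- Base change of `FlatOn`. -/
theorem FlatOn.baseChange {A A' : Type u} [CommRing A] [CommRing A'] [Algebra A A'] {I J : Ideal A}
    {M : Type u} [AddCommGroup M] [Module A M] (h : FlatOn A I J M) :
    FlatOn A' (I.map (algebraMap A A')) (J.map (algebraMap A A')) (A' ⊗[A] M) := by
  intro C _ _ h1 h2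
  letI : Algebra A C := ((algebraMap A' C).comp (algebraMap A A')).toAlgebra
  haveI : IsScalarTower A A' C := IsScalarTower.of_algebraMap_eq fun _ => rfl
  have h3 : Module.Flat C (C ⊗[A] M) := by
    refine h C ?_ ?_
    · rw [IsScalarTower.algebraMap_eq A A' C, ← Ideal.map_map]; exact h1
    · rw [IsScalarTower.algebraMap_eq A A' C, ← Ideal.map_map]; exact h2
  exact Module.Flat.of_linearEquiv (AlgebraTensorModule.cancelBaseChange A A' C C M)

section Step

attribute [local instance] MvPolynomial.algebraMvPolynomial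

/-- generic flatness over an integral quotient, for a module over a polynomial ring. -/
theorem exists_flatOn_of_prime {A : Type u} [CommRing A] (p : Ideal A) [p.IsPrime] {n : ℕ}
    {M : Type u} [AddCommGroup M] [Module A M] [Module (MvPolynomial (Fin n) A) M]
    [IsScalarTower A (MvPolynomial (Fin n) A) M] [Module.Finite (MvPolynomial (Fin n) A) M] :
    ∃ h : A, h ∉ p ∧ FlatOn A p (Ideal.span {h}) M := by
  let P := MvPolynomial (Fin n) A
  let P' := MvPolynomial (Fin n) (A ⧸ p)
  obtain ⟨f, hf0, hfree, -⟩ := Groth.Agent.S0389.result (R := A ⧸ p) (S := P') (M := P' ⊗[P] M)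
  obtain ⟨h, rfl⟩ := Ideal.Quotient.mk_surjective f
  refine ⟨h, fun hh => hf0 (Ideal.Quotient.eq_zero_iff_mem.mpr hh), ?_⟩
  intro C _ _ h1 h2
  have hu : IsUnit (algebraMap A C h) := by
    rw [Ideal.map_span, Set.image_singleton, Ideal.span_singleton_eq_top] at h2
    exact h2
  have hp : ∀ a ∈ p, algebraMap A C a = 0 := fun a ha => by
    have := Ideal.mem_map_of_mem (algebraMap A C) ha
    rwa [h1, Ideal.mem_bot] at this
  letI : Algebra (A ⧸ p) C := (Ideal.Quotient.lift p (algebraMap A C) hp).toAlgebra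
  haveI : IsScalarTower A (A ⧸ p) C := IsScalarTower.of_algebraMap_eq fun a => rfl
  let g : A ⧸ p := Ideal.Quotient.mk p h
  have hg : IsUnit (algebraMap (A ⧸ p) C g) := hu
  letI : Algebra (Localization.Away g) C := (IsLocalization.Away.lift g hg).toAlgebra
  haveI : IsScalarTower (A ⧸ p) (Localization.Away g) C :=
    IsScalarTower.of_algebraMap_eq fun a => by
      rw [RingHom.algebraMap_toAlgebra]
      exact (IsLocalization.Away.lift_eq g hg a).symm
  have hfl : Module.Flat (Localization.Away g) (Localization.Away g ⊗[A ⧸ p] (P' ⊗[P] M)) :=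
    haveI := hfree
    inferInstance
  have h3 : Module.Flat C (C ⊗[Localization.Away g] (Localization.Away g ⊗[A ⧸ p] (P' ⊗[P] M))) :=
    inferInstance
  have h4 : Module.Flat C (C ⊗[A ⧸ p] (P' ⊗[P] M)) :=
    Module.Flat.of_linearEquiv (AlgebraTensorModule.cancelBaseChange (A ⧸ p) (Localization.Away g) C C
      (P' ⊗[P] M)).symm
  let e1 : P' ⊗[P] M ≃ₗ[A ⧸ p] (A ⧸ p) ⊗[A] M :=
    Algebra.IsPushout.cancelBaseChange A (A ⧸ p) P P' M
  let e2 : C ⊗[A ⧸ p] (P' ⊗[P] M) ≃ₗ[C] C ⊗[A ⧸ p] ((A ⧸ p) ⊗[A] M) :=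
    LinearEquiv.baseChange (A ⧸ p) C _ _ e1
  exact Module.Flat.of_linearEquiv (e2 ≪≫ₗ AlgebraTensorModule.cancelBaseChange A (A ⧸ p) C C M).symm

end Step

/-- A family of modules over polynomial rings over `A`. -/
theorem exists_notMem_mul_le {A : Type u} [CommRing A] [IsNoetherianRing A] (J : Ideal A)
    (hJ : J.IsRadical) (hJ' : J ≠ ⊤) : ∃ p : Ideal A, p.IsPrime ∧ J ≤ p ∧
      ∃ h : A, h ∉ p ∧ ∀ x ∈ p, h * x ∈ J := by
  obtain ⟨p, hp⟩ : J.minimalPrimes.Nonempty := Set.nonempty_coe_sort.mp (Ideal.nonempty_minimalPrimes hJ')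
  have hpp : p.IsPrime := hp.1.1
  have hfin : J.minimalPrimes.Finite := J.finite_minimalPrimes_of_isNoetherianRing
  refine ⟨p, hpp, hp.1.2, ?_⟩
  have hinf : sInf J.minimalPrimes = J := by
    rw [Ideal.sInf_minimalPrimes, hJ.radical]
  -- ∏ of the others
  classical
  let s : Finset (Ideal A) := hfin.toFinset.erase p
  have hs : ¬ (s.inf id ≤ p) := by
    rw [Ideal.IsPrime.inf_le' hpp]
    rintro ⟨q, hq, hqp⟩
    have hq' : q ∈ J.minimalPrimes := hfin.mem_toFinset.mp (Finset.mem_of_mem_erase hq)
    have : p ≤ q := hp.2 hq'.1 hqp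
    exact (Finset.ne_of_mem_erase hq) (le_antisymm hqp this)
  obtain ⟨h, hh, hhp⟩ := SetLike.not_le_iff_exists.mp hs
  refine ⟨h, hhp, fun x hx => ?_⟩
  rw [← hinf, Submodule.mem_sInf]
  intro q hq
  by_cases hqp : q = p
  · subst hqp
    exact Ideal.mul_mem_left q _ hx
  · refine Ideal.mul_mem_right _ q ?_
    exact (Finset.inf_le (f := id) (Finset.mem_erase.mpr ⟨hqp, hfin.mem_toFinset.mpr hq⟩) : s.inf id ≤ q) hh

/-- one step of the Noetherian induction -/
theorem exists_step {A : Type u} [CommRing A] [IsNoetherianRing A] (J : Ideal A)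
    (hJ : J.IsRadical) (hJ' : J ≠ ⊤) {ι : Type*} [Finite ι] {n : ι → ℕ}
    {M : ι → Type u} [∀ j, AddCommGroup (M j)] [∀ j, Module A (M j)]
    [∀ j, Module (MvPolynomial (Fin (n j)) A) (M j)]
    [∀ j, IsScalarTower A (MvPolynomial (Fin (n j)) A) (M j)]
    [∀ j, Module.Finite (MvPolynomial (Fin (n j)) A) (M j)] :
    ∃ h : A, h ∉ J ∧ ∀ j, FlatOn A J (Ideal.span {h}) (M j) := by
  obtain ⟨p, hpp, hJp, h₁, h₁p, hx⟩ := exists_notMem_mul_le J hJ hJ'
  choose h₀ h₀p hfl using fun j => exists_flatOn_of_prime p (n := n j) (M := M j)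
  cases nonempty_fintype ι
  refine ⟨h₁ * ∏ j, h₀ j, fun hmem => ?_, fun j => ?_⟩
  · have := hpp.mem_or_mem (hJp hmem)
    rcases this with h | h
    · exact h₁p h
    · rw [hpp.prod_mem_iff] at h
      obtain ⟨j, -, hj⟩ := h
      exact h₀p j hj
  · intro C _ _ hC1 hC2
    have hu : IsUnit (algebraMap A C (h₁ * ∏ j, h₀ j)) := by
      rw [Ideal.map_span, Set.image_singleton, Ideal.span_singleton_eq_top] at hC2
      exact hC2
    rw [map_mul, IsUnit.mul_iff] at hu
    refine hfl j C ?_ ?_
    · rw [Ideal.map_eq_bot_iff_le_ker]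
      intro x hxp
      have h1 : algebraMap A C (h₁ * x) = 0 := by
        have := Ideal.mem_map_of_mem (algebraMap A C) (hx x hxp)
        rwa [hC1, Ideal.mem_bot] at this
      rw [map_mul, hu.1.mul_right_eq_zero] at h1
      exact h1
    · rw [Ideal.map_span, Set.image_singleton, Ideal.span_singleton_eq_top]
      have := hu.2
      rw [map_prod, IsUnit.prod_univ_iff] at this
      exact this j

/-- Noetherian case: chain of ideals. -/
theorem exists_chain_of_isNoetherianRing {A : Type u} [CommRing A] [IsNoetherianRing A]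
    {ι : Type*} [Finite ι] {n : ι → ℕ}
    {M : ι → Type u} [∀ j, AddCommGroup (M j)] [∀ j, Module A (M j)]
    [∀ j, Module (MvPolynomial (Fin (n j)) A) (M j)]
    [∀ j, IsScalarTower A (MvPolynomial (Fin (n j)) A) (M j)]
    [∀ j, Module.Finite (MvPolynomial (Fin (n j)) A) (M j)] (I : Ideal A) :
    ∃ (t : ℕ) (H : Fin (t + 1) → Ideal A), Monotone H ∧ H (Fin.last t) = ⊤ ∧ I ≤ H 0 ∧
      H 0 ≤ I.radical ∧ ∀ (i : Fin t) (j : ι), FlatOn A (H i.castSucc) (H i.succ) (M j) := by
  induction I using WellFoundedGT.induction with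
  | ind I ih =>
    by_cases hI : I.radical = ⊤
    · exact ⟨0, fun _ => ⊤, monotone_const, rfl, le_top, hI.ge, fun i => i.elim0⟩
    · obtain ⟨h, hh, hfl⟩ := exists_step I.radical (Ideal.radical_isRadical I) hI (M := M) (n := n)
      have hlt : I < I.radical ⊔ Ideal.span {h} := by
        refine lt_of_le_of_ne (Ideal.le_radical.trans le_sup_left) fun he => hh ?_
        have : h ∈ I := by
          rw [he]
          exact (le_sup_right : Ideal.span {h} ≤ _) (Ideal.mem_span_singleton_self h)
        exact Ideal.le_radical this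
      obtain ⟨t, H, hmono, hlast, h0, h0', hH⟩ := ih _ hlt
      refine ⟨t + 1, Fin.cons I.radical H, ?_, ?_, ?_, ?_, ?_⟩
      · rw [Fin.monotone_iff_le_succ]
        intro i
        refine Fin.cases ?_ (fun i => ?_) i
        · simp only [Fin.castSucc_zero, Fin.cons_zero, Fin.cons_succ]
          exact le_sup_left.trans h0
        · simp only [Fin.cons_succ, ← Fin.succ_castSucc]
          exact hmono (Fin.castSucc_le_succ i)
      · rw [← Fin.succ_last, Fin.cons_succ]
        exact hlast
      · exact Ideal.le_radical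
      · exact le_rfl
      · intro i j
        refine Fin.cases ?_ (fun i => ?_) i
        · simp only [Fin.castSucc_zero, Fin.cons_zero, Fin.cons_succ]
          refine (hfl j).mono' le_rfl ?_
          rwa [sup_comm]
        · simp only [Fin.cons_succ, ← Fin.succ_castSucc]
          exact hH i j

section Descent

attribute [local instance] MvPolynomial.algebraMvPolynomial

/-- A finitely presented module over a polynomial ring descends to any subring containing
finitely many given elements. -/
theorem exists_finset_descent {A : Type u} [CommRing A] {n : ℕ} {M : Type u} [AddCommGroup M]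
    [Module (MvPolynomial (Fin n) A) M] [Module.FinitePresentation (MvPolynomial (Fin n) A) M] :
    ∃ s : Finset A, ∀ A₀ : Subalgebra ℤ A, (s : Set A) ⊆ A₀ →
      ∃ (M₀ : Type u) (_ : AddCommGroup M₀) (_ : Module (MvPolynomial (Fin n) A₀) M₀),
        Module.Finite (MvPolynomial (Fin n) A₀) M₀ ∧
        Nonempty ((MvPolynomial (Fin n) A) ⊗[MvPolynomial (Fin n) A₀] M₀
          ≃ₗ[MvPolynomial (Fin n) A] M) := by
  classical
  let P := MvPolynomial (Fin n) A
  obtain ⟨a, b, f, g, hf, hfg⟩ := Module.FinitePresentation.exists_fin' P M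
  let W : Fin b → Fin a → P := fun l i => g (Pi.single l 1) i
  refine ⟨Finset.univ.biUnion fun l => Finset.univ.biUnion fun i => (W l i).coeffs, fun A₀ hA₀ => ?_⟩
  let P₀ := MvPolynomial (Fin n) A₀
  have hW : ∀ l i, ∃ w : P₀, algebraMap P₀ P w = W l i := by
    intro l i
    have : W l i ∈ Set.range (MvPolynomial.map (σ := Fin n) (algebraMap A₀ A)) := by
      rw [MvPolynomial.mem_range_map_iff_coeffs_subset]
      refine Set.Subset.trans ?_ (hA₀.trans ?_)
      · intro x hx
        simp only [Finset.coe_biUnion, Set.mem_iUnion]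
        exact ⟨l, by simp, i, by simp, hx⟩
      · intro x hx
        exact ⟨⟨x, hx⟩, rfl⟩
    exact this
  choose w hw using hW
  let g₀ : (Fin b → P₀) →ₗ[P₀] (Fin a → P₀) := Fintype.linearCombination P₀ w
  let M₀ := (Fin a → P₀) ⧸ LinearMap.range g₀
  letI : Module P₀ M := Module.compHom M (algebraMap P₀ P)
  haveI : IsScalarTower P₀ P M := IsScalarTower.of_algebraMap_smul fun r x => rfl
  let h₁ : (Fin b → P₀) →ₗ[P₀] (Fin b → P) := (Algebra.linearMap P₀ P).compLeft (Fin b)
  let h₂ : (Fin a → P₀) →ₗ[P₀] (Fin a → P) := (Algebra.linearMap P₀ P).compLeft (Fin a)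
  have hb₁ : IsBaseChange P h₁ := (IsBaseChange.linearMap P₀ P).finitePow (Fin b)
  have hb₂ : IsBaseChange P h₂ := (IsBaseChange.linearMap P₀ P).finitePow (Fin a)
  have comm₁ : h₂.comp g₀ = (g.restrictScalars P₀).comp h₁ := by
    refine LinearMap.pi_ext' fun l => LinearMap.ext_ring ?_
    simp only [LinearMap.comp_apply, LinearMap.single_apply, LinearMap.restrictScalars_apply]
    have e1 : g₀ (Pi.single l 1) = w l := by simp [g₀, Fintype.linearCombination_apply_single]
    have e2 : h₁ (Pi.single l 1) = Pi.single l 1 := by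
      ext i
      simp only [h₁, LinearMap.compLeft_apply, Function.comp_apply, Algebra.linearMap_apply]
      by_cases hi : i = l
      · subst hi; simp
      · simp [Pi.single_eq_of_ne hi]
    rw [e1, e2]
    ext1 i
    exact hw l i
  let f₀ : (Fin a → P₀) →ₗ[P₀] M₀ := (LinearMap.range g₀).mkQ
  let h₃ : M₀ →ₗ[P₀] M := (LinearMap.range g₀).liftQ ((f.restrictScalars P₀).comp h₂) (by
    rintro _ ⟨x, rfl⟩
    rw [LinearMap.mem_ker, LinearMap.comp_apply]
    have : h₂ (g₀ x) = g (h₁ x) := congr($comm₁ x)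
    rw [this, LinearMap.restrictScalars_apply]
    exact hfg.apply_apply_eq_zero _)
  have comm₂ : h₃.comp f₀ = (f.restrictScalars P₀).comp h₂ := Submodule.liftQ_mkQ _ _ _
  have hb₃ : IsBaseChange P h₃ := IsBaseChange.of_right_exact P h₁ h₂ h₃ comm₁ comm₂ hb₁ hb₂
    (LinearMap.exact_map_mkQ_range g₀) (Submodule.mkQ_surjective _) hfg hf
  exact ⟨M₀, inferInstance, inferInstance, inferInstance, ⟨hb₃.equiv⟩⟩

end Descent

section Main

attribute [local instance] MvPolynomial.algebraMvPolynomial

/-- polynomial version of the main theorem. -/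
theorem exists_flat_chain_mvPolynomial {A : Type u} [CommRing A] {ι : Type*} [Finite ι] {n : ι → ℕ}
    {M : ι → Type u} [∀ j, AddCommGroup (M j)] [∀ j, Module A (M j)]
    [∀ j, Module (MvPolynomial (Fin (n j)) A) (M j)]
    [∀ j, IsScalarTower A (MvPolynomial (Fin (n j)) A) (M j)]
    [∀ j, Module.FinitePresentation (MvPolynomial (Fin (n j)) A) (M j)] :
    ∃ (t : ℕ) (H : Fin (t + 1) → Ideal A), Monotone H ∧ H (Fin.last t) = ⊤ ∧ (∀ i, (H i).FG) ∧
      H 0 ≤ nilradical A ∧ ∀ (i : Fin t) (j : ι), FlatOn A (H i.castSucc) (H i.succ) (M j) := by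
  classical
  cases nonempty_fintype ι
  choose s hs using fun j => exists_finset_descent (A := A) (n := n j) (M := M j)
  let A₀ : Subalgebra ℤ A := Algebra.adjoin ℤ ((Finset.univ.biUnion s : Finset A) : Set A)
  have hfg : Subalgebra.FG A₀ := ⟨_, rfl⟩
  haveI : Algebra.FiniteType ℤ A₀ := A₀.fg_iff_finiteType.mp hfg
  haveI : IsNoetherianRing A₀ := Algebra.FiniteType.isNoetherianRing ℤ A₀
  have hsA : ∀ j, ((s j : Finset A) : Set A) ⊆ (A₀ : Set A) := fun j x hx =>
    Algebra.subset_adjoin (by
      simp only [Finset.coe_biUnion, Set.mem_iUnion]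
      exact ⟨j, by simp, hx⟩)
  choose M₀ i₁ i₂ h₁ e using fun j => hs j A₀ (hsA j)
  letI i₃ : ∀ j, Module A₀ (M₀ j) := fun j =>
    Module.compHom (M₀ j) (algebraMap A₀ (MvPolynomial (Fin (n j)) A₀))
  haveI i₄ : ∀ j, IsScalarTower A₀ (MvPolynomial (Fin (n j)) A₀) (M₀ j) := fun j =>
    IsScalarTower.of_algebraMap_smul fun r x => rfl
  obtain ⟨t, H, hmono, hlast, -, h0, hH⟩ :=
    exists_chain_of_isNoetherianRing (A := A₀) (n := n) (M := M₀) ⊥
  refine ⟨t, fun i => (H i).map (algebraMap A₀ A), fun i j hij => Ideal.map_mono (hmono hij), ?_, ?_,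
    ?_, ?_⟩
  · simp only [hlast, Ideal.map_top]
  · intro i
    exact Ideal.FG.map (IsNoetherian.noetherian (H i)) _
  · rw [Ideal.map_le_iff_le_comap]
    intro x hx
    have := h0 hx
    rw [Ideal.mem_comap, mem_nilradical]
    rw [Ideal.mem_radical_iff] at this
    obtain ⟨k, hk⟩ := this
    refine ⟨k, ?_⟩
    rw [← map_pow, (Submodule.mem_bot _).mp hk, map_zero]
  · intro i j
    refine (hH i j).baseChange.of_equiv (A := A) ?_
    exact (Algebra.IsPushout.cancelBaseChange A₀ A (MvPolynomial (Fin (n j)) A₀)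
      (MvPolynomial (Fin (n j)) A) (M₀ j)).symm ≪≫ₗ (e j).some.restrictScalars A

/-- Generic flatness stratification, affine case: finitely many finitely presented modules over
finitely presented algebras. -/
theorem exists_flat_chain {A : Type u} [CommRing A] {ι : Type*} [Finite ι]
    {B : ι → Type u} [∀ j, CommRing (B j)] [∀ j, Algebra A (B j)]
    [∀ j, Algebra.FinitePresentation A (B j)]
    {M : ι → Type u} [∀ j, AddCommGroup (M j)] [∀ j, Module A (M j)]
    [∀ j, Module (B j) (M j)] [∀ j, IsScalarTower A (B j) (M j)]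
    [∀ j, Module.FinitePresentation (B j) (M j)] :
    ∃ (t : ℕ) (H : Fin (t + 1) → Ideal A), Monotone H ∧ H (Fin.last t) = ⊤ ∧ (∀ i, (H i).FG) ∧
      H 0 ≤ nilradical A ∧ ∀ (i : Fin t) (j : ι), FlatOn A (H i.castSucc) (H i.succ) (M j) := by
  choose n f hf hfk using fun j => (inferInstance : Algebra.FinitePresentation A (B j)).out
  letI i₁ : ∀ j, Algebra (MvPolynomial (Fin (n j)) A) (B j) := fun j => (f j).toRingHom.toAlgebra
  haveI i₂ : ∀ j, IsScalarTower A (MvPolynomial (Fin (n j)) A) (B j) := fun j =>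
    IsScalarTower.of_algebraMap_eq fun r => ((f j).commutes r).symm
  letI i₃ : ∀ j, Module (MvPolynomial (Fin (n j)) A) (M j) := fun j =>
    Module.compHom (M j) (f j).toRingHom
  haveI i₄ : ∀ j, IsScalarTower (MvPolynomial (Fin (n j)) A) (B j) (M j) := fun j =>
    IsScalarTower.of_algebraMap_smul fun r x => rfl
  haveI i₅ : ∀ j, IsScalarTower A (MvPolynomial (Fin (n j)) A) (M j) := fun j =>
    IsScalarTower.of_algebraMap_smul fun r x => by
      rw [← algebraMap_smul (B j), ← IsScalarTower.algebraMap_apply, algebraMap_smul]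
  haveI i₆ : ∀ j, Module.FinitePresentation (MvPolynomial (Fin (n j)) A) (B j) := fun j => by
    refine Module.finitePresentation_of_surjective (Algebra.linearMap _ (B j)) (hf j) ?_
    exact hfk j
  haveI i₇ : ∀ j, Module.FinitePresentation (MvPolynomial (Fin (n j)) A) (M j) := fun j =>
    Module.FinitePresentation.trans _ (M j) (B j)
  exact exists_flat_chain_mvPolynomial (A := A) (n := n) (M := M)

end Main

end Groth.Agent.Flat2G.FlatStratAlg
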