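import Groth.Agent.S0389
import Mathlib.RingTheory.Flat.Equalizer
import Mathlib.RingTheory.Flat.Stability
import Mathlib.RingTheory.Finiteness.Prod
import Mathlib.RingTheory.Flat.TorsionFree
import Mathlib.RingTheory.Flat.Localization
import Mathlib.RingTheory.Ideal.Over
import Mathlib.LinearAlgebra.TensorProduct.Quotient
import Mathlib.Algebra.Module.LocalizedModule.Basic
import Mathlib.RingTheory.Localization.BaseChange
import Mathlib.RingTheory.FiniteStability
import Mathlib.RingTheory.FiniteType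
import Mathlib.RingTheory.Localization.Ideal
import Mathlib.RingTheory.Localization.AtPrime.Basic

set_option autoImplicit false
universe u

namespace Groth.Agent.Flat2G.GenericAss

open TensorProduct

section Flat

variable {R : Type u} [CommRing R] {M : Type u} [AddCommGroup M] [Module R M]

/-- vanishing of `1 ⊗ n` in the localization `R_f ⊗ M`. -/
theorem exists_pow_smul_eq_zero (f : R) (n : M)
    (h : (1 : Localization.Away f) ⊗ₜ[R] n = 0) : ∃ k : ℕ, f ^ k • n = 0 := by
  have hl : IsLocalizedModule (Submonoid.powers f) (TensorProduct.mk R (Localization.Away f) M 1) :=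
    inferInstance
  obtain ⟨⟨_, k, rfl⟩, hk⟩ := (IsLocalizedModule.eq_zero_iff (Submonoid.powers f)
    (TensorProduct.mk R (Localization.Away f) M 1) (m := n)).mp h
  exact ⟨k, hk⟩

/-- Intersection property for a submodule whose quotient is flat after inverting `f`. -/
theorem exists_pow_smul_mem (f : R) (N : Submodule R M)
    [Module.Flat R (Localization.Away f ⊗[R] (M ⧸ N))] (I : Ideal R) (n : M) (hn : n ∈ N)
    (hI : n ∈ I • (⊤ : Submodule R M)) : ∃ k : ℕ, f ^ k • n ∈ I • N := by
  let L := Localization.Away f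
  let g := (N.subtype).lTensor L
  let h := (N.mkQ).lTensor L
  have hL : Module.Flat R L := IsLocalization.flat L (Submonoid.powers f)
  have hg : Function.Injective g := Module.Flat.lTensor_preserves_injective_linearMap _ N.injective_subtype
  have hh : Function.Surjective h := LinearMap.lTensor_surjective L N.mkQ_surjective
  have hex : Function.Exact g h := lTensor_exact L (LinearMap.exact_subtype_mkQ N) N.mkQ_surjective
  have hinj := LinearMap.lTensor_injective_of_exact_of_flat h hh g hg hex (R ⧸ I)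
  -- the class of `n`
  let z : (R ⧸ I) ⊗[R] (L ⊗[R] N) := 1 ⊗ₜ (1 ⊗ₜ (⟨n, hn⟩ : N))
  have hz : g.lTensor (R ⧸ I) z = 0 := by
    have h1 : g.lTensor (R ⧸ I) z = (1 : R ⧸ I) ⊗ₜ[R] ((1 : L) ⊗ₜ[R] n) := rfl
    rw [h1]
    refine Submodule.smul_induction_on (p := fun n => (1 : R ⧸ I) ⊗ₜ[R] ((1 : L) ⊗ₜ[R] n) = 0) hI ?_ ?_
    · intro r hr x _
      rw [TensorProduct.tmul_smul, TensorProduct.tmul_smul, TensorProduct.smul_tmul']
      have : r • (1 : R ⧸ I) = 0 := by
        rw [Algebra.smul_def, mul_one]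
        exact Ideal.Quotient.eq_zero_iff_mem.mpr hr
      rw [this, TensorProduct.zero_tmul]
    · intro x y hx hy
      rw [TensorProduct.tmul_add, TensorProduct.tmul_add, hx, hy, add_zero]
  have hz0 : z = 0 := hinj (by rw [hz, map_zero])
  -- map to `L ⊗ (N ⧸ I N)`
  let Q := (N ⧸ (I • (⊤ : Submodule R N)))
  let π : N →ₗ[R] Q := Submodule.mkQ _
  let ψ : (R ⧸ I) ⊗[R] (L ⊗[R] N) →ₗ[R] (R ⧸ I) ⊗[R] (L ⊗[R] Q) := (π.lTensor L).lTensor (R ⧸ I)
  have h2 : ψ z = (1 : R ⧸ I) ⊗ₜ[R] ((1 : L) ⊗ₜ[R] (π ⟨n, hn⟩)) := rfl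
  rw [hz0, map_zero] at h2
  -- `(R ⧸ I) ⊗ E → E` for `E` killed by `I`
  have hkill : ∀ e : L ⊗[R] Q, ∀ i ∈ I, i • e = 0 := by
    intro e i hi
    induction e with
    | zero => simp
    | add x y hx hy => rw [smul_add, hx, hy, add_zero]
    | tmul l q =>
      rw [← TensorProduct.tmul_smul]
      obtain ⟨q, rfl⟩ := Submodule.mkQ_surjective _ q
      have : i • (Submodule.mkQ (I • (⊤ : Submodule R N)) q) = 0 := by
        rw [← map_smul, Submodule.mkQ_apply, Submodule.Quotient.mk_eq_zero]
        exact Submodule.smul_mem_smul hi trivial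
      rw [this, TensorProduct.tmul_zero]
  have h3 : (1 : L) ⊗ₜ[R] (π ⟨n, hn⟩) ∈ I • (⊤ : Submodule R (L ⊗[R] Q)) := by
    have e := TensorProduct.quotTensorEquivQuotSMul (L ⊗[R] Q) I
    have h4 := congrArg (TensorProduct.quotTensorEquivQuotSMul (L ⊗[R] Q) I) h2
    rw [map_zero] at h4
    have h5 : TensorProduct.quotTensorEquivQuotSMul (L ⊗[R] Q) I ((1 : R ⧸ I) ⊗ₜ[R] ((1 : L) ⊗ₜ[R] (π ⟨n, hn⟩))) =
        Submodule.Quotient.mk ((1 : L) ⊗ₜ[R] (π ⟨n, hn⟩)) := by
      have := TensorProduct.quotTensorEquivQuotSMul_mk_tmul (M := L ⊗[R] Q) I (1 : R) ((1 : L) ⊗ₜ[R] (π ⟨n, hn⟩))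
      rw [one_smul] at this
      exact this
    rw [h5] at h4
    exact (Submodule.Quotient.mk_eq_zero _).mp h4.symm
  have h6 : (1 : L) ⊗ₜ[R] (π ⟨n, hn⟩) = 0 := by
    refine Submodule.smul_induction_on (p := fun e => e = 0) h3 ?_ ?_
    · intro i hi e _
      exact hkill e i hi
    · intro x y hx hy
      rw [hx, hy, add_zero]
  obtain ⟨k, hk⟩ := exists_pow_smul_eq_zero f (π ⟨n, hn⟩) h6
  refine ⟨k, ?_⟩
  rw [← map_smul, Submodule.mkQ_apply, Submodule.Quotient.mk_eq_zero] at hk
  have h7 := Submodule.mem_map_of_mem (f := N.subtype) hk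
  rw [Submodule.map_smul'', Submodule.map_top, Submodule.range_subtype] at h7
  exact h7

theorem exists_pow_smul_eq_zero_of_smul_eq_zero [IsDomain R] (f : R)
    [Module.Flat R (Localization.Away f ⊗[R] M)] (a : R) (ha : a ≠ 0) (n : M) (h : a • n = 0) :
    ∃ k : ℕ, f ^ k • n = 0 := by
  apply exists_pow_smul_eq_zero
  have hreg : IsSMulRegular (Localization.Away f ⊗[R] M) a :=
    Module.Flat.isSMulRegular_of_isRegular (IsRegular.of_ne_zero ha)
  refine hreg ?_
  show a • _ = a • _
  rw [← TensorProduct.tmul_smul, h, TensorProduct.tmul_zero, smul_zero]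

end Flat

section Domain

theorem flat_of_flat_prod {R L : Type u} [CommRing R] [CommRing L] [Algebra R L] (N C : Type u)
    [AddCommGroup N] [Module R N] [AddCommGroup C] [Module R C] [Module.Flat R (L ⊗[R] (N × C))] :
    Module.Flat R (L ⊗[R] N) ∧ Module.Flat R (L ⊗[R] C) := by
  constructor
  · refine Module.Flat.of_retract ((LinearMap.inl R N C).lTensor L) ((LinearMap.fst R N C).lTensor L) ?_
    rw [← LinearMap.lTensor_comp, LinearMap.fst_comp_inl, LinearMap.lTensor_id]
  · refine Module.Flat.of_retract ((LinearMap.inr R N C).lTensor L) ((LinearMap.snd R N C).lTensor L) ?_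
    rw [← LinearMap.lTensor_comp, LinearMap.snd_comp_inr, LinearMap.lTensor_id]

theorem domain_case {R S M : Type u} [CommRing R] [IsDomain R] [CommRing S] [Algebra R S] [Algebra.FiniteType R S]
    [AddCommGroup M] [Module S M] [Module R M] [IsScalarTower R S M] [Module.Finite S M] (m : M) :
    ∃ f : R, f ≠ 0 ∧ (∀ a : R, a ≠ 0 → ∀ b : S, a • b • m = 0 → ∃ k : ℕ, f ^ k • b • m = 0) ∧
      ∀ (I : Ideal R) (b : S), b • m ∈ I • (⊤ : Submodule R M) →
        ∃ k : ℕ, ∃ d ∈ I.map (algebraMap R S), f ^ k • b • m = d • m := by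
  let N : Submodule S M := Submodule.span S {m}
  let N' : Submodule R M := N.restrictScalars R
  have hNfin : Module.Finite S N := Module.Finite.span_singleton S m
  obtain ⟨f, hf, hfree, -⟩ := S0389.result (R := R) (S := S) (M := N × (M ⧸ N))
  have hflat : Module.Flat (Localization.Away f) (Localization.Away f ⊗[R] (N × (M ⧸ N))) := inferInstance
  have hL : Module.Flat R (Localization.Away f) := IsLocalization.flat _ (Submonoid.powers f)
  have hflat' : Module.Flat R (Localization.Away f ⊗[R] (N × (M ⧸ N))) := Module.Flat.trans R (Localization.Away f) _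
  obtain ⟨h1, h2⟩ := flat_of_flat_prod (R := R) (L := Localization.Away f) N (M ⧸ N)
  have h2' : Module.Flat R (Localization.Away f ⊗[R] (M ⧸ N')) :=
    Module.Flat.of_linearEquiv (LinearEquiv.lTensor (Localization.Away f) (Submodule.Quotient.restrictScalarsEquiv R N))
  refine ⟨f, hf, ?_, ?_⟩
  · intro a ha b hb
    obtain ⟨k, hk⟩ := exists_pow_smul_eq_zero_of_smul_eq_zero f a ha
      (⟨b • m, Submodule.smul_mem _ _ (Submodule.mem_span_singleton_self m)⟩ : N) (Subtype.ext hb)
    exact ⟨k, congrArg Subtype.val hk⟩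
  · intro I b hb
    obtain ⟨k, hk⟩ := exists_pow_smul_mem f N' I (b • m)
      (Submodule.smul_mem _ _ (Submodule.mem_span_singleton_self m)) hb
    refine ⟨k, ?_⟩
    refine Submodule.smul_induction_on (p := fun z => ∃ d ∈ I.map (algebraMap R S), z = d • m) hk ?_ ?_
    · intro r hr n hn
      obtain ⟨c, rfl⟩ := Submodule.mem_span_singleton.mp hn
      refine ⟨algebraMap R S r * c, Ideal.mul_mem_right _ _ (Ideal.mem_map_of_mem _ hr), ?_⟩
      rw [mul_smul, algebraMap_smul]
    · rintro x y ⟨d, hd, rfl⟩ ⟨d', hd', rfl⟩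
      exact ⟨d + d', add_mem hd hd', (add_smul _ _ _).symm⟩

end Domain

section FG

attribute [local instance] Algebra.TensorProduct.rightAlgebra in
theorem exists_finset_generic (D E : Type u) [CommRing D] [IsDomain D] [CommRing E] [Algebra D E]
    [Algebra.FiniteType D E] (q : Ideal E) :
    ∃ s : Finset E, (s : Set E) ⊆ q ∧ ∀ b ∈ q, ∃ a : D, a ≠ 0 ∧ algebraMap D E a * b ∈ Ideal.span (s : Set E) := by
  classical
  let K := FractionRing D
  let T := K ⊗[D] E
  have hT : IsNoetherianRing T := Algebra.FiniteType.isNoetherianRing K T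
  have hloc : IsLocalization (Algebra.algebraMapSubmonoid E (nonZeroDivisors D)) T := by
    rw [Algebra.isLocalization_iff_isPushout (nonZeroDivisors D) K]
    infer_instance
  have hfg : (Ideal.span (algebraMap E T '' (q : Set E))).FG := (inferInstance : IsNoetherian T T).noetherian _
  obtain ⟨s', hs', hspan⟩ := (Submodule.fg_span_iff_fg_span_finset_subset _).mp hfg
  obtain ⟨s, hs, rfl⟩ := Finset.subset_set_image_iff.mp hs'
  refine ⟨s, hs, fun b hb => ?_⟩
  have h1 : algebraMap E T b ∈ Ideal.map (algebraMap E T) (Ideal.span (s : Set E)) := by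
    have : algebraMap E T b ∈ Ideal.span (algebraMap E T '' (q : Set E)) :=
      Ideal.subset_span ⟨b, hb, rfl⟩
    rw [Ideal.map_span]
    rw [Ideal.span, hspan] at this
    simpa using this
  rw [IsLocalization.mem_map_algebraMap_iff (Algebra.algebraMapSubmonoid E (nonZeroDivisors D))] at h1
  obtain ⟨⟨⟨i, hi⟩, ⟨_, a, ha, rfl⟩⟩, h2⟩ := h1
  simp only at h2
  rw [← map_mul] at h2
  obtain ⟨⟨_, c, hc, rfl⟩, h3⟩ := (IsLocalization.eq_iff_exists (Algebra.algebraMapSubmonoid E (nonZeroDivisors D)) T).mp h2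
  refine ⟨c * a, mul_ne_zero (nonZeroDivisors.ne_zero hc) (nonZeroDivisors.ne_zero ha), ?_⟩
  simp only at h3
  have : algebraMap D E (c * a) * b = algebraMap D E c * i := by
    rw [← h3, map_mul]
    ring
  rw [this]
  exact Ideal.mul_mem_left _ _ hi

end FG

section General

variable {A B M : Type u} [CommRing A] [CommRing B] [Algebra A B] [Algebra.FiniteType A B]
    [AddCommGroup M] [Module B M] [Module.Finite B M]

theorem generic_case (p : Ideal A) [p.IsPrime] (m : M) :
    ∃ f ∉ p, (∀ a ∉ p, ∀ b : B,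
        (algebraMap A B a * b) • m ∈ (p.map (algebraMap A B)) • (⊤ : Submodule B M) →
        ∃ k : ℕ, (algebraMap A B f ^ k * b) • m ∈ (p.map (algebraMap A B)) • (⊤ : Submodule B M)) ∧
      ∀ (I : Ideal A), p ≤ I → ∀ b : B, b • m ∈ (I.map (algebraMap A B)) • (⊤ : Submodule B M) →
        ∃ k : ℕ, ∃ d ∈ I.map (algebraMap A B),
          (algebraMap A B f ^ k * b - d) • m ∈ (p.map (algebraMap A B)) • (⊤ : Submodule B M) := by
  let J := p.map (algebraMap A B)
  let Mb := M ⧸ (J • (⊤ : Submodule B M))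
  let _ : Module (A ⧸ p) Mb := Module.compHom Mb (algebraMap (A ⧸ p) (B ⧸ J))
  have _ : IsScalarTower (A ⧸ p) (B ⧸ J) Mb := IsScalarTower.of_algebraMap_smul (fun r x => rfl)
  have _ : IsScalarTower B (B ⧸ J) Mb := IsScalarTower.of_algebraMap_smul (fun r x => by
    obtain ⟨x, rfl⟩ := Submodule.Quotient.mk_surjective _ x
    rfl)
  have _ : Module.Finite (B ⧸ J) Mb := Module.Finite.of_restrictScalars_finite B (B ⧸ J) Mb
  have _ : Algebra.FiniteType (A ⧸ p) (B ⧸ J) :=
    Algebra.FiniteType.of_restrictScalars_finiteType A (A ⧸ p) (B ⧸ J)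
  obtain ⟨fb, hfb, h1, h2⟩ := domain_case (R := A ⧸ p) (S := B ⧸ J) (M := Mb) (Submodule.Quotient.mk m)
  obtain ⟨f, rfl⟩ := Ideal.Quotient.mk_surjective fb
  have hsmul : ∀ (a : A) (b : B) (x : M), (Ideal.Quotient.mk p a) • (Ideal.Quotient.mk J b) •
      (Submodule.Quotient.mk x : Mb) = Submodule.Quotient.mk ((algebraMap A B a * b) • x) := by
    intro a b x
    rw [mul_smul]
    rfl
  refine ⟨f, fun hf => hfb (Ideal.Quotient.eq_zero_iff_mem.mpr hf), ?_, ?_⟩
  · intro a ha b hb
    obtain ⟨k, hk⟩ := h1 (Ideal.Quotient.mk p a) (fun h => ha (Ideal.Quotient.eq_zero_iff_mem.mp h))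
      (Ideal.Quotient.mk J b) (by
        rw [hsmul]
        exact (Submodule.Quotient.mk_eq_zero _).mpr hb)
    refine ⟨k, ?_⟩
    rw [← map_pow, hsmul, Submodule.Quotient.mk_eq_zero, map_pow] at hk
    exact hk
  · intro I hI b hb
    have hb' : (Ideal.Quotient.mk J b) • (Submodule.Quotient.mk m : Mb) ∈
        (I.map (Ideal.Quotient.mk p)) • (⊤ : Submodule (A ⧸ p) Mb) := by
      have : ∀ z : M, z ∈ (I.map (algebraMap A B)) • (⊤ : Submodule B M) →
          (Submodule.Quotient.mk z : Mb) ∈ (I.map (Ideal.Quotient.mk p)) • (⊤ : Submodule (A ⧸ p) Mb) := by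
        intro z hz
        refine Submodule.smul_induction_on hz ?_ ?_
        · intro r hr n _
          refine Submodule.span_induction (p := fun r _ => ∀ n : M, (Submodule.Quotient.mk (r • n) : Mb) ∈
            (I.map (Ideal.Quotient.mk p)) • (⊤ : Submodule (A ⧸ p) Mb)) ?_ ?_ ?_ ?_ hr n
          · rintro _ ⟨i, hi, rfl⟩ n
            have : (Submodule.Quotient.mk (algebraMap A B i • n) : Mb) =
              (Ideal.Quotient.mk p i) • (Submodule.Quotient.mk n : Mb) := rfl
            rw [this]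
            exact Submodule.smul_mem_smul (Ideal.mem_map_of_mem _ hi) trivial
          · intro n
            rw [zero_smul]
            exact zero_mem _
          · intro x y _ _ hx hy n
            rw [add_smul]
            exact add_mem (hx n) (hy n)
          · intro c x _ hx n
            rw [smul_eq_mul, mul_comm, mul_smul]
            exact hx _
        · intro x y hx hy
          exact add_mem hx hy
      exact this _ hb
    obtain ⟨k, d, hd, hk⟩ := h2 (I.map (Ideal.Quotient.mk p)) (Ideal.Quotient.mk J b) hb'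
    have hd' : d ∈ (I.map (algebraMap A B)).map (Ideal.Quotient.mk J) := by
      rw [Ideal.map_map] at hd ⊢
      exact hd
    obtain ⟨d, hd2, rfl⟩ := (Ideal.mem_map_iff_of_surjective _ Ideal.Quotient.mk_surjective).mp hd'
    refine ⟨k, d, hd2, ?_⟩
    rw [← map_pow, hsmul] at hk
    have : (Submodule.Quotient.mk ((algebraMap A B f ^ k * b - d) • m) : Mb) = 0 := by
      rw [sub_smul]
      have e : (Submodule.Quotient.mk ((algebraMap A B f ^ k * b) • m - d • m) : Mb) =
        Submodule.Quotient.mk ((algebraMap A B f ^ k * b) • m) - Submodule.Quotient.mk (d • m) := rfl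
      rw [e, ← map_pow, hk, sub_eq_zero]
      rfl
    exact (Submodule.Quotient.mk_eq_zero _).mp this

/-- elementwise form of: the maximal ideal of `B_q` is an associated prime of `M_q / I M_q`. -/
def RA (I q : Ideal B) (M : Type u) [AddCommGroup M] [Module B M] : Prop :=
  ∃ m : M, (∀ b ∈ q, ∃ n : ℕ, ∃ s ∉ q, (s * b ^ n) • m ∈ I • (⊤ : Submodule B M)) ∧
    ∀ s ∉ q, s • m ∉ I • (⊤ : Submodule B M)

/-- generic finite generation of an ideal modulo the generic fibre. -/
theorem exists_finset_generic' (p : Ideal A) [p.IsPrime] (q : Ideal B) :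
    ∃ s : Finset B, (s : Set B) ⊆ q ∧ ∀ b ∈ q, ∃ a ∉ p,
      algebraMap A B a * b ∈ Ideal.span (s : Set B) ⊔ p.map (algebraMap A B) := by
  classical
  let J := p.map (algebraMap A B)
  have _ : Algebra.FiniteType (A ⧸ p) (B ⧸ J) :=
    Algebra.FiniteType.of_restrictScalars_finiteType A (A ⧸ p) (B ⧸ J)
  obtain ⟨s', hs', h⟩ := exists_finset_generic (A ⧸ p) (B ⧸ J) (q.map (Ideal.Quotient.mk J))
  have hs'' : (s' : Set (B ⧸ J)) ⊆ Ideal.Quotient.mk J '' (q : Set B) := by
    intro x hx
    obtain ⟨y, hy, rfl⟩ := (Ideal.mem_map_iff_of_surjective _ Ideal.Quotient.mk_surjective).mp (hs' hx)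
    exact ⟨y, hy, rfl⟩
  obtain ⟨s, hs, rfl⟩ := Finset.subset_set_image_iff.mp hs''
  refine ⟨s, hs, fun b hb => ?_⟩
  obtain ⟨a, ha, hab⟩ := h (Ideal.Quotient.mk J b) (Ideal.mem_map_of_mem _ hb)
  obtain ⟨a, rfl⟩ := Ideal.Quotient.mk_surjective a
  refine ⟨a, fun h => ha (Ideal.Quotient.eq_zero_iff_mem.mpr h), ?_⟩
  have h1 : Ideal.Quotient.mk J (algebraMap A B a * b) ∈ (Ideal.span (s : Set B)).map (Ideal.Quotient.mk J) := by
    rw [Ideal.map_span, map_mul]
    rw [Finset.coe_image] at hab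
    exact hab
  have h2 := Ideal.mem_comap.mpr h1
  rw [Ideal.comap_map_of_surjective _ Ideal.Quotient.mk_surjective, ← RingHom.ker_eq_comap_bot, Ideal.mk_ker] at h2
  exact h2

theorem exists_generic_RA (q : Ideal B) [q.IsPrime]
    (h : RA ((q.under A).map (algebraMap A B)) q M) :
    ∃ g ∉ q, ∀ x : Ideal B, x.IsPrime → q ≤ x → g ∉ x →
      (∀ x' : Ideal B, x'.IsPrime → q ≤ x' → x' ≤ x → x'.under A = x.under A → x' = x) →
      RA ((x.under A).map (algebraMap A B)) x M := by
  classical
  obtain ⟨m0, hm1, hm2⟩ := h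
  set p := q.under A with hp
  have hpq : p.map (algebraMap A B) ≤ q := Ideal.map_comap_le
  -- finitely many generators
  obtain ⟨s, hs, hsq⟩ := exists_finset_generic' p q
  have hchoose : ∀ b ∈ s, ∃ n : ℕ, ∃ t ∉ q, (t * b ^ n) • m0 ∈ (p.map (algebraMap A B)) • (⊤ : Submodule B M) :=
    fun b hb => hm1 b (hs hb)
  choose! n t ht hnt using hchoose
  let T : B := ∏ b ∈ s, t b
  have hT : T ∉ q := fun h => by
    obtain ⟨b, hb, hb'⟩ := (Ideal.IsPrime.prod_mem_iff (p := q)).mp h
    exact ht b hb hb'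
  let m : M := T • m0
  -- all the generators are nilpotent on `m`
  let N : ℕ := s.sup n
  have hm3 : ∀ b ∈ s, b ^ N • m ∈ (p.map (algebraMap A B)) • (⊤ : Submodule B M) := by
    intro b hb
    obtain ⟨c, hc⟩ := Finset.dvd_prod_of_mem t hb
    obtain ⟨e, he⟩ := pow_dvd_pow b (Finset.le_sup (f := n) hb)
    have : b ^ N • m = (e * c) • ((t b * b ^ n b) • m0) := by
      show b ^ N • (T • m0) = _
      rw [smul_smul, smul_smul, show T = t b * c from hc, show b ^ N = b ^ n b * e from he]
      congr 1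
      ring
    rw [this]
    exact Submodule.smul_mem _ _ (hnt b hb)
  have hm4 : ∀ u ∉ q, u • m ∉ (p.map (algebraMap A B)) • (⊤ : Submodule B M) := by
    intro u hu h
    rw [smul_smul] at h
    exact hm2 (u * T) (fun h' => ((‹q.IsPrime›).mem_or_mem h').elim hu hT) h
  -- the annihilator of `m` modulo `p M`
  let Ann : Ideal B := ((p.map (algebraMap A B)) • (⊤ : Submodule B M)).comap (LinearMap.toSpanSingleton B M m)
  have hAnn : ∀ b, b ∈ Ann ↔ b • m ∈ (p.map (algebraMap A B)) • (⊤ : Submodule B M) := fun b => Iff.rfl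
  have hAnnq : Ann ≤ q := by
    intro b hb
    by_contra hbq
    exact hm4 b hbq hb
  have hpAnn : p.map (algebraMap A B) ≤ Ann := by
    intro b hb
    exact Submodule.smul_mem_smul hb trivial
  have hspan : Ideal.span (s : Set B) ⊔ p.map (algebraMap A B) ≤ Ann.radical := by
    refine sup_le (Ideal.span_le.mpr fun b hb => ⟨N, ?_⟩) (hpAnn.trans Ideal.le_radical)
    exact hm3 b hb
  obtain ⟨f, hf, hf1, hf2⟩ := generic_case (B := B) (M := M) p m
  refine ⟨algebraMap A B f, fun h => hf h, ?_⟩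
  intro x hx hqx hfx hmin
  have hpx : p ≤ x.under A := Ideal.comap_mono hqx
  have hpx' : (x.under A).map (algebraMap A B) ≤ x := Ideal.map_comap_le
  refine ⟨m, ?_, ?_⟩
  · intro b hb
    -- `b` is nilpotent modulo `q + p' B` after localization at `x`
    have hrad : ∃ u ∉ x, ∃ k : ℕ, u * b ^ k ∈ q ⊔ (x.under A).map (algebraMap A B) := by
      by_contra hcon
      push Not at hcon
      -- there is a prime disjoint from the multiplicative set
      let S : Submonoid B :=
        { carrier := {z | ∃ u ∉ x, ∃ k : ℕ, z = u * b ^ k}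
          one_mem' := ⟨1, fun h => hx.ne_top ((Ideal.eq_top_iff_one x).mpr h), 0, by simp⟩
          mul_mem' := by
            rintro _ _ ⟨u, hu, k, rfl⟩ ⟨v, hv, l, rfl⟩
            refine ⟨u * v, fun h => (hx.mem_or_mem h).elim hu hv, k + l, ?_⟩
            ring }
      have hdis : Disjoint ((q ⊔ (x.under A).map (algebraMap A B) : Ideal B) : Set B) (S : Set B) := by
        rw [Set.disjoint_left]
        rintro z hz ⟨u, hu, k, rfl⟩
        exact hcon u hu k hz
      obtain ⟨x', hx', hle, hdis'⟩ := Ideal.exists_le_prime_disjoint _ S hdis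
      have hx'x : x' ≤ x := by
        intro z hz
        by_contra hzx
        exact Set.disjoint_left.mp hdis' hz ⟨z, hzx, 0, by simp⟩
      have hund : x'.under A = x.under A := by
        refine le_antisymm (Ideal.comap_mono hx'x) ?_
        intro a ha
        exact hle (Ideal.mem_sup_right (Ideal.mem_map_of_mem _ ha))
      have := hmin x' hx' (le_sup_left.trans hle) hx'x hund
      rw [← this] at hb
      exact Set.disjoint_left.mp hdis' hb ⟨1, fun h => hx.ne_top ((Ideal.eq_top_iff_one x).mpr h), 1, by simp⟩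
    obtain ⟨u, hu, k, huk⟩ := hrad
    -- elements of `q` are nilpotent on `m` modulo `p' M`, after localization
    have hq : ∀ c ∈ q, ∃ v ∉ x, ∃ l : ℕ, v * c ^ l ∈ Ann := by
      intro c hc
      obtain ⟨a, ha, hac⟩ := hsq c hc
      obtain ⟨l, hl⟩ := hspan hac
      rw [mul_pow, ← map_pow] at hl
      obtain ⟨j, hj⟩ := hf1 (a ^ l) (fun h => ha ((inferInstance : p.IsPrime).mem_of_pow_mem _ h)) (c ^ l)
        ((hAnn _).mp hl)
      exact ⟨algebraMap A B f ^ j, fun h => hfx (hx.mem_of_pow_mem _ h), l, hj⟩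
    obtain ⟨c, hc, d, hd, hcd⟩ := Submodule.mem_sup.mp huk
    obtain ⟨v, hv, l, hvl⟩ := hq c hc
    refine ⟨k * l, v * u ^ l, fun h => (hx.mem_or_mem h).elim hv fun h => hu (hx.mem_of_pow_mem _ h), ?_⟩
    -- `v * u ^ l * b ^ (k * l) = v * (c + d) ^ l ∈ v * c ^ l + p' B`
    have h1 : v * u ^ l * b ^ (k * l) = v * (c + d) ^ l := by
      rw [show c + d = u * b ^ k from hcd, mul_pow, pow_mul, mul_assoc]
    have h2 : (c + d) ^ l - c ^ l ∈ (x.under A).map (algebraMap A B) := by
      have := sub_dvd_pow_sub_pow (c + d) c l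
      rw [add_sub_cancel_left] at this
      exact Ideal.mem_of_dvd _ this hd
    have h3 : v * u ^ l * b ^ (k * l) = v * c ^ l + v * ((c + d) ^ l - c ^ l) := by
      rw [h1]; ring
    rw [h3, add_smul]
    refine add_mem ?_ ?_
    · exact Submodule.smul_mono_left (Ideal.map_mono hpx) ((hAnn _).mp hvl)
    · exact Submodule.smul_mem_smul (Ideal.mul_mem_left _ _ h2) trivial
  · intro u hu h
    obtain ⟨k, d, hd, hk⟩ := hf2 (x.under A) hpx u h
    have h1 : algebraMap A B f ^ k * u - d ∈ x := hqx (hAnnq ((hAnn _).mpr hk))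
    have h2 : algebraMap A B f ^ k * u ∈ x := by
      have := add_mem h1 (hpx' hd)
      rwa [sub_add_cancel] at this
    exact (hx.mem_or_mem h2).elim (fun h => hfx (hx.mem_of_pow_mem _ h)) hu

end General

end Groth.Agent.Flat2G.GenericAss
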