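import Groth.Prelude.Def_EGA4b
import Groth.Agent.Desc.NormalSmooth
import Mathlib.RingTheory.Smooth.Flat

/-!
# Smooth ring maps are normal (`EGA4.IsNormalHom`)
-/

set_option autoImplicit false
universe u

namespace Groth.Agent.Flat2G.SmoothNormal

open Desc.NormalSmooth

theorem isNormalRing_iff (R : Type u) [CommRing R] :
    EGA4.IsNormalRing R ↔ ∀ (p : Ideal R) [p.IsPrime], NormalAt R p := Iff.rfl

theorem isNormalRing_of_isIntegrallyClosed (R : Type u) [CommRing R] [IsDomain R] [IsIntegrallyClosed R] :
    EGA4.IsNormalRing R := fun p _ =>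
  ⟨inferInstance, isIntegrallyClosed_of_isLocalization _ p.primeCompl p.primeCompl_le_nonZeroDivisors⟩

/-- Smooth over a normal ring is normal. -/
theorem isNormalRing_of_smooth {R S : Type u} [CommRing R] [CommRing S] [Algebra R S]
    [Algebra.Smooth R S] (h : EGA4.IsNormalRing R) : EGA4.IsNormalRing S := fun q _ =>
  normalAt_of_isSmoothAt (A := R) q (h _)

theorem isGeomNormal_of_smooth (k : Type u) [Field k] (S : Type u) [CommRing S] [Algebra k S]
    [Algebra.Smooth k S] : EGA4.IsGeomNormal k S := by
  intro k' _ _ _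
  exact isNormalRing_of_smooth (R := k') (isNormalRing_of_isIntegrallyClosed k')

theorem isNormalHom_of_smooth (R : Type u) [CommRing R] (S : Type u) [CommRing S] [Algebra R S]
    [Algebra.Smooth R S] : EGA4.IsNormalHom R S :=
  ⟨inferInstance, fun p _ => isGeomNormal_of_smooth _ _⟩

end Groth.Agent.Flat2G.SmoothNormal
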