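import Mathlib.AlgebraicGeometry.Morphisms.Finite
import Mathlib.AlgebraicGeometry.Morphisms.Flat
import Mathlib.AlgebraicGeometry.Morphisms.FinitePresentation
import Mathlib.AlgebraicGeometry.Morphisms.UniversallyInjective
import Mathlib.RingTheory.AdjoinRoot
import Mathlib.FieldTheory.PurelyInseparable.Basic
import Mathlib.FieldTheory.IntermediateField.Adjoin.Algebra

/-!
# Spreading out a finite purely inseparable field extension

Let `K` be a field which is a localization of the ring `A` at a submonoid `M`, of exponential characteristic `q`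
with `q = 1` or `q = 0` in `A`. A finite purely inseparable extension `L / K` is the localization at `M` of an
`A`-algebra `A'` such that `Spec A' ⟶ Spec A` is finite locally free, surjective and universally injective.
-/

set_option autoImplicit false
universe u

open AlgebraicGeometry CategoryTheory Limits Polynomial

namespace Groth.Agent.Flat2G.PITower

/-- Finite, flat, finitely presented, surjective and universally injective. -/
structure Good {X Y : Scheme.{u}} (f : X ⟶ Y) : Prop where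
  finite : IsFinite f
  flat : Flat f
  lfp : LocallyOfFinitePresentation f
  surj : Surjective f
  inj : UniversallyInjective f

lemma Good.comp {X Y Z : Scheme.{u}} {f : X ⟶ Y} {g : Y ⟶ Z} (hf : Good f) (hg : Good g) :
    Good (f ≫ g) := by
  have := hf.finite
  have := hf.flat
  have := hf.lfp
  have := hf.surj
  have := hf.inj
  have := hg.finite
  have := hg.flat
  have := hg.lfp
  have := hg.surj
  have := hg.inj
  exact ⟨inferInstance, inferInstance, inferInstance, inferInstance,
    MorphismProperty.comp_mem (W := @UniversallyInjective) _ _ hf.inj hg.inj⟩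

lemma Good.of_isPullback {X Y X' Y' : Scheme.{u}} {f : X ⟶ Y} {f' : X' ⟶ Y'} {g' : X' ⟶ X} {g : Y' ⟶ Y}
    (H : IsPullback g' f' f g) (hf : Good f) : Good f' :=
  ⟨MorphismProperty.of_isPullback (P := @IsFinite) H hf.finite,
    MorphismProperty.of_isPullback (P := @Flat) H hf.flat,
    MorphismProperty.of_isPullback (P := @LocallyOfFinitePresentation) H hf.lfp,
    MorphismProperty.of_isPullback (P := @Surjective) H hf.surj,
    MorphismProperty.of_isPullback (P := @UniversallyInjective) H hf.inj⟩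

lemma Good.id (X : Scheme.{u}) : Good (𝟙 X) :=
  ⟨inferInstance, inferInstance, inferInstance, inferInstance, inferInstance⟩

/-- Adjoining a `q ^ n`-th root is good when `q = 1` or `q` is a prime which is zero in the ring. -/
lemma good_adjoinRoot {A : Type u} [CommRing A] (q n : ℕ) (hq : q = 1 ∨ (q.Prime ∧ (q : A) = 0)) (a : A) :
    Good (Spec.map (CommRingCat.ofHom (AdjoinRoot.of (X ^ q ^ n - C a : A[X])))) := by
  have hqn : q ^ n ≠ 0 := by
    rcases hq with rfl | ⟨h, -⟩
    · simp
    · exact pow_ne_zero _ h.ne_zero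
  have hmon : (X ^ q ^ n - C a : A[X]).Monic := monic_X_pow_sub_C a hqn
  have := hmon.free_adjoinRoot
  have := hmon.finite_adjoinRoot
  have halg : AdjoinRoot.of (X ^ q ^ n - C a : A[X]) = algebraMap A (AdjoinRoot (X ^ q ^ n - C a : A[X])) := rfl
  refine ⟨?_, ?_, ?_, ?_, ?_⟩
  · rw [IsFinite.SpecMap_iff, CommRingCat.hom_ofHom, halg, RingHom.finite_algebraMap]
    infer_instance
  · rw [Flat.SpecMap_iff, CommRingCat.hom_ofHom, halg, RingHom.flat_algebraMap_iff]
    infer_instance
  · rw [LocallyOfFinitePresentation.SpecMap_iff, CommRingCat.hom_ofHom, halg,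
      RingHom.finitePresentation_algebraMap]
    infer_instance
  · rcases subsingleton_or_nontrivial A with hA | hA
    · have : IsEmpty (Spec (CommRingCat.of A)) := inferInstanceAs (IsEmpty (PrimeSpectrum A))
      exact ⟨fun x ↦ isEmptyElim x⟩
    have : Nontrivial (AdjoinRoot (X ^ q ^ n - C a : A[X])) := by
      rw [← not_subsingleton_iff_nontrivial]
      intro h
      have h1 : (X ^ q ^ n - C a : A[X]) ∣ 1 := by
        rw [← AdjoinRoot.mk_eq_zero]
        exact Subsingleton.elim _ _
      have h2 := hmon.eq_one_of_isUnit (isUnit_of_dvd_one h1)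
      have h3 := congr_arg natDegree h2
      rw [natDegree_X_pow_sub_C, natDegree_one] at h3
      exact hqn h3
    have hff : Module.FaithfullyFlat A (AdjoinRoot (X ^ q ^ n - C a : A[X])) := inferInstance
    have h := (flat_and_surjective_SpecMap_iff
      (CommRingCat.ofHom (AdjoinRoot.of (X ^ q ^ n - C a : A[X])))).mpr (by
        rw [CommRingCat.hom_ofHom, halg, RingHom.faithfullyFlat_algebraMap_iff]
        exact hff)
    exact h.2
  · refine ((tfae_universallyInjective (Spec.map (CommRingCat.ofHom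
      (AdjoinRoot.of (X ^ q ^ n - C a : A[X]))))).out 0 1).mpr ?_
    intro F _ g₁ g₂ h
    obtain ⟨φ₁, rfl⟩ := Spec.map_surjective g₁
    obtain ⟨φ₂, rfl⟩ := Spec.map_surjective g₂
    simp only [← Spec.map_comp] at h
    have h' := Spec.map_injective h
    congr 1
    ext1
    have hof : φ₁.hom.comp (AdjoinRoot.of (X ^ q ^ n - C a : A[X])) =
        φ₂.hom.comp (AdjoinRoot.of (X ^ q ^ n - C a : A[X])) := congr(($h').hom)
    refine AdjoinRoot.ringHom_ext hof ?_
    have hroot : ∀ φ : AdjoinRoot (X ^ q ^ n - C a : A[X]) →+* F,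
        φ (AdjoinRoot.root _) ^ q ^ n = φ (AdjoinRoot.of _ a) := by
      intro φ
      have h2 := AdjoinRoot.eval₂_root (X ^ q ^ n - C a : A[X])
      simp only [eval₂_sub, eval₂_X_pow, eval₂_C] at h2
      rw [← map_pow, sub_eq_zero.mp h2]
    have h3 : φ₁.hom (AdjoinRoot.root _) ^ q ^ n = φ₂.hom (AdjoinRoot.root _) ^ q ^ n := by
      rw [hroot φ₁.hom, hroot φ₂.hom]
      exact congr($hof a)
    rcases hq with rfl | ⟨hp, hq0⟩
    · simpa using h3
    · have : Fact q.Prime := ⟨hp⟩
      have : CharP F q := by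
        refine (CharP.charP_iff_prime_eq_zero hp).mpr ?_
        have := congr_arg (φ₁.hom.comp (AdjoinRoot.of (X ^ q ^ n - C a : A[X]))) hq0
        simpa using this
      have h4 : (φ₁.hom (AdjoinRoot.root _) - φ₂.hom (AdjoinRoot.root _)) ^ q ^ n = 0 := by
        rw [sub_pow_char_pow, h3, sub_self]
      exact sub_eq_zero.mp (pow_eq_zero_iff hqn |>.mp h4)

section Tower

variable {A : Type u} [CommRing A] (M : Submonoid A) {L : Type u} [Field L]

/-- `ψ : A' → L` exhibits its "fraction subfield" `E` as the localization at `M` of the good `A`-algebra `A'`. -/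
structure Level (φ : A →+* L) (E : Set L) (A' : Type u) [CommRing A'] (α : A →+* A') (ψ : A' →+* L) : Prop where
  comp : ψ.comp α = φ
  good : Good (Spec.map (CommRingCat.ofHom α))
  mem : ∀ a, ψ a ∈ E
  surj : ∀ z ∈ E, ∃ a : A', ∃ m ∈ M, z * φ m = ψ a
  ker : ∀ a, ψ a = 0 → ∃ m ∈ M, α m * a = 0

variable {K : Type u} [Field K] [Algebra K L]

open IntermediateField in
/-- One step of the tower. -/
lemma Level.step {M} {φ : A →+* L} (hM : ∀ m ∈ M, φ m ≠ 0) (q : ℕ) [ExpChar K q]
    (hq : q = 1 ∨ (q.Prime ∧ (q : A) = 0)) [IsPurelyInseparable K L] (E : IntermediateField K L)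
    {A' : Type u} [CommRing A'] {α : A →+* A'} {ψ : A' →+* L} (h : Level M φ (E : Set L) A' α ψ) (x : L) :
    ∃ (A'' : Type u) (_ : CommRing A'') (α' : A →+* A'') (ψ' : A'' →+* L),
      Level M φ ((E⟮x⟯.restrictScalars K : IntermediateField K L) : Set L) A'' α' ψ' := by
  have : ExpChar E q := expChar_of_injective_algebraMap (algebraMap K E).injective q
  have : IsPurelyInseparable E L := IsPurelyInseparable.tower_top K E L
  obtain ⟨n, y₀, hmin⟩ := IsPurelyInseparable.minpoly_eq_X_pow_sub_C E q x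
  have hq' : q = 1 ∨ (q.Prime ∧ (q : A') = 0) := by
    rcases hq with rfl | ⟨hp, h0⟩
    · exact Or.inl rfl
    · exact Or.inr ⟨hp, by rw [← map_natCast α, h0, map_zero]⟩
  have hqn : q ^ n ≠ 0 := by
    rcases hq with rfl | ⟨h, -⟩
    · simp
    · exact pow_ne_zero _ h.ne_zero
  have hx : x ^ q ^ n = y₀ := by
    have := minpoly.aeval E x
    rw [hmin] at this
    simpa [sub_eq_zero] using this
  obtain ⟨a₀, m, hm, hma⟩ := h.surj y₀ y₀.2
  set s := φ m with hs
  have hs0 : s ≠ 0 := hM m hm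
  obtain ⟨k, hk⟩ := Nat.exists_eq_succ_of_ne_zero hqn
  let a₁ : A' := a₀ * α m ^ k
  have hαm : ψ (α m) = s := congr($(h.comp) m)
  have hsE : s ∈ E := hαm ▸ h.mem _
  let y := x * s
  have hy : y ^ q ^ n = ψ a₁ := by
    change (x * s) ^ q ^ n = ψ (a₀ * α m ^ k)
    rw [mul_pow, hx, hk, pow_succ' s, ← mul_assoc, hma, map_mul, map_pow, hαm]
  let f : A'[X] := X ^ q ^ n - C a₁
  have hmon : f.Monic := monic_X_pow_sub_C a₁ hqn
  have hev : f.eval₂ ψ y = 0 := by
    simp [f, hy]
  let ψ' : AdjoinRoot f →+* L := AdjoinRoot.lift ψ y hev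
  have hψof (a : A') : ψ' (AdjoinRoot.of f a) = ψ a := AdjoinRoot.lift_of _
  have hψroot : ψ' (AdjoinRoot.root f) = y := AdjoinRoot.lift_root _
  have hEx : ∀ z ∈ E, z ∈ E⟮x⟯ := fun z hz ↦ (E⟮x⟯).algebraMap_mem ⟨z, hz⟩
  have hxx : x ∈ E⟮x⟯ := mem_adjoin_simple_self E x
  refine ⟨AdjoinRoot f, inferInstance, (AdjoinRoot.of f).comp α, ψ', ⟨?_, ?_, ?_, ?_, ?_⟩⟩
  · ext a
    simp only [RingHom.comp_apply, hψof]
    exact congr($(h.comp) a)
  · have := Good.comp (good_adjoinRoot q n hq' a₁) h.good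
    rwa [← Spec.map_comp] at this
  · intro w
    obtain ⟨g, rfl⟩ := AdjoinRoot.mk_surjective w
    change ψ' (AdjoinRoot.mk f g) ∈ E⟮x⟯
    rw [AdjoinRoot.lift_mk, eval₂_eq_sum_range]
    refine sum_mem fun i _ ↦ mul_mem (hEx _ (h.mem _)) (pow_mem (mul_mem hxx (hEx _ hsE)) _)
  · intro z hz
    have hz' : z ∈ Algebra.adjoin E {x} := by
      rw [← adjoin_simple_toSubalgebra_of_isAlgebraic (IsPurelyInseparable.isIntegral' E x).isAlgebraic]
      exact hz
    have hψα (m' : A) : ψ' ((AdjoinRoot.of f).comp α m') = φ m' := by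
      rw [RingHom.comp_apply, hψof]
      exact congr($(h.comp) m')
    clear hz
    induction hz' using Algebra.adjoin_induction with
    | mem z hz =>
      obtain rfl : z = x := hz
      exact ⟨AdjoinRoot.root f, m, hm, hψroot.symm⟩
    | algebraMap z =>
      obtain ⟨a, m', hm', e⟩ := h.surj z z.2
      exact ⟨AdjoinRoot.of f a, m', hm', by rw [hψof, ← e]; rfl⟩
    | add z w hz' hw' hz hw =>
      obtain ⟨a, m₁, hm₁, e₁⟩ := hz
      obtain ⟨b, m₂, hm₂, e₂⟩ := hw
      refine ⟨a * (AdjoinRoot.of f).comp α m₂ + b * (AdjoinRoot.of f).comp α m₁, m₁ * m₂, mul_mem hm₁ hm₂, ?_⟩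
      simp only [map_add, map_mul, hψα, ← e₁, ← e₂]
      ring
    | mul z w hz' hw' hz hw =>
      obtain ⟨a, m₁, hm₁, e₁⟩ := hz
      obtain ⟨b, m₂, hm₂, e₂⟩ := hw
      refine ⟨a * b, m₁ * m₂, mul_mem hm₁ hm₂, ?_⟩
      simp only [map_mul, ← e₁, ← e₂]
      ring
  · intro w hw
    obtain ⟨g₀, hg₀⟩ := AdjoinRoot.mk_surjective w
    obtain ⟨g, hgdeg, rfl⟩ : ∃ g : A'[X], g.degree < (q ^ n : ℕ) ∧ AdjoinRoot.mk f g = w := by
      have : Nontrivial A' := ψ.domain_nontrivial
      refine ⟨g₀ %ₘ f, ?_, ?_⟩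
      · refine (degree_modByMonic_lt g₀ hmon).trans_eq ?_
        exact degree_X_pow_sub_C (Nat.pos_of_ne_zero hqn) a₁
      · rw [← hg₀, AdjoinRoot.mk_eq_mk, modByMonic_eq_sub_mul_div, sub_sub_cancel_left, dvd_neg]
        exact dvd_mul_right _ _
    let G : E[X] := ∑ i ∈ Finset.range (q ^ n),
      monomial i (⟨ψ (g.coeff i) * s ^ i, mul_mem (h.mem _) (pow_mem hsE _)⟩ : E)
    have hG0 : aeval x G = 0 := by
      rw [← hw]
      change _ = AdjoinRoot.lift ψ y hev (AdjoinRoot.mk f g)
      have hnat : g.natDegree < q ^ n := by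
        rcases eq_or_ne g 0 with rfl | hg
        · simpa using Nat.pos_of_ne_zero hqn
        · rwa [natDegree_lt_iff_degree_lt hg]
      rw [AdjoinRoot.lift_mk, eval₂_eq_sum_range' ψ hnat y]
      simp only [G, map_sum, aeval_monomial]
      refine Finset.sum_congr rfl fun i _ ↦ ?_
      change (ψ (g.coeff i) * s ^ i) * x ^ i = ψ (g.coeff i) * (x * s) ^ i
      ring
    have hGdeg : G.degree < (q ^ n : ℕ) := by
      refine (degree_sum_le _ _).trans_lt ?_
      rw [Finset.sup_lt_iff (WithBot.bot_lt_coe _)]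
      intro i hi
      exact (degree_monomial_le _ _).trans_lt (by exact_mod_cast Finset.mem_range.mp hi)
    have hG : G = 0 := by
      by_contra hne
      have := minpoly.degree_le_of_ne_zero E x hne hG0
      rw [hmin, degree_X_pow_sub_C (Nat.pos_of_ne_zero hqn)] at this
      exact absurd hGdeg (not_lt.mpr this)
    have hcoeff : ∀ i < q ^ n, ψ (g.coeff i) = 0 := by
      intro i hi
      have h1 : G.coeff i = (⟨ψ (g.coeff i) * s ^ i, mul_mem (h.mem _) (pow_mem hsE _)⟩ : E) := by
        simp only [G, finsetSum_coeff, coeff_monomial]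
        rw [Finset.sum_ite_eq' (Finset.range (q ^ n)) i, if_pos (Finset.mem_range.mpr hi)]
      rw [hG, coeff_zero] at h1
      have h2 : ψ (g.coeff i) * s ^ i = 0 := congr_arg Subtype.val h1.symm
      exact (mul_eq_zero.mp h2).resolve_right (pow_ne_zero _ hs0)
    have hex : ∀ i : ℕ, ∃ m ∈ M, i < q ^ n → α m * g.coeff i = 0 := by
      intro i
      by_cases hi : i < q ^ n
      · obtain ⟨m, hm, e⟩ := h.ker _ (hcoeff i hi)
        exact ⟨m, hm, fun _ ↦ e⟩
      · exact ⟨1, one_mem _, fun h ↦ absurd h hi⟩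
    choose c hcM hc using hex
    refine ⟨∏ i ∈ Finset.range (q ^ n), c i, prod_mem fun i _ ↦ hcM i, ?_⟩
    change AdjoinRoot.mk f (C (α (∏ i ∈ Finset.range (q ^ n), c i))) * AdjoinRoot.mk f g = 0
    rw [← map_mul]
    suffices C (α (∏ i ∈ Finset.range (q ^ n), c i)) * g = 0 by rw [this, map_zero]
    ext i
    rw [coeff_C_mul, coeff_zero]
    by_cases hi : i < q ^ n
    · rw [← Finset.mul_prod_erase _ _ (Finset.mem_range.mpr hi), map_mul, mul_comm (α (c i)), mul_assoc,
        hc i hi, mul_zero]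
    · rw [coeff_eq_zero_of_degree_lt (hgdeg.trans_le (by exact_mod_cast not_lt.mp hi)), mul_zero]

/-- Spreading out of a finite purely inseparable field extension to a good algebra. -/
theorem exists_level [Algebra A K] [IsLocalization M K] [FiniteDimensional K L] [IsPurelyInseparable K L]
    (q : ℕ) [ExpChar K q] (hq : q = 1 ∨ (q.Prime ∧ (q : A) = 0)) :
    ∃ (A' : Type u) (_ : CommRing A') (α : A →+* A') (ψ : A' →+* L),
      Level M ((algebraMap K L).comp (algebraMap A K)) Set.univ A' α ψ := by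
  have hM : ∀ m ∈ M, ((algebraMap K L).comp (algebraMap A K)) m ≠ 0 := by
    intro m hm
    exact ((IsLocalization.map_units K (⟨m, hm⟩ : M)).map (algebraMap K L)).ne_zero
  suffices H : ∀ E : IntermediateField K L, ∃ (A' : Type u) (_ : CommRing A') (α : A →+* A') (ψ : A' →+* L),
      Level M ((algebraMap K L).comp (algebraMap A K)) (E : Set L) A' α ψ by
    obtain ⟨A', h1, α, ψ, h2⟩ := H ⊤
    exact ⟨A', h1, α, ψ, h2⟩
  intro E
  refine IntermediateField.induction_on_adjoin (fun E ↦ ∃ (A' : Type u) (_ : CommRing A') (α : A →+* A')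
    (ψ : A' →+* L), Level M ((algebraMap K L).comp (algebraMap A K)) (E : Set L) A' α ψ) ?_ ?_ E
  · refine ⟨A, inferInstance, RingHom.id A, (algebraMap K L).comp (algebraMap A K), ⟨rfl, ?_, ?_, ?_, ?_⟩⟩
    · have : CommRingCat.ofHom (RingHom.id A) = 𝟙 (CommRingCat.of A) := rfl
      rw [this, Spec.map_id]
      exact Good.id _
    · intro a
      exact IntermediateField.mem_bot.mpr ⟨_, rfl⟩
    · intro z hz
      obtain ⟨k, rfl⟩ := IntermediateField.mem_bot.mp hz
      obtain ⟨⟨a, m⟩, h⟩ := IsLocalization.surj M k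
      refine ⟨a, m, m.2, ?_⟩
      rw [RingHom.comp_apply, RingHom.comp_apply, ← map_mul, h]
    · intro a ha
      have h1 : algebraMap A K a = 0 := (algebraMap K L).injective (by rw [map_zero]; exact ha)
      obtain ⟨m, hm⟩ := (IsLocalization.map_eq_zero_iff M K a).mp h1
      exact ⟨m, m.2, hm⟩
  · rintro E x ⟨A', _, α, ψ, h⟩
    exact h.step hM q hq E x

/-- The localization statement in the form of the class `IsLocalization`. -/
theorem Level.isLocalization {M} {φ : A →+* L} {A' : Type u} [CommRing A'] {α : A →+* A'} {ψ : A' →+* L}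
    (h : Level M φ Set.univ A' α ψ) (hM : ∀ m ∈ M, φ m ≠ 0) :
    letI := ψ.toAlgebra
    IsLocalization (M.map α) L := by
  letI := ψ.toAlgebra
  have hφ (m : A) : ψ (α m) = φ m := congr($(h.comp) m)
  refine ⟨?_, ?_, ?_⟩
  · rintro ⟨_, m, hm, rfl⟩
    change IsUnit (ψ (α m))
    rw [hφ]
    exact (hM m hm).isUnit
  · intro z
    obtain ⟨a, m, hm, e⟩ := h.surj z trivial
    refine ⟨⟨a, ⟨α m, m, hm, rfl⟩⟩, ?_⟩
    change z * ψ (α m) = ψ a
    rw [hφ, e]
  · intro a b hab
    obtain ⟨m, hm, e⟩ := h.ker (a - b) (by rw [map_sub]; exact sub_eq_zero.mpr hab)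
    refine ⟨⟨α m, m, hm, rfl⟩, ?_⟩
    rwa [mul_sub, sub_eq_zero] at e

end Tower

end Groth.Agent.Flat2G.PITower
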