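import Mathlib.Algebra.Category.Ring.Constructions
import Mathlib.RingTheory.RingHom.FiniteType

/-!
# Fibre squares of rings and base change (Ferrand)

`FibSq f g p q` : the square `A → B`, `A → C`, `B → R`, `C → R` is a fibre product of rings.
Main results, for `p` surjective and a map of fibre squares whose `B`- and `C`-corners give the same
base change to `R`:
* `isPushout_left`, `isPushout_right` : `B' = A' ⊗[A] B`, `C' = A' ⊗[A] C`.
* `finiteType` : `A'` is of finite type over `A` if `B'/B` and `C'/C` are.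
-/

universe u

namespace Groth.Agent.Flat2G.PushRing

open CategoryTheory Limits TensorProduct

/-- A fibre square of rings in elementary terms: `A = B ×_R C`. -/
structure FibSq {A B C R : Type*} [CommRing A] [CommRing B] [CommRing C] [CommRing R]
    (f : A →+* B) (g : A →+* C) (p : B →+* R) (q : C →+* R) : Prop where
  comm : p.comp f = q.comp g
  exists_eq : ∀ b c, p b = q c → ∃ a, f a = b ∧ g a = c
  inj : ∀ a a', f a = f a' → g a = g a' → a = a'

namespace FibSq

variable {A B C R : Type*} [CommRing A] [CommRing B] [CommRing C] [CommRing R]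
    {f : A →+* B} {g : A →+* C} {p : B →+* R} {q : C →+* R}

lemma comm_apply (h : FibSq f g p q) (a : A) : p (f a) = q (g a) :=
  RingHom.congr_fun h.comm a

lemma symm (h : FibSq f g p q) : FibSq g f q p where
  comm := h.comm.symm
  exists_eq c b hcb := by
    obtain ⟨a, h1, h2⟩ := h.exists_eq b c hcb.symm
    exact ⟨a, h2, h1⟩
  inj a a' h1 h2 := h.inj a a' h2 h1

lemma surjective (h : FibSq f g p q) (hp : Function.Surjective p) : Function.Surjective g := by
  intro c
  obtain ⟨b, hb⟩ := hp (q c)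
  obtain ⟨a, -, ha⟩ := h.exists_eq b c hb
  exact ⟨a, ha⟩

lemma exists_ker (h : FibSq f g p q) {b : B} (hb : p b = 0) : ∃ a, f a = b ∧ g a = 0 :=
  h.exists_eq b 0 (by simp [hb])

lemma inj_zero (h : FibSq f g p q) {a : A} (h1 : f a = 0) (h2 : g a = 0) : a = 0 :=
  h.inj a 0 (by simp [h1]) (by simp [h2])

end FibSq

section Ferrand

variable {A B C R A' B' C' R' : Type*} [CommRing A] [CommRing B] [CommRing C] [CommRing R]
    [CommRing A'] [CommRing B'] [CommRing C'] [CommRing R']
    {f : A →+* B} {g : A →+* C} {p : B →+* R} {q : C →+* R}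
    {f' : A' →+* B'} {g' : A' →+* C'} {p' : B' →+* R'} {q' : C' →+* R'}
    {α : A →+* A'} {β : B →+* B'} {γ : C →+* C'} {ρ : R →+* R'}

/-- every element of `R'` is a sum of products -/
def GenR (ρ : R →+* R') (q' : C' →+* R') : Prop :=
  ∀ r' : R', r' ∈ AddSubmonoid.closure {x : R' | ∃ r c', x = ρ r * q' c'}

/-- Every `b' : B'` is of the form `Σ β b * f' a' + (f' of something in ker g')`. -/
lemma exists_decomp (h' : FibSq f' g' p' q') (hp : Function.Surjective p)
    (hp' : Function.Surjective p')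
    (hβ : p'.comp β = ρ.comp p)
    (hgen : GenR ρ q') (b' : B') :
    ∃ y : A', g' y = 0 ∧ b' - f' y ∈ AddSubmonoid.closure {x : B' | ∃ b a', x = β b * f' a'} := by
  have hg' := h'.surjective hp'
  have key : ∀ r' ∈ AddSubmonoid.closure {x : R' | ∃ r c', x = ρ r * q' c'},
      ∃ b'' ∈ AddSubmonoid.closure {x : B' | ∃ b a', x = β b * f' a'}, p' b'' = r' := by
    intro r' hr'
    induction hr' using AddSubmonoid.closure_induction with
    | mem x hx =>
      obtain ⟨r, c', rfl⟩ := hx
      obtain ⟨b, rfl⟩ := hp r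
      obtain ⟨a', rfl⟩ := hg' c'
      refine ⟨β b * f' a', AddSubmonoid.subset_closure ⟨b, a', rfl⟩, ?_⟩
      rw [map_mul, h'.comm_apply]
      congr 1
      exact RingHom.congr_fun hβ b
    | zero => exact ⟨0, zero_mem _, map_zero _⟩
    | add x y _ _ hx hy =>
      obtain ⟨b1, hb1, rfl⟩ := hx
      obtain ⟨b2, hb2, rfl⟩ := hy
      exact ⟨b1 + b2, add_mem hb1 hb2, map_add _ _ _⟩
  obtain ⟨b'', hb'', hpb⟩ := key (p' b') (hgen _)
  obtain ⟨y, hy1, hy2⟩ := h'.exists_ker (b := b' - b'') (by rw [map_sub, hpb, sub_self])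
  refine ⟨y, hy2, ?_⟩
  rw [hy1, sub_sub_cancel]
  exact hb''

/-- For `i ∈ ker p`, `β i * b'` comes from `(ker g) A'`. -/
lemma exists_mem_map_ker (h : FibSq f g p q) (h' : FibSq f' g' p' q')
    (hp : Function.Surjective p) (hp' : Function.Surjective p')
    (hα : f'.comp α = β.comp f)
    (hβ : p'.comp β = ρ.comp p)
    (hgen : GenR ρ q') {i : B} (hi : p i = 0) (b' : B') :
    ∃ z ∈ (RingHom.ker g).map α, f' z = β i * b' := by
  obtain ⟨y, hy1, hy2⟩ := exists_decomp h' hp hp' hβ hgen b'
  have key : ∀ b'' ∈ AddSubmonoid.closure {x : B' | ∃ b a', x = β b * f' a'},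
      ∃ z ∈ (RingHom.ker g).map α, f' z = β i * b'' := by
    intro b'' hb''
    induction hb'' using AddSubmonoid.closure_induction with
    | mem x hx =>
      obtain ⟨b, a', rfl⟩ := hx
      obtain ⟨x, hx1, hx2⟩ := h.exists_ker (b := i * b) (by rw [map_mul, hi, zero_mul])
      refine ⟨α x * a', Ideal.mul_mem_right _ _ (Ideal.mem_map_of_mem _ hx2), ?_⟩
      rw [map_mul, ← mul_assoc, ← map_mul β, ← hx1]
      congr 1
      exact RingHom.congr_fun hα x
    | zero => exact ⟨0, zero_mem _, by simp⟩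
    | add x y _ _ hx hy =>
      obtain ⟨b1, hb1, h1⟩ := hx
      obtain ⟨b2, hb2, h2⟩ := hy
      exact ⟨b1 + b2, add_mem hb1 hb2, by rw [map_add, h1, h2, mul_add]⟩
  obtain ⟨z, hz, hz'⟩ := key _ hy2
  obtain ⟨x, hx1, hx2⟩ := h.exists_ker hi
  refine ⟨z + α x * y, add_mem hz (Ideal.mul_mem_right _ _ (Ideal.mem_map_of_mem _ hx2)), ?_⟩
  have : f' (α x) = β i := by
    rw [← hx1]; exact RingHom.congr_fun hα x
  rw [map_add, hz', map_mul, this, ← mul_add, sub_add_cancel]

/-- `ker g' = (ker g) A'`. -/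
lemma ker_eq_map (h : FibSq f g p q) (h' : FibSq f' g' p' q')
    (hp : Function.Surjective p) (hp' : Function.Surjective p')
    (hα : f'.comp α = β.comp f) (hα' : g'.comp α = γ.comp g)
    (hβ : p'.comp β = ρ.comp p)
    (hker : RingHom.ker p' ≤ (RingHom.ker p).map β)
    (hgen : GenR ρ q') : RingHom.ker g' = (RingHom.ker g).map α := by
  apply le_antisymm
  · intro a' ha'
    have hf : f' a' ∈ (RingHom.ker p).map β := by
      apply hker
      rw [RingHom.mem_ker, h'.comm_apply, RingHom.mem_ker.mp ha', map_zero]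
    have key : ∀ x ∈ (RingHom.ker p).map β, ∃ z ∈ (RingHom.ker g).map α, f' z = x := by
      intro x hx
      refine Submodule.span_induction ?_ ?_ ?_ ?_ hx
      · rintro _ ⟨i, hi, rfl⟩
        obtain ⟨z, hz, hz'⟩ := exists_mem_map_ker h h' hp hp' hα hβ hgen hi 1
        exact ⟨z, hz, by simpa using hz'⟩
      · exact ⟨0, zero_mem _, map_zero _⟩
      · rintro x y _ _ ⟨z1, hz1, rfl⟩ ⟨z2, hz2, rfl⟩
        exact ⟨z1 + z2, add_mem hz1 hz2, map_add _ _ _⟩
      · rintro b' x hx ⟨z, hz, rfl⟩
        -- need to redo: `b' * f' z` with `z ∈ (ker g) A'`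
        refine Submodule.span_induction ?_ ?_ ?_ ?_ hz
        · rintro _ ⟨k, hk, rfl⟩
          obtain ⟨z, hz, hz'⟩ := exists_mem_map_ker h h' hp hp' hα hβ hgen (i := f k)
            (by rw [h.comm_apply, RingHom.mem_ker.mp hk, map_zero]) b'
          refine ⟨z, hz, ?_⟩
          rw [hz', smul_eq_mul, mul_comm]
          congr 1
          exact (RingHom.congr_fun hα k).symm
        · exact ⟨0, zero_mem _, by simp⟩
        · rintro x y _ _ ⟨z1, hz1, h1⟩ ⟨z2, hz2, h2⟩
          exact ⟨z1 + z2, add_mem hz1 hz2, by rw [map_add, h1, h2, map_add, smul_add]⟩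
        · rintro a x _ ⟨z, hz, h1⟩
          refine ⟨a * z, Ideal.mul_mem_left _ _ hz, ?_⟩
          rw [map_mul, h1, smul_eq_mul, smul_eq_mul, smul_eq_mul, map_mul]
          ring
    obtain ⟨z, hz, hz'⟩ := key _ hf
    have hgz : g' z = 0 := by
      have : (RingHom.ker g).map α ≤ RingHom.ker g' := by
        rw [Ideal.map_le_iff_le_comap]
        intro x hx
        rw [Ideal.mem_comap, RingHom.mem_ker]
        rw [show g' (α x) = γ (g x) from RingHom.congr_fun hα' x, RingHom.mem_ker.mp hx, map_zero]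
      exact this hz
    have := h'.inj z a' hz' (by rw [hgz, RingHom.mem_ker.mp ha'])
    rwa [← this]
  · rw [Ideal.map_le_iff_le_comap]
    intro x hx
    rw [Ideal.mem_comap, RingHom.mem_ker]
    rw [show g' (α x) = γ (g x) from RingHom.congr_fun hα' x, RingHom.mem_ker.mp hx, map_zero]

end Ferrand

end Groth.Agent.Flat2G.PushRing
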