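import Groth.Agent.Flat2G.GenericAss
import Mathlib.RingTheory.Ideal.AssociatedPrime.Basic

set_option autoImplicit false
universe u

namespace Groth.Agent.Flat2G.RelAssAlg

open GenericAss

variable {B Bx M Mx : Type u} [CommRing B] [CommRing Bx] [Algebra B Bx] (P : Ideal B) [P.IsPrime]
  [IsLocalization.AtPrime Bx P] [AddCommGroup M] [Module B M] [AddCommGroup Mx] [Module Bx Mx] [Module B Mx]
  [IsScalarTower B Bx Mx] (g : M →ₗ[B] Mx) [IsLocalizedModule P.primeCompl g] (I : Ideal B)

include P in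
omit [IsLocalizedModule P.primeCompl g] in
theorem smul_mem_iff (N : Submodule Bx Mx) (s : B) (hs : s ∉ P) (z : Mx) : s • z ∈ N ↔ z ∈ N := by
  refine ⟨fun h => ?_, fun h => ?_⟩
  · have hu : IsUnit (algebraMap B Bx s) := IsLocalization.map_units Bx (⟨s, hs⟩ : P.primeCompl)
    obtain ⟨u, hu⟩ := hu
    rw [← algebraMap_smul Bx s z, ← hu] at h
    have := N.smul_mem (↑u⁻¹ : Bx) h
    rwa [smul_smul, Units.inv_mul, one_smul] at this
  · rw [← algebraMap_smul Bx s z]
    exact N.smul_mem _ h

theorem map_mem_iff (m : M) :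
    g m ∈ (I.map (algebraMap B Bx)) • (⊤ : Submodule Bx Mx) ↔ ∃ s ∉ P, s • m ∈ I • (⊤ : Submodule B M) := by
  constructor
  · intro h
    have key : ∀ z ∈ (I.map (algebraMap B Bx)) • (⊤ : Submodule Bx Mx),
        ∃ s ∉ P, ∃ m' ∈ I • (⊤ : Submodule B M), s • z = g m' := by
      intro z hz
      refine Submodule.smul_induction_on hz ?_ ?_
      · intro r hr y hy
        clear hy
        revert y
        refine Submodule.span_induction (p := fun r _ => ∀ y : Mx, ∃ s ∉ P, ∃ m' ∈ I • (⊤ : Submodule B M),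
          s • (r • y) = g m') ?_ ?_ ?_ ?_ hr
        · rintro _ ⟨i, hi, rfl⟩ y
          obtain ⟨⟨n, s⟩, hn⟩ := IsLocalizedModule.surj P.primeCompl g y
          refine ⟨s.1, s.2, i • n, Submodule.smul_mem_smul hi trivial, ?_⟩
          have : (s.1 : B) • y = g n := hn
          rw [algebraMap_smul, map_smul, ← this, smul_comm]
        · intro y
          exact ⟨1, fun h => (inferInstance : P.IsPrime).ne_top ((Ideal.eq_top_iff_one P).mpr h), 0, zero_mem _, by simp⟩
        · intro x x' _ _ hx hx' y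
          obtain ⟨s, hs, m1, hm1, h1⟩ := hx y
          obtain ⟨s', hs', m2, hm2, h2⟩ := hx' y
          refine ⟨s * s', fun h => ((inferInstance : P.IsPrime).mem_or_mem h).elim hs hs', s' • m1 + s • m2,
            add_mem (Submodule.smul_mem _ _ hm1) (Submodule.smul_mem _ _ hm2), ?_⟩
          rw [add_smul, smul_add, map_add, map_smul, map_smul, ← h1, ← h2, mul_comm, mul_smul, mul_comm, mul_smul]
        · intro c x _ hx y
          obtain ⟨s, hs, m', hm', h'⟩ := hx (c • y)
          refine ⟨s, hs, m', hm', ?_⟩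
          rw [← h', smul_eq_mul, mul_comm, mul_smul]
      · rintro x y ⟨s, hs, m1, hm1, h1⟩ ⟨s', hs', m2, hm2, h2⟩
        refine ⟨s * s', fun h => ((inferInstance : P.IsPrime).mem_or_mem h).elim hs hs', s' • m1 + s • m2,
            add_mem (Submodule.smul_mem _ _ hm1) (Submodule.smul_mem _ _ hm2), ?_⟩
        rw [smul_add, map_add, map_smul, map_smul, ← h1, ← h2, mul_smul, mul_smul]
        congr 1
        rw [smul_comm]
    obtain ⟨s, hs, m', hm', h'⟩ := key _ h
    rw [← map_smul] at h'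
    obtain ⟨c, hc⟩ := (IsLocalizedModule.eq_iff_exists P.primeCompl g).mp h'
    refine ⟨c.1 * s, fun h => ((inferInstance : P.IsPrime).mem_or_mem h).elim c.2 hs, ?_⟩
    have hc' : (c.1 : B) • s • m = c.1 • m' := hc
    rw [mul_smul, hc']
    exact Submodule.smul_mem _ _ hm'
  · rintro ⟨s, hs, h⟩
    rw [← smul_mem_iff P _ s hs, ← map_smul]
    refine Submodule.smul_induction_on h ?_ ?_
    · intro r hr n _
      rw [map_smul, ← algebraMap_smul Bx r]
      exact Submodule.smul_mem_smul (Ideal.mem_map_of_mem _ hr) trivial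
    · intro x y hx hy
      rw [map_add]
      exact add_mem hx hy

include P g in
theorem isAssociatedPrime_iff_RA [IsLocalRing Bx] :
    IsAssociatedPrime (IsLocalRing.maximalIdeal Bx) (Mx ⧸ ((I.map (algebraMap B Bx)) • (⊤ : Submodule Bx Mx))) ↔
      RA I P M := by
  set N := (I.map (algebraMap B Bx)) • (⊤ : Submodule Bx Mx) with hN
  have hcolon : ∀ (z : Mx) (β : Bx), β ∈ (⊥ : Submodule Bx (Mx ⧸ N)).colon {(Submodule.Quotient.mk z : Mx ⧸ N)} ↔
      β • z ∈ N := by
    intro z β
    rw [Submodule.mem_colon_singleton, Submodule.mem_bot, ← Submodule.Quotient.mk_smul,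
      Submodule.Quotient.mk_eq_zero]
  have hmax : ∀ b : B, b ∈ P ↔ algebraMap B Bx b ∈ IsLocalRing.maximalIdeal Bx := fun b =>
    (IsLocalization.AtPrime.to_map_mem_maximal_iff Bx P b).symm
  have hpow : ∀ (b : B) (n : ℕ) (z : Mx), b ^ n • z = (algebraMap B Bx b) ^ n • z := by
    intro b n z
    rw [← map_pow, algebraMap_smul]
  rw [IsAssociatedPrime, Submodule.isAssociatedPrime_def]
  constructor
  · rintro ⟨-, zb, hz⟩
    obtain ⟨z, rfl⟩ := Submodule.Quotient.mk_surjective _ zb
    obtain ⟨⟨m, s⟩, hm⟩ := IsLocalizedModule.surj P.primeCompl g z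
    have hm' : (s.1 : B) • z = g m := hm
    refine ⟨m, ?_, ?_⟩
    · intro b hb
      have : algebraMap B Bx b ∈ IsLocalRing.maximalIdeal Bx := (hmax b).mp hb
      rw [hz] at this
      obtain ⟨n, hn⟩ := this
      rw [hcolon] at hn
      have h1 : g (b ^ n • m) ∈ N := by
        rw [map_smul, ← hm', smul_comm, smul_mem_iff P _ s.1 s.2, hpow]
        exact hn
      obtain ⟨t, ht, h2⟩ := (map_mem_iff P g I _).mp h1
      exact ⟨n, t, ht, by rw [mul_smul]; exact h2⟩
    · intro t ht h
      have h1 : g m ∈ N := (map_mem_iff P g I _).mpr ⟨t, ht, h⟩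
      rw [← hm', smul_mem_iff P _ s.1 s.2] at h1
      have h2 : (1 : Bx) ∈ (⊥ : Submodule Bx (Mx ⧸ N)).colon {(Submodule.Quotient.mk z : Mx ⧸ N)} := by
        rw [hcolon, one_smul]
        exact h1
      have h3 : (1 : Bx) ∈ IsLocalRing.maximalIdeal Bx := by
        rw [hz]
        exact Ideal.le_radical h2
      exact (Ideal.ne_top_iff_one _).mp (IsLocalRing.maximalIdeal.isMaximal Bx).ne_top h3
  · rintro ⟨m, h1, h2⟩
    refine ⟨(IsLocalRing.maximalIdeal.isMaximal Bx).isPrime, Submodule.Quotient.mk (g m), ?_⟩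
    apply le_antisymm
    · intro β hβ
      obtain ⟨⟨b, s⟩, hb⟩ := IsLocalization.surj P.primeCompl β
      have hb' : β * algebraMap B Bx s.1 = algebraMap B Bx b := hb
      have hbP : b ∈ P := by
        rw [hmax, ← hb']
        exact Ideal.mul_mem_right _ _ hβ
      obtain ⟨n, t, ht, h3⟩ := h1 b hbP
      refine ⟨n, ?_⟩
      rw [hcolon]
      have h4 : g (b ^ n • m) ∈ N := (map_mem_iff P g I _).mpr ⟨t, ht, by rw [← mul_smul]; exact h3⟩
      rw [map_smul, hpow, ← hb', mul_pow, mul_comm, mul_smul, ← map_pow, algebraMap_smul,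
        smul_mem_iff P _ (s.1 ^ n) (fun h => s.2 ((inferInstance : P.IsPrime).mem_of_pow_mem _ h))] at h4
      exact h4
    · rintro β ⟨n, hn⟩
      rw [hcolon] at hn
      by_contra hβ
      have hu : IsUnit (β ^ n) := by
        rw [IsLocalRing.mem_maximalIdeal, mem_nonunits_iff, not_not] at hβ
        exact hβ.pow n
      obtain ⟨v, hv⟩ := hu
      rw [← hv] at hn
      have := N.smul_mem (↑v⁻¹ : Bx) hn
      rw [smul_smul, Units.inv_mul, one_smul] at this
      obtain ⟨t, ht, h3⟩ := (map_mem_iff P g I _).mp this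
      exact h2 t ht h3

end Groth.Agent.Flat2G.RelAssAlg
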