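import Groth.Agent.Flat2G.RelAssAlg
import Groth.Agent.Fdesc.QCohStalk
import Groth.Prelude.Def_MoreMor

set_option autoImplicit false
universe u

open CategoryTheory CategoryTheory.Limits AlgebraicGeometry Opposite TopologicalSpace

namespace Groth.Agent.Flat2G.RelAssSch

open GenericAss RelAssAlg Fdesc.QCohStalk

variable {X S : Scheme.{u}} (f : X ⟶ S)

theorem germ_appLE {U : X.Opens} {V : S.Opens} (e : U ≤ f ⁻¹ᵁ V) (x : X) (hx : x ∈ U) (a : Γ(S, V)) :
    X.presheaf.germ U x hx (f.appLE V U e a) = f.stalkMap x (S.presheaf.germ V (f x) (e hx) a) := by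
  refine Eq.trans ?_ (Scheme.Hom.germ_stalkMap_apply f V x (e hx) a).symm
  rw [Scheme.Hom.appLE, CommRingCat.comp_apply]
  exact TopCat.Presheaf.germ_res_apply _ _ _ _ _

theorem primeIdealOf_under {U : X.Opens} (hU : IsAffineOpen U) {V : S.Opens} (hV : IsAffineOpen V)
    (e : U ≤ f ⁻¹ᵁ V) (x : X) (hx : x ∈ U) :
    (hU.primeIdealOf ⟨x, hx⟩).asIdeal.comap (f.appLE V U e).hom = (hV.primeIdealOf ⟨f x, e hx⟩).asIdeal := by
  ext a
  rw [Ideal.mem_comap, mem_primeIdealOf_iff hU x hx, mem_primeIdealOf_iff hV (f x) (e hx)]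
  have h := germ_appLE f e x hx a
  constructor
  · intro h1
    change X.presheaf.germ U x hx (f.appLE V U e a) ∈ _ at h1
    rw [h] at h1
    exact (IsLocalRing.mem_maximalIdeal _).mpr fun hu => (IsLocalRing.mem_maximalIdeal _).mp h1 (hu.map (f.stalkMap x).hom)
  · intro h1
    change X.presheaf.germ U x hx (f.appLE V U e a) ∈ _
    rw [h]
    refine (IsLocalRing.mem_maximalIdeal _).mpr fun hu => (IsLocalRing.mem_maximalIdeal _).mp h1 ?_
    exact (isUnit_map_iff (f.stalkMap x).hom _).mp hu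

theorem map_maximalIdeal_eq {U : X.Opens} (hU : IsAffineOpen U) {V : S.Opens} (hV : IsAffineOpen V)
    (e : U ≤ f ⁻¹ᵁ V) (x : X) (hx : x ∈ U) :
    Ideal.map (f.stalkMap x).hom (IsLocalRing.maximalIdeal (S.presheaf.stalk (f x))) =
      (((hU.primeIdealOf ⟨x, hx⟩).asIdeal.comap (f.appLE V U e).hom).map (f.appLE V U e).hom).map
        (X.presheaf.germ U x hx).hom := by
  rw [primeIdealOf_under f hU hV e x hx]
  let _ := S.presheaf.algebra_section_stalk ⟨f x, e hx⟩
  have hloc := hV.isLocalization_stalk ⟨f x, e hx⟩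
  have h1 := IsLocalization.AtPrime.map_eq_maximalIdeal (hV.primeIdealOf ⟨f x, e hx⟩).asIdeal (S.presheaf.stalk (f x))
  rw [← h1, Ideal.map_map, Ideal.map_map]
  congr 1
  ext a
  exact (germ_appLE f e x hx a).symm

theorem mem_relAss_iff (F : X.Modules) (hF : Coh.IsQCoh F) {U : X.Opens} (hU : IsAffineOpen U)
    {V : S.Opens} (hV : IsAffineOpen V) (e : U ≤ f ⁻¹ᵁ V) (x : X) (hx : x ∈ U) :
    x ∈ MoreMor.relAss f F ↔
      RA (((hU.primeIdealOf ⟨x, hx⟩).asIdeal.comap (f.appLE V U e).hom).map (f.appLE V U e).hom)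
        (hU.primeIdealOf ⟨x, hx⟩).asIdeal Γ(F, U) := by
  let _ := X.presheaf.algebra_section_stalk ⟨x, hx⟩
  have hloc := hU.isLocalization_stalk ⟨x, hx⟩
  let _ := stalkModule F x hx
  have hlm := isLocalizedModule_germ F hU hF x hx
  have htow : IsScalarTower Γ(X, U) (X.presheaf.stalk x) (F.presheaf.stalk x) :=
    IsScalarTower.of_algebraMap_smul fun r m => rfl
  rw [← isAssociatedPrime_iff_RA (Bx := X.presheaf.stalk x) (hU.primeIdealOf ⟨x, hx⟩).asIdeal (germₗ F x hx)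
    (((hU.primeIdealOf ⟨x, hx⟩).asIdeal.comap (f.appLE V U e).hom).map (f.appLE V U e).hom)]
  have h := map_maximalIdeal_eq f hU hV e x hx
  show IsAssociatedPrime _ _ ↔ _
  rw [h]
  rfl

end Groth.Agent.Flat2G.RelAssSch
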