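import Groth.Agent.CalgB.NagataFP2
import Mathlib.RingTheory.Ideal.AssociatedPrime.Basic
import Mathlib.RingTheory.Ideal.AssociatedPrime.Finiteness
import Mathlib.RingTheory.EssentialFiniteness
import Mathlib.RingTheory.Nakayama
import Mathlib.RingTheory.Valuation.ValuationRing
import Mathlib.RingTheory.Flat.TorsionFree
import Mathlib.RingTheory.LocalRing.MaximalIdeal.Basic

/-!
# Specialization of associated points in a flat family over a valuation ring
-/

set_option autoImplicit false
universe u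

namespace Groth.Agent.Flat2G.RelAssVal

open IsLocalRing

section core

variable {V B M : Type u} [CommRing V] [IsDomain V] [CommRing B] [Algebra V B]
  [AddCommGroup M] [Module B M] [Module V M] [IsScalarTower V B M]

/-- `V`-saturation of a `B`-submodule. -/
def sat (N : Submodule B M) : Submodule B M where
  carrier := {n | ∃ v : V, v ≠ 0 ∧ v • n ∈ N}
  add_mem' := by
    rintro x y ⟨v, hv, hx⟩ ⟨w, hw, hy⟩
    refine ⟨v * w, mul_ne_zero hv hw, ?_⟩
    rw [smul_add]
    refine N.add_mem ?_ ?_
    · rw [mul_comm, mul_smul, ← algebraMap_smul B w]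
      exact N.smul_mem _ hx
    · rw [mul_smul, ← algebraMap_smul B v]
      exact N.smul_mem _ hy
  zero_mem' := ⟨1, one_ne_zero, by rw [smul_zero]; exact N.zero_mem⟩
  smul_mem' := by
    rintro b x ⟨v, hv, hx⟩
    refine ⟨v, hv, ?_⟩
    rw [← algebraMap_smul B v, smul_comm, algebraMap_smul]
    exact N.smul_mem _ hx

theorem mem_sat_iff (N : Submodule B M) (n : M) : n ∈ sat (V := V) N ↔ ∃ v : V, v ≠ 0 ∧ v • n ∈ N := Iff.rfl

theorem le_sat (N : Submodule B M) : N ≤ sat (V := V) N := fun n hn =>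
  ⟨1, one_ne_zero, by rw [one_smul]; exact hn⟩

theorem mem_sat_of_smul_mem (N : Submodule B M) {v : V} (hv : v ≠ 0) {x : M} (h : v • x ∈ sat (V := V) N) :
    x ∈ sat (V := V) N := by
  obtain ⟨w, hw, h⟩ := h
  exact ⟨w * v, mul_ne_zero hw hv, by rw [mul_smul]; exact h⟩

theorem eq_zero_of_smul_eq_zero [Module.Flat V M] {v : V} (hv : v ≠ 0) {x : M} (h : v • x = 0) : x = 0 := by
  have hreg : IsSMulRegular M v := Module.Flat.isSMulRegular_of_isRegular (IsRegular.of_ne_zero hv)
  exact hreg (by show v • x = v • 0; rw [h, smul_zero])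

variable [ValuationRing V]

theorem flat_quotient_sat (N : Submodule B M) : Module.Flat V (M ⧸ sat (V := V) N) := by
  rw [Module.Flat.flat_iff_torsion_eq_bot_of_isBezout, eq_bot_iff]
  intro x hx
  rw [Submodule.mem_torsion_iff] at hx
  obtain ⟨a, ha⟩ := hx
  obtain ⟨x, rfl⟩ := Submodule.Quotient.mk_surjective _ x
  have ha' : (a : V) • (Submodule.Quotient.mk x : M ⧸ sat (V := V) N) = 0 := ha
  rw [← Submodule.Quotient.mk_smul, Submodule.Quotient.mk_eq_zero] at ha'
  rw [Submodule.mem_bot, Submodule.Quotient.mk_eq_zero]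
  exact mem_sat_of_smul_mem N (nonZeroDivisors.ne_zero a.2) ha'

/-- every element of `𝔪 M` is a multiple `v • w` with `v ∈ 𝔪`. -/
theorem exists_smul_eq_of_mem (I : Ideal V) (z : M)
    (hz : z ∈ (I.map (algebraMap V B)) • (⊤ : Submodule B M)) :
    ∃ v ∈ I, ∃ w : M, v • w = z := by
  have hadd : ∀ v ∈ I, ∀ w : M, ∀ v' ∈ I, ∀ w' : M, ∃ u ∈ I, ∃ y : M, u • y = v • w + v' • w' := by
    intro v hv w v' hv' w'
    rcases ValuationRing.dvd_total v v' with ⟨c, rfl⟩ | ⟨c, rfl⟩
    · exact ⟨v, hv, w + c • w', by rw [smul_add, mul_smul]⟩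
    · exact ⟨v', hv', c • w + w', by rw [smul_add, mul_smul]⟩
  refine Submodule.smul_induction_on hz ?_ ?_
  · intro r hr y hy
    clear hy
    revert y
    refine Submodule.span_induction (p := fun r _ => ∀ y : M, ∃ v ∈ I, ∃ w : M, v • w = r • y) ?_ ?_ ?_ ?_ hr
    · rintro _ ⟨i, hi, rfl⟩ y
      exact ⟨i, hi, y, by rw [algebraMap_smul]⟩
    · intro y
      exact ⟨0, I.zero_mem, 0, by simp⟩
    · intro x x' _ _ hx hx' y
      obtain ⟨v, hv, w, h1⟩ := hx y
      obtain ⟨v', hv', w', h2⟩ := hx' y
      obtain ⟨u, hu, y', h3⟩ := hadd v hv w v' hv' w'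
      exact ⟨u, hu, y', by rw [h3, h1, h2, add_smul]⟩
    · intro c x _ hx y
      obtain ⟨v, hv, w, h1⟩ := hx (c • y)
      refine ⟨v, hv, w, ?_⟩
      rw [h1, smul_eq_mul, smul_smul, mul_comm]
  · rintro _ _ ⟨v, hv, w, rfl⟩ ⟨v', hv', w', rfl⟩
    exact hadd v hv w v' hv' w'

/-- Main step of Stacks 0GSI: over a valuation ring `V`, for a finite `V`-flat module `M` over a local
essentially finite type `V`-algebra `B` and a non-zero element killed by `q`, if the maximal ideal of `B` is
minimal over `q + 𝔪_V B` then it is associated to `M / 𝔪_V M`. -/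
theorem core [IsLocalRing B] [Algebra.EssFiniteType V B] [IsLocalHom (algebraMap V B)]
    [Module.Finite B M] [Module.Flat V M] (q : Ideal B) (m : M) (hm : m ≠ 0)
    (hq : ∀ b ∈ q, b • m = 0)
    (hrad : ∀ P : Ideal B, P.IsPrime → q ≤ P → (maximalIdeal V).map (algebraMap V B) ≤ P → P = maximalIdeal B) :
    ∃ n : M, (∀ b ∈ maximalIdeal B, b • n ∈ ((maximalIdeal V).map (algebraMap V B)) • (⊤ : Submodule B M)) ∧
      n ∉ ((maximalIdeal V).map (algebraMap V B)) • (⊤ : Submodule B M) := by
  set J : Ideal B := (maximalIdeal V).map (algebraMap V B) with hJ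
  let N : Submodule B M := sat (V := V) (Submodule.span B {m})
  have hmN : m ∈ N := le_sat _ (Submodule.mem_span_singleton_self m)
  have hflat : Module.Flat V (M ⧸ N) := flat_quotient_sat _
  have hfp : Module.FinitePresentation B (M ⧸ N) :=
    CalgB.NagataFP.finitePresentation_of_flat_essFiniteType (A := V)
  have hfg : N.FG := by
    have := Module.FinitePresentation.fg_ker N.mkQ N.mkQ_surjective
    rwa [Submodule.ker_mkQ] at this
  have hJle : J ≤ maximalIdeal B := by
    rw [hJ, Ideal.map_le_iff_le_comap]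
    intro v hv
    rw [Ideal.mem_comap, IsLocalRing.mem_maximalIdeal, mem_nonunits_iff]
    intro hu
    exact (IsLocalRing.mem_maximalIdeal _).mp hv (isUnit_of_map_unit (algebraMap V B) v hu)
  have hker : ∀ z ∈ N, z ∈ J • (⊤ : Submodule B M) → z ∈ J • N := by
    intro z hz hzJ
    obtain ⟨v, hv, w, rfl⟩ := exists_smul_eq_of_mem _ z hzJ
    by_cases hv0 : v = 0
    · rw [hv0, zero_smul]; exact zero_mem _
    · have hw : w ∈ N := mem_sat_of_smul_mem _ hv0 hz
      rw [← algebraMap_smul B v]
      exact Submodule.smul_mem_smul (Ideal.mem_map_of_mem _ hv) hw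
  have hne : J • N ≠ N := by
    intro h
    have hbot : N = ⊥ := Submodule.eq_bot_of_le_smul_of_le_jacobson_bot J N hfg h.ge
      (hJle.trans (IsLocalRing.maximalIdeal_le_jacobson _))
    rw [hbot, Submodule.mem_bot] at hmN
    exact hm hmN
  -- pass to the quotient
  have hfinN : Module.Finite B N := Module.Finite.iff_fg.mpr hfg
  let Q := B ⧸ J
  let E := (N ⧸ (J • ⊤ : Submodule B N))
  have hnoeth : IsNoetherianRing Q := by
    let _ : Algebra (V ⧸ maximalIdeal V) (B ⧸ J) := Ideal.Quotient.algebraQuotientOfLEComap (Ideal.le_comap_map)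
    have : IsScalarTower V (V ⧸ maximalIdeal V) (B ⧸ J) := IsScalarTower.of_algebraMap_eq fun x => rfl
    have : Algebra.EssFiniteType V (B ⧸ J) := Algebra.EssFiniteType.comp V B (B ⧸ J)
    have : Algebra.EssFiniteType (V ⧸ maximalIdeal V) (B ⧸ J) := Algebra.EssFiniteType.of_comp V _ _
    let _ : Field (V ⧸ maximalIdeal V) := Ideal.Quotient.field _
    exact Algebra.EssFiniteType.isNoetherianRing (V ⧸ maximalIdeal V) (B ⧸ J)
  have hnt : Nontrivial E := by
    rw [Submodule.Quotient.nontrivial_iff]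
    intro h
    apply hne
    have h1 := congrArg (Submodule.map N.subtype) h
    rw [Submodule.map_smul'', Submodule.map_top, Submodule.range_subtype] at h1
    exact h1
  obtain ⟨P, hP⟩ := associatedPrimes.nonempty Q E
  obtain ⟨hPp, x, hx⟩ := (isAssociatedPrime_iff (R := Q) (M := E)).mp hP
  obtain ⟨n, rfl⟩ := Submodule.Quotient.mk_surjective _ x
  have hmem : ∀ b : B, Ideal.Quotient.mk J b ∈ P ↔ b • n ∈ (J • ⊤ : Submodule B N) := by
    intro b
    rw [hx, Submodule.mem_colon_singleton, Submodule.mem_bot]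
    rw [← Submodule.Quotient.mk_eq_zero]
    exact Iff.rfl
  have hsub : ∀ z : N, z ∈ (J • ⊤ : Submodule B N) ↔ (z : M) ∈ J • N := by
    intro z
    have h1 : Submodule.map N.subtype (J • ⊤ : Submodule B N) = J • N := by
      rw [Submodule.map_smul'', Submodule.map_top, Submodule.range_subtype]
    rw [← h1, Submodule.mem_map]
    constructor
    · intro h
      exact ⟨z, h, rfl⟩
    · rintro ⟨y, hy, hyz⟩
      have : y = z := Subtype.ext hyz
      rwa [← this]
  have hPmax : P.comap (Ideal.Quotient.mk J) = maximalIdeal B := by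
    refine hrad _ inferInstance ?_ ?_
    · intro b hb
      rw [Ideal.mem_comap, hmem]
      have h0 : b • n = 0 := by
        obtain ⟨v, hv, hvn⟩ := n.2
        obtain ⟨c, hc⟩ := Submodule.mem_span_singleton.mp hvn
        apply Subtype.ext
        show b • (n : M) = 0
        apply eq_zero_of_smul_eq_zero (V := V) hv
        have h2 : v • b • (n : M) = b • v • (n : M) := by
          rw [← algebraMap_smul B v, smul_comm, algebraMap_smul]
        rw [h2, ← hc, smul_comm, hq b hb, smul_zero]
      rw [h0]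
      exact zero_mem _
    · intro b hb
      rw [Ideal.mem_comap, Ideal.Quotient.eq_zero_iff_mem.mpr hb]
      exact P.zero_mem
  refine ⟨n, ?_, ?_⟩
  · intro b hb
    rw [← hPmax, Ideal.mem_comap, hmem, hsub] at hb
    exact Submodule.smul_mono le_rfl le_top hb
  · intro hn
    have h1 := hker _ n.2 hn
    have h2 : (Ideal.Quotient.mk J) 1 ∈ P := by
      rw [hmem, hsub]
      show (1 : B) • (n : M) ∈ _
      rw [one_smul]
      exact h1
    rw [map_one] at h2
    exact hPp.ne_top ((Ideal.eq_top_iff_one P).mpr h2)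

end core

end Groth.Agent.Flat2G.RelAssVal
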