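import Mathlib.RingTheory.Localization.BaseChange
import Mathlib.RingTheory.Flat.TorsionFree
import Mathlib.RingTheory.Flat.Localization
import Mathlib.RingTheory.Flat.Stability
import Mathlib.RingTheory.TensorProduct.MvPolynomial
import Mathlib.RingTheory.IsTensorProduct
import Mathlib.RingTheory.MvPolynomial.Localization

/-!
# Annihilators in base changes between domains
-/

set_option autoImplicit false
universe u

namespace Groth.Agent.Flat2G.RelAssVal

open TensorProduct

section

variable {R R' M : Type*} [CommRing R] [IsDomain R] [CommRing R'] [IsDomain R'] [Algebra R R']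
  [AddCommGroup M] [Module R M]

theorem flat_localizedModule_nonZeroDivisors :
    Module.Flat R (LocalizedModule (nonZeroDivisors R) M) := by
  let K := Localization (nonZeroDivisors R)
  let _ : Field K := IsFractionRing.toField R
  have : Module.Flat R K := IsLocalization.flat K (nonZeroDivisors R)
  exact Module.Flat.trans R K _

theorem eq_zero_of_tensor_smul_eq_zero (z : R' ⊗[R] M) (hz : ∀ r : R, r • z = 0 → r = 0) (p : R')
    (hp : p • z = 0) : p = 0 := by
  by_contra hp0
  let S := nonZeroDivisors R
  let g : M →ₗ[R] LocalizedModule S M := LocalizedModule.mkLinearMap S M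
  have hflat : Module.Flat R (LocalizedModule S M) := flat_localizedModule_nonZeroDivisors
  have hflat' : Module.Flat R' (R' ⊗[R] LocalizedModule S M) := inferInstance
  have h1 : p • (g.baseChange R' z) = 0 := by rw [← map_smul, hp, map_zero]
  have hreg : IsSMulRegular (R' ⊗[R] LocalizedModule S M) p :=
    Module.Flat.isSMulRegular_of_isRegular (IsRegular.of_ne_zero hp0)
  have h2 : g.baseChange R' z = 0 := hreg (by show p • _ = p • (0 : R' ⊗[R] LocalizedModule S M); rw [h1, smul_zero])
  have hloc : IsLocalizedModule S (AlgebraTensorModule.rTensor R R' g) := inferInstance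
  have h3 : AlgebraTensorModule.rTensor R R' g (TensorProduct.comm R R' M z) =
      TensorProduct.comm R R' _ (g.baseChange R' z) := by
    clear hz hp h1 h2
    induction z with
    | zero => simp
    | add x y hx hy => rw [map_add, map_add, map_add, map_add, hx, hy]
    | tmul a b => rfl
  rw [h2, map_zero] at h3
  obtain ⟨s, hs⟩ := (IsLocalizedModule.eq_zero_iff S (AlgebraTensorModule.rTensor R R' g)).mp h3
  have h4 : (s : R) • z = 0 := by
    have h5 : (s : R) • (TensorProduct.comm R R' M z) = 0 := hs
    rw [← map_smul] at h5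
    exact (TensorProduct.comm R R' M).map_eq_zero_iff.mp h5
  exact nonZeroDivisors.ne_zero s.2 (hz _ h4)

theorem eq_zero_of_isBaseChange_smul_eq_zero {M' : Type*} [AddCommGroup M'] [Module R' M'] [Module R M']
    [IsScalarTower R R' M'] (g : M →ₗ[R] M') (hg : IsBaseChange R' g)
    (z : M') (hz : ∀ r : R, r • z = 0 → r = 0) (p : R') (hp : p • z = 0) : p = 0 := by
  refine eq_zero_of_tensor_smul_eq_zero (R := R) (M := M) (hg.equiv.symm z) ?_ p ?_
  · intro r hr
    apply hz
    rw [← algebraMap_smul R' r, ← map_smul, algebraMap_smul] at hr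
    exact hg.equiv.symm.map_eq_zero_iff.mp hr
  · rw [← map_smul, hp, map_zero]

end

section quot

variable {R R' M M' : Type*} [CommRing R] [CommRing R'] [IsDomain R'] [Algebra R R']
  [AddCommGroup M] [Module R M] [AddCommGroup M'] [Module R' M'] [Module R M'] [IsScalarTower R R' M']

/-- If the annihilator of `z` in `R` dies in the domain `R'`, then the annihilator of `z` in `R'` is zero. -/
theorem eq_zero_of_isBaseChange_smul_eq_zero' (g : M →ₗ[R] M') (hg : IsBaseChange R' g)
    (z : M') (hz : ∀ r : R, r • z = 0 → algebraMap R R' r = 0) (p : R') (hp : p • z = 0) : p = 0 := by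
  let I : Ideal R := RingHom.ker (algebraMap R R')
  have hI : I.IsPrime := RingHom.ker_isPrime _
  let _ : Algebra (R ⧸ I) R' := (Ideal.Quotient.lift I (algebraMap R R') (fun a ha => ha)).toAlgebra
  have t1 : IsScalarTower R (R ⧸ I) R' := IsScalarTower.of_algebraMap_eq fun x => rfl
  let _ : Module (R ⧸ I) M' := Module.compHom M' (algebraMap (R ⧸ I) R')
  have t2 : IsScalarTower (R ⧸ I) R' M' := ⟨fun a b m => by
    rw [Algebra.smul_def, mul_smul]; rfl⟩
  have t3 : IsScalarTower R (R ⧸ I) M' := ⟨fun a b m => by
    obtain ⟨b, rfl⟩ := Ideal.Quotient.mk_surjective b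
    change (algebraMap (R ⧸ I) R' (a • Ideal.Quotient.mk I b)) • m =
      a • (algebraMap (R ⧸ I) R' (Ideal.Quotient.mk I b)) • m
    rw [Algebra.smul_def, map_mul, mul_smul, ← IsScalarTower.algebraMap_apply, algebraMap_smul]⟩
  have h1 : IsBaseChange (R ⧸ I) (TensorProduct.mk R (R ⧸ I) M 1) := TensorProduct.isBaseChange R M (R ⧸ I)
  let g' : (R ⧸ I) ⊗[R] M →ₗ[R ⧸ I] M' := h1.lift g
  have hg' : IsBaseChange R' g' := by
    apply IsBaseChange.of_comp h1
    rw [h1.lift_comp]
    exact hg
  refine eq_zero_of_isBaseChange_smul_eq_zero g' hg' z ?_ p hp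
  intro r hr
  obtain ⟨r, rfl⟩ := Ideal.Quotient.mk_surjective r
  rw [Ideal.Quotient.eq_zero_iff_mem]
  apply hz
  have h2 : (Ideal.Quotient.mk I r) • z = (algebraMap R R' r) • z := rfl
  rwa [h2, algebraMap_smul] at hr

end quot

section pushout

/-- Base change along one side of a pushout square. -/
theorem isBaseChange_of_isPushout {R R' B C M D : Type*} [CommRing R] [CommRing R'] [CommRing B] [CommRing C]
    [Algebra R R'] [Algebra R B] [Algebra R' C] [Algebra B C] [Algebra R C] [IsScalarTower R R' C]
    [IsScalarTower R B C] [Algebra.IsPushout R R' B C] [AddCommGroup M] [Module B M] [Module R M]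
    [IsScalarTower R B M] [AddCommGroup D] [Module C D] [Module B D] [IsScalarTower B C D]
    [Module R' D] [IsScalarTower R' C D] [Module R D] [IsScalarTower R R' D] [IsScalarTower R B D]
    (g : M →ₗ[B] D) (hg : IsBaseChange C g) : IsBaseChange R' (g.restrictScalars R) := by
  refine IsBaseChange.of_equiv ((Algebra.IsPushout.cancelBaseChange R R' B C M).symm ≪≫ₗ
    hg.equiv.restrictScalars R') ?_
  intro x
  simp

attribute [local instance] MvPolynomial.algebraMvPolynomial in
theorem algIndep_core {A L B C M D ι : Type*} [CommRing A] [CommRing L] [IsDomain L] [CommRing B] [CommRing C]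
    [Algebra A L] [Algebra A B] [Algebra L C] [Algebra B C] [Algebra A C] [IsScalarTower A L C]
    [IsScalarTower A B C] [hpush : Algebra.IsPushout A L B C] [AddCommGroup M] [Module B M] [AddCommGroup D]
    [Module C D] [Module B D] [IsScalarTower B C D] (g : M →ₗ[B] D) (hg : IsBaseChange C g)
    (t : ι → B) (z : D)
    (hz : ∀ r : MvPolynomial ι A, (MvPolynomial.aeval t r) • z = 0 → MvPolynomial.map (algebraMap A L) r = 0)
    (p : MvPolynomial ι L)
    (hp : (MvPolynomial.aeval (fun i => algebraMap B C (t i)) p : C) • z = 0) : p = 0 := by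
  let R := MvPolynomial ι A
  let R' := MvPolynomial ι L
  let φ : R →ₐ[A] B := MvPolynomial.aeval t
  let φ' : R' →ₐ[L] C := MvPolynomial.aeval (fun i => algebraMap B C (t i))
  let _ : Algebra R B := φ.toRingHom.toAlgebra
  let _ : Algebra R' C := φ'.toRingHom.toAlgebra
  let _ : Algebra R C := ((algebraMap B C).comp φ.toRingHom).toAlgebra
  have t1 : IsScalarTower R B C := IsScalarTower.of_algebraMap_eq fun x => rfl
  have t2 : IsScalarTower A R B := IsScalarTower.of_algebraMap_eq fun x => (φ.commutes x).symm
  have t3 : IsScalarTower L R' C := IsScalarTower.of_algebraMap_eq fun x => (φ'.commutes x).symm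
  have hcomm : (algebraMap B C).comp φ.toRingHom = φ'.toRingHom.comp (algebraMap R R') := by
    apply MvPolynomial.ringHom_ext
    · intro a
      have h1 : φ (MvPolynomial.C a) = algebraMap A B a := MvPolynomial.aeval_C _ _
      have h2 : algebraMap R R' (MvPolynomial.C a) = MvPolynomial.C (algebraMap A L a) := MvPolynomial.map_C _ _
      have h3 : φ' (MvPolynomial.C (algebraMap A L a)) = algebraMap L C (algebraMap A L a) :=
        MvPolynomial.aeval_C _ _
      change algebraMap B C (φ (MvPolynomial.C a)) = φ' (algebraMap R R' (MvPolynomial.C a))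
      rw [h1, h2, h3, ← IsScalarTower.algebraMap_apply, ← IsScalarTower.algebraMap_apply]
    · intro i
      have h1 : φ (MvPolynomial.X i) = t i := MvPolynomial.aeval_X _ _
      have h2 : algebraMap R R' (MvPolynomial.X i) = MvPolynomial.X i := MvPolynomial.map_X _ _
      have h3 : φ' (MvPolynomial.X i) = algebraMap B C (t i) := MvPolynomial.aeval_X _ _
      change algebraMap B C (φ (MvPolynomial.X i)) = φ' (algebraMap R R' (MvPolynomial.X i))
      rw [h1, h2, h3]
  have t4 : IsScalarTower R R' C := IsScalarTower.of_algebraMap_eq fun x => DFunLike.congr_fun hcomm x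
  have t5 : IsScalarTower A R C := IsScalarTower.of_algebraMap_eq fun x => by
    rw [IsScalarTower.algebraMap_apply A B C, IsScalarTower.algebraMap_apply A R B,
      ← IsScalarTower.algebraMap_apply R B C]
  have t6 : IsScalarTower A R' C := IsScalarTower.of_algebraMap_eq fun x => by
    rw [IsScalarTower.algebraMap_apply A L R', ← IsScalarTower.algebraMap_apply L R' C,
      ← IsScalarTower.algebraMap_apply A L C]
  have hp1 : Algebra.IsPushout A L R R' := inferInstance
  have hp2 : Algebra.IsPushout A R L R' := hp1.symm
  have hp3 : Algebra.IsPushout R R' B C := by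
    have h1 : Algebra.IsPushout A B L C := hpush.symm
    exact ((Algebra.IsPushout.comp_iff A R L R').mp h1).symm
  let _ : Module R M := Module.compHom M φ.toRingHom
  have m1 : IsScalarTower R B M := ⟨fun a b m => by rw [Algebra.smul_def, mul_smul]; rfl⟩
  let _ : Module R' D := Module.compHom D φ'.toRingHom
  have m2 : IsScalarTower R' C D := ⟨fun a b m => by rw [Algebra.smul_def, mul_smul]; rfl⟩
  let _ : Module R D := Module.compHom D φ.toRingHom
  have m3 : IsScalarTower R B D := ⟨fun a b m => by rw [Algebra.smul_def, mul_smul]; rfl⟩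
  have m4 : IsScalarTower R R' D := ⟨fun a b m => by
    change (φ' (a • b)) • m = (φ a) • (φ' b) • m
    rw [Algebra.smul_def, map_mul, mul_smul, ← algebraMap_smul C (φ a)]
    congr 1
    exact (DFunLike.congr_fun hcomm a).symm⟩
  have hgb : IsBaseChange R' (g.restrictScalars R) := isBaseChange_of_isPushout g hg
  exact eq_zero_of_isBaseChange_smul_eq_zero' (g.restrictScalars R) hgb z (fun r hr => hz r hr) p hp

end pushout

end Groth.Agent.Flat2G.RelAssVal
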