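import Groth.Agent.Flat2G.GenericAss
import Groth.Agent.Flat2A.FiberEquiv
import Mathlib.RingTheory.Ideal.AssociatedPrime.Localization
import Mathlib.RingTheory.Localization.BaseChange

/-!
# The elementwise condition `RA` and associated primes of fibre modules
-/

set_option autoImplicit false
universe u

namespace Groth.Agent.Flat2G.RelAssVal

open TensorProduct GenericAss Flat2A.Fiber Flat2A.FiberAss Flat2A.FiberEquiv

section base

variable {A M : Type u} [CommRing A] [AddCommGroup M] [Module A M] (p : Ideal A) [p.IsPrime]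

/-- the map `A ⧸ p → κ(p)` as a localization of `A`-modules. -/
noncomputable def toRes : (A ⧸ p) →ₗ[A] p.ResidueField :=
  (IsScalarTower.toAlgHom A (A ⧸ p) p.ResidueField).toLinearMap

theorem toRes_apply (x : A ⧸ p) : toRes p x = algebraMap (A ⧸ p) p.ResidueField x := rfl

instance : IsLocalizedModule p.primeCompl (toRes p) := by
  refine ⟨fun s => ?_, fun y => ?_, fun {x y} h => ?_⟩
  · have hs : algebraMap A p.ResidueField s ≠ 0 := by
      intro h
      exact s.2 (Ideal.algebraMap_residueField_eq_zero.mp h)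
    rw [Module.End.isUnit_iff]
    constructor
    · intro x y hxy
      have h1 : algebraMap A p.ResidueField s * x = algebraMap A p.ResidueField s * y := by
        have h2 : (s : A) • x = (s : A) • y := hxy
        rwa [Algebra.smul_def, Algebra.smul_def] at h2
      exact mul_left_cancel₀ hs h1
    · intro x
      refine ⟨(algebraMap A p.ResidueField s)⁻¹ * x, ?_⟩
      change (s : A) • ((algebraMap A p.ResidueField s)⁻¹ * x) = x
      rw [Algebra.smul_def, mul_inv_cancel_left₀ hs]
  · obtain ⟨a, b, hb, rfl⟩ := IsFractionRing.div_surjective (A := A ⧸ p) y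
    obtain ⟨b, rfl⟩ := Ideal.Quotient.mk_surjective b
    have hbp : b ∉ p := by
      intro h
      exact nonZeroDivisors.ne_zero hb (Ideal.Quotient.eq_zero_iff_mem.mpr h)
    refine ⟨⟨a, ⟨b, hbp⟩⟩, ?_⟩
    change b • (algebraMap (A ⧸ p) p.ResidueField a / algebraMap (A ⧸ p) p.ResidueField (Ideal.Quotient.mk p b)) =
      toRes p a
    have hb0 : algebraMap (A ⧸ p) p.ResidueField (Ideal.Quotient.mk p b) ≠ 0 := by
      intro h
      exact nonZeroDivisors.ne_zero hb ((injective_iff_map_eq_zero _).mp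
        (IsFractionRing.injective (A ⧸ p) p.ResidueField) _ h)
    rw [Algebra.smul_def, toRes_apply]
    have : algebraMap A p.ResidueField b = algebraMap (A ⧸ p) p.ResidueField (Ideal.Quotient.mk p b) := rfl
    rw [this, mul_div_cancel₀ _ hb0]
  · refine ⟨1, ?_⟩
    rw [one_smul, one_smul]
    exact IsFractionRing.injective (A ⧸ p) p.ResidueField h

theorem exists_smul_mem_of_tmul_eq_zero (m : M) (h : m ⊗ₜ[A] (1 : p.ResidueField) = 0) :
    ∃ a ∉ p, a • m ∈ p • (⊤ : Submodule A M) := by
  have h1 : (AlgebraTensorModule.rTensor A M (toRes p)) ((1 : A ⧸ p) ⊗ₜ[A] m) = 0 := by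
    rw [AlgebraTensorModule.rTensor_tmul, toRes_apply, map_one]
    have := congrArg (TensorProduct.comm A M p.ResidueField) h
    rwa [map_zero, TensorProduct.comm_tmul] at this
  obtain ⟨c, hc⟩ := (IsLocalizedModule.eq_zero_iff p.primeCompl
    (AlgebraTensorModule.rTensor A M (toRes p))).mp h1
  refine ⟨c, c.2, ?_⟩
  have hc' : (c : A) • ((1 : A ⧸ p) ⊗ₜ[A] m) = 0 := hc
  rw [← TensorProduct.tmul_smul] at hc'
  have h2 := congrArg (TensorProduct.quotTensorEquivQuotSMul M p) hc'
  rw [map_zero] at h2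
  have h3 := TensorProduct.quotTensorEquivQuotSMul_mk_tmul (M := M) p (1 : A) ((c : A) • m)
  rw [one_smul] at h3
  have h4 : (Submodule.Quotient.mk ((c : A) • m) : M ⧸ p • (⊤ : Submodule A M)) = 0 := h3.symm.trans h2
  exact (Submodule.Quotient.mk_eq_zero _).mp h4

theorem exists_smul_eq_tmul (z : M ⊗[A] p.ResidueField) :
    ∃ a ∉ p, ∃ m : M, a • z = m ⊗ₜ[A] (1 : p.ResidueField) := by
  obtain ⟨⟨w, c⟩, hw⟩ := IsLocalizedModule.surj p.primeCompl (AlgebraTensorModule.rTensor A M (toRes p))
    (TensorProduct.comm A M p.ResidueField z)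
  have hm : ∃ m : M, w = (1 : A ⧸ p) ⊗ₜ[A] m := by
    clear hw
    induction w with
    | zero => exact ⟨0, by simp⟩
    | add x y hx hy =>
      obtain ⟨m, rfl⟩ := hx
      obtain ⟨m', rfl⟩ := hy
      exact ⟨m + m', by rw [TensorProduct.tmul_add]⟩
    | tmul a m =>
      obtain ⟨a, rfl⟩ := Ideal.Quotient.mk_surjective a
      refine ⟨a • m, ?_⟩
      rw [← TensorProduct.smul_tmul]
      congr 1
      rw [Algebra.smul_def, mul_one]
      rfl
  obtain ⟨m, rfl⟩ := hm
  refine ⟨c, c.2, m, ?_⟩
  have hw' : (c : A) • (TensorProduct.comm A M p.ResidueField z) =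
      (AlgebraTensorModule.rTensor A M (toRes p)) ((1 : A ⧸ p) ⊗ₜ[A] m) := hw
  rw [AlgebraTensorModule.rTensor_tmul, toRes_apply, map_one, ← map_smul] at hw'
  apply (TensorProduct.comm A M p.ResidueField).injective
  rw [hw', TensorProduct.comm_tmul]

theorem tmul_eq_zero_of_mem (m : M) (h : m ∈ p • (⊤ : Submodule A M)) : m ⊗ₜ[A] (1 : p.ResidueField) = 0 := by
  refine Submodule.smul_induction_on h ?_ ?_
  · intro r hr n _
    rw [TensorProduct.smul_tmul, Algebra.smul_def, Ideal.algebraMap_residueField_eq_zero.mpr hr, zero_mul,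
      TensorProduct.tmul_zero]
  · intro x y hx hy
    rw [TensorProduct.add_tmul, hx, hy, add_zero]

theorem smul_eq_zero_iff_of_not_mem {a : A} (ha : a ∉ p) (z : M ⊗[A] p.ResidueField) : a • z = 0 ↔ z = 0 := by
  refine ⟨fun h => ?_, fun h => by rw [h, smul_zero]⟩
  have ha' : algebraMap A p.ResidueField a ≠ 0 := fun h => ha (Ideal.algebraMap_residueField_eq_zero.mp h)
  let f : (M ⊗[A] p.ResidueField) →ₗ[A] (M ⊗[A] p.ResidueField) :=
    (LinearMap.mulLeft A ((algebraMap A p.ResidueField a)⁻¹)).lTensor M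
  have h1 : f (a • z) = z := by
    clear h
    induction z with
    | zero => simp
    | add x y hx hy => rw [smul_add, map_add, hx, hy]
    | tmul m c =>
      rw [← TensorProduct.tmul_smul, LinearMap.lTensor_tmul, LinearMap.mulLeft_apply, Algebra.smul_def,
        inv_mul_cancel_left₀ ha']
  rw [← h1, h, map_zero]

end base

section fibre

variable {A B M : Type u} [CommRing A] [CommRing B] [Algebra A B] [AddCommGroup M] [Module A M] [Module B M]
  [IsScalarTower A B M] (p : Ideal A) [p.IsPrime]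

theorem mem_smul_top_iff (I : Ideal A) (m : M) :
    m ∈ (I.map (algebraMap A B)) • (⊤ : Submodule B M) ↔ m ∈ I • (⊤ : Submodule A M) := by
  have h := Ideal.smul_restrictScalars (R := A) (S := B) (M := M) I ⊤
  rw [Submodule.restrictScalars_top] at h
  rw [← h]
  rfl

/-- An associated prime of the fibre module satisfies the condition `RA`. -/
theorem ra_of_mem_associatedPrimes (q : Ideal B) (h : q ∈ associatedPrimes B (FlatCA.fiberMod p B M)) :
    RA (p.map (algebraMap A B)) q M := by
  obtain ⟨hq, hqp, hq'⟩ := (mem_associatedPrimes_fiberMod_iff p M q).mp h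
  obtain ⟨z, hz⟩ := exists_radical_annihilator p M q hq'
  obtain ⟨a, ha, m, hm⟩ := exists_smul_eq_tmul p z
  have haq : ∀ c ∉ p, algebraMap A B c ∉ q := fun c hc h => hc (by
    rw [hqp.over]; exact h)
  refine ⟨m, ?_, ?_⟩
  · intro b hb
    obtain ⟨n, hn⟩ := (hz b).mp hb
    have h1 : (b ^ n • m) ⊗ₜ[A] (1 : p.ResidueField) = 0 := by
      have h2 : b ^ n • (m ⊗ₜ[A] (1 : p.ResidueField)) = 0 := by
        rw [← hm, smul_comm, hn, smul_zero]
      exact h2
    obtain ⟨c, hc, hc'⟩ := exists_smul_mem_of_tmul_eq_zero p _ h1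
    refine ⟨n, algebraMap A B c, haq c hc, ?_⟩
    rw [mem_smul_top_iff, mul_smul, algebraMap_smul]
    exact hc'
  · intro t ht hmem
    rw [mem_smul_top_iff] at hmem
    have h1 := tmul_eq_zero_of_mem p _ hmem
    have h2 : t • (m ⊗ₜ[A] (1 : p.ResidueField)) = 0 := h1
    rw [← hm, smul_comm, smul_eq_zero_iff_of_not_mem p ha] at h2
    exact ht ((hz t).mpr ⟨1, by rw [pow_one]; exact h2⟩)

/-- The condition `RA` gives an associated prime of the fibre module. -/
theorem mem_associatedPrimes_of_ra [IsNoetherianRing (p.Fiber B)] (q : Ideal B) [hq : q.IsPrime] [hqp : q.LiesOver p]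
    (h : RA (p.map (algebraMap A B)) q M) :
    q ∈ associatedPrimes B (FlatCA.fiberMod p B M) := by
  obtain ⟨m, h1, h2⟩ := h
  rw [mem_associatedPrimes_fiberMod_iff]
  refine ⟨hq, hqp, ?_⟩
  let x : FlatCA.fiberMod p B M := FlatCA.toFiberMod p B M m
  have hzero : ∀ b : B, b • x = 0 ↔ (b • m) ⊗ₜ[A] (1 : p.ResidueField) = 0 := by
    intro b
    rw [← (fiberModEquiv B p M).map_eq_zero_iff, map_smul]
    rw [fiberModEquiv_toFiberMod]
    exact Iff.rfl
  have haq : ∀ c ∉ p, algebraMap A B c ∉ q := fun c hc h => hc (by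
    rw [hqp.over]; exact h)
  let E : Submodule (p.Fiber B) (FlatCA.fiberMod p B M) := Submodule.span _ {x}
  have hprime : (FlatCA.fiberIdeal p q).IsPrime := fiberIdeal_isPrime p q
  have key : FlatCA.fiberIdeal p q ∈ (Module.annihilator (p.Fiber B) E).minimalPrimes := by
    have hann : ∀ c : p.Fiber B, c ∈ Module.annihilator (p.Fiber B) E ↔ c • x = 0 := by
      intro c
      exact Submodule.mem_annihilator_span_singleton x c
    have hscale : ∀ c : p.Fiber B, ∃ r : p.ResidueField, ∃ b : B, r ≠ 0 ∧ r • c = (1 : p.ResidueField) ⊗ₜ[A] b :=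
      fun c => exists_smul_eq p c
    have hmemscale : ∀ (Q : Ideal (p.Fiber B)) (c : p.Fiber B) (r : p.ResidueField) (_ : r ≠ 0),
        c ∈ Q ↔ r • c ∈ Q := by
      intro Q c r hr
      refine ⟨fun h => Submodule.smul_of_tower_mem Q r h, fun h => ?_⟩
      have := Submodule.smul_of_tower_mem Q r⁻¹ h
      rwa [smul_smul, inv_mul_cancel₀ hr, one_smul] at this
    refine ⟨⟨hprime, ?_⟩, ?_⟩
    · intro c hc
      rw [hann] at hc
      obtain ⟨r, b, hr, hb⟩ := hscale c
      rw [hmemscale _ c r hr, hb, one_tmul_mem_fiberIdeal_iff]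
      have h3 : b • x = 0 := by
        rw [smul_fiberMod]
        change ((1 : p.ResidueField) ⊗ₜ[A] b : p.Fiber B) • x = 0
        rw [← hb, Algebra.smul_def, mul_smul, hc, smul_zero]
      rw [hzero] at h3
      obtain ⟨c', hc', hc''⟩ := exists_smul_mem_of_tmul_eq_zero p _ h3
      by_contra hbq
      refine h2 (algebraMap A B c' * b) (fun h => (hq.mem_or_mem h).elim (haq c' hc') hbq) ?_
      rw [mem_smul_top_iff, mul_smul, algebraMap_smul]
      exact hc''
    · rintro Q ⟨hQ, hJQ⟩ hQq c hc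
      obtain ⟨r, b, hr, hb⟩ := hscale c
      rw [hmemscale _ c r hr, hb]
      rw [hmemscale _ c r hr, hb, one_tmul_mem_fiberIdeal_iff] at hc
      obtain ⟨n, s, hs, hsn⟩ := h1 b hc
      rw [mem_smul_top_iff] at hsn
      have h3 : (s * b ^ n) • x = 0 := (hzero _).mpr (tmul_eq_zero_of_mem p _ hsn)
      have h4 : (1 : p.ResidueField) ⊗ₜ[A] (s * b ^ n) ∈ Q := by
        apply hJQ
        rw [hann]
        rw [smul_fiberMod] at h3
        exact h3
      have h5 : ((1 : p.ResidueField) ⊗ₜ[A] (s * b ^ n) : p.Fiber B) =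
          ((1 : p.ResidueField) ⊗ₜ[A] s) * ((1 : p.ResidueField) ⊗ₜ[A] b) ^ n := by
        rw [Algebra.TensorProduct.tmul_pow, one_pow, Algebra.TensorProduct.tmul_mul_tmul, one_mul]
      rw [h5] at h4
      rcases hQ.mem_or_mem h4 with h6 | h6
      · exact absurd ((one_tmul_mem_fiberIdeal_iff p q s).mp (hQq h6)) hs
      · exact hQ.mem_of_pow_mem _ h6
  have hfin : Module.Finite (p.Fiber B) E := Module.Finite.span_singleton _ x
  have h3 := Module.associatedPrimes.minimalPrimes_annihilator_subset_associatedPrimes (p.Fiber B) E key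
  exact associatedPrimes.subset_of_injective E.injective_subtype h3

end fibre

end Groth.Agent.Flat2G.RelAssVal
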