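import Groth.Agent.Flat2G.RelAssVal2
import Groth.Agent.Flat2G.RelAssVal3
import Mathlib.RingTheory.Valuation.ValuationRing
import Mathlib.RingTheory.MvPolynomial.Basic
import Mathlib.RingTheory.LocalRing.ResidueField.Ideal

/-!
# Algebraic independence along a valuation ring
-/

set_option autoImplicit false
universe u

namespace Groth.Agent.Flat2G.RelAssVal

open TensorProduct GenericAss Flat2A.Fiber Flat2A.FiberAss Flat2A.FiberEquiv

section content

variable {V : Type*} [CommRing V] [IsDomain V] [ValuationRing V]

theorem exists_dvd_all {σ : Type*} (s : Finset σ) (hs : s.Nonempty) (f : σ → V) :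
    ∃ i ∈ s, ∀ j ∈ s, f i ∣ f j := by
  classical
  induction hs using Finset.Nonempty.cons_induction with
  | singleton a => exact ⟨a, by simp, by simp⟩
  | cons a s ha hs ih =>
    obtain ⟨i, hi, h⟩ := ih
    rcases ValuationRing.dvd_total (f a) (f i) with h1 | h1
    · refine ⟨a, by simp, fun j hj => ?_⟩
      rw [Finset.mem_cons] at hj
      rcases hj with rfl | hj
      · exact dvd_rfl
      · exact h1.trans (h j hj)
    · refine ⟨i, by simp [hi], fun j hj => ?_⟩
      rw [Finset.mem_cons] at hj
      rcases hj with rfl | hj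
      · exact h1
      · exact h j hj

theorem exists_primitive {ι : Type*} (P : MvPolynomial ι V) (hP : P ≠ 0) :
    ∃ c : V, c ≠ 0 ∧ ∃ Q : MvPolynomial ι V, P = MvPolynomial.C c * Q ∧ ∃ m, MvPolynomial.coeff m Q = 1 := by
  obtain ⟨m, hm, h⟩ := exists_dvd_all P.support (MvPolynomial.support_nonempty.mpr hP)
    (fun m => MvPolynomial.coeff m P)
  have hc : MvPolynomial.coeff m P ≠ 0 := MvPolynomial.mem_support_iff.mp hm
  have hdvd : MvPolynomial.C (MvPolynomial.coeff m P) ∣ P := by
    rw [MvPolynomial.C_dvd_iff_dvd_coeff]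
    intro j
    by_cases hj : j ∈ P.support
    · exact h j hj
    · rw [MvPolynomial.notMem_support_iff.mp hj]
      exact dvd_zero _
  obtain ⟨Q, hQ⟩ := hdvd
  refine ⟨_, hc, Q, hQ, m, ?_⟩
  have h1 := congrArg (MvPolynomial.coeff m) hQ
  rw [MvPolynomial.coeff_C_mul] at h1
  exact (mul_left_cancel₀ hc (by rw [mul_one]; exact h1)).symm

end content

attribute [local instance] Algebra.TensorProduct.rightAlgebra

/-- Algebraic independence of residue classes passes from a specialization to a generization, through a
relatively associated prime over a valuation ring. -/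
theorem algIndep_step {A B V C M N : Type u} [CommRing A] [CommRing B] [CommRing V] [IsDomain V] [ValuationRing V]
    [CommRing C] [Algebra A B] [Algebra A V] [Algebra V C] [Algebra B C] [Algebra A C] [IsScalarTower A V C]
    [IsScalarTower A B C] [Algebra.IsPushout A V B C] [AddCommGroup M] [Module B M]
    [AddCommGroup N] [Module C N] [Module B N] [IsScalarTower B C N] [Module V N] [IsScalarTower V C N]
    (g : M →ₗ[B] N) (hg : IsBaseChange C g) [IsNoetherianRing ((IsLocalRing.maximalIdeal V).Fiber C)]
    (q' x' : Ideal C) [q'.IsPrime] [x'.IsPrime] (hle : q' ≤ x') (hq' : q'.comap (algebraMap V C) = ⊥)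
    (hx' : x' ∈ associatedPrimes C (FlatCA.fiberMod (IsLocalRing.maximalIdeal V) C N))
    {ι : Type*} (t : ι → B)
    (ht : ∀ r : MvPolynomial ι A, algebraMap B C (MvPolynomial.aeval t r) ∈ x' →
      MvPolynomial.map (algebraMap A (IsLocalRing.maximalIdeal V).ResidueField) r = 0)
    (r : MvPolynomial ι A) (hr : algebraMap B C (MvPolynomial.aeval t r) ∈ q') :
    MvPolynomial.map (algebraMap A V) r = 0 := by
  by_contra hne
  let 𝔪 := IsLocalRing.maximalIdeal V
  let κ := 𝔪.ResidueField
  let F := 𝔪.Fiber C
  obtain ⟨c, hc, Q, hQ, m, hm⟩ := exists_primitive _ hne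
  obtain ⟨h1, h2, h3⟩ := (mem_associatedPrimes_fiberMod_iff 𝔪 N x').mp hx'
  obtain ⟨h4, y, hy⟩ := isAssociatedPrime_iff.mp h3
  have hyC : ∀ s : C, s ∈ x' ↔ s • y = 0 := by
    intro s
    rw [← one_tmul_mem_fiberIdeal_iff 𝔪 x', hy, Submodule.mem_colon_singleton, Submodule.mem_bot, smul_fiberMod]
    exact Iff.rfl
  -- the evaluation of `Q` lies in `q'`
  have hev : algebraMap B C (MvPolynomial.aeval t r) =
      algebraMap V C c * MvPolynomial.aeval (fun i => algebraMap B C (t i)) Q := by
    have h5 : algebraMap B C (MvPolynomial.aeval t r) =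
        MvPolynomial.aeval (fun i => algebraMap B C (t i)) (MvPolynomial.map (algebraMap A V) r) := by
      rw [MvPolynomial.aeval_map_algebraMap]
      exact (MvPolynomial.aeval_algebraMap_apply C t r).symm
    rw [h5, hQ, map_mul, MvPolynomial.aeval_C]
  have hQx : MvPolynomial.aeval (fun i => algebraMap B C (t i)) Q ∈ x' := by
    apply hle
    rw [hev] at hr
    refine ((inferInstance : q'.IsPrime).mem_or_mem hr).resolve_left fun h => hc ?_
    have h5 : c ∈ q'.comap (algebraMap V C) := h
    rw [hq'] at h5
    exact h5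
  -- the fibre ring as a pushout
  let _ : Algebra B F := ((algebraMap C F).comp (algebraMap B C)).toAlgebra
  have s1 : IsScalarTower B C F := IsScalarTower.of_algebraMap_eq fun x => rfl
  have s2 : IsScalarTower A C F := IsScalarTower.of_algebraMap_eq fun x => by
    rw [IsScalarTower.algebraMap_apply A V C, ← IsScalarTower.algebraMap_apply V C F]
    rfl
  have s3 : IsScalarTower A B F := IsScalarTower.of_algebraMap_eq fun x => by
    rw [IsScalarTower.algebraMap_apply B C F, ← IsScalarTower.algebraMap_apply A B C,
      IsScalarTower.algebraMap_apply A C F]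
  have s4 : IsScalarTower A κ F := inferInstance
  have hp1 : Algebra.IsPushout V κ C F := inferInstance
  have hp2 : Algebra.IsPushout A κ B F := (Algebra.IsPushout.comp_iff A V B C).mpr hp1
  let D := F ⊗[C] N
  have hg2 : IsBaseChange F ((TensorProduct.mk C F N 1).restrictScalars B ∘ₗ g) :=
    IsBaseChange.comp hg (TensorProduct.isBaseChange C N F)
  let z : D := y
  have hz0 : MvPolynomial.map (algebraMap V κ) Q = 0 := by
    refine algIndep_core (A := A) (L := κ) (B := B) (C := F) (M := M) (D := D) _ hg2 t z ?_ _ ?_
    · intro r' hr'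
      apply ht
      rw [hyC]
      have h5 : (MvPolynomial.aeval t r' : B) • z = (algebraMap B C (MvPolynomial.aeval t r')) • z := by
        rw [algebraMap_smul]
      rw [h5] at hr'
      exact hr'
    · have h5 : MvPolynomial.aeval (fun i => algebraMap B F (t i)) (MvPolynomial.map (algebraMap V κ) Q) =
          algebraMap C F (MvPolynomial.aeval (fun i => algebraMap B C (t i)) Q) := by
        rw [MvPolynomial.aeval_map_algebraMap]
        exact MvPolynomial.aeval_algebraMap_apply F (fun i => algebraMap B C (t i)) Q
      rw [h5, algebraMap_smul]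
      exact (hyC _).mp hQx
  have h6 := congrArg (MvPolynomial.coeff m) hz0
  rw [MvPolynomial.coeff_map, hm, map_one, MvPolynomial.coeff_zero] at h6
  exact one_ne_zero h6

end Groth.Agent.Flat2G.RelAssVal
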