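import Groth.Agent.Flat2G.RelAssVal2
import Groth.Agent.Flat2C.FlatAtCriterion
import Mathlib.Algebra.Module.LocalizedModule.Basic

/-!
# Flatness at a prime under arbitrary base change
-/

set_option autoImplicit false
universe u

namespace Groth.Agent.Flat2G.RelAssVal

open TensorProduct

theorem isLocalizedModule_baseChange {B C M M' : Type*} [CommRing B] [CommRing C] [Algebra B C]
    [AddCommGroup M] [Module B M] [AddCommGroup M'] [Module B M'] (S : Submonoid B) (f : M →ₗ[B] M')
    [IsLocalizedModule S f] : IsLocalizedModule (Algebra.algebraMapSubmonoid C S) (f.baseChange C) := by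
  have h1 : IsLocalizedModule S (AlgebraTensorModule.rTensor B C f) := inferInstance
  have h2 : IsLocalizedModule S ((TensorProduct.comm B M' C).toLinearMap ∘ₗ
      (AlgebraTensorModule.rTensor B C f) ∘ₗ (TensorProduct.comm B C M).toLinearMap) := by
    have h3 := IsLocalizedModule.of_linearEquiv_right S (AlgebraTensorModule.rTensor B C f)
      (TensorProduct.comm B C M)
    exact IsLocalizedModule.of_linearEquiv S _ (TensorProduct.comm B M' C)
  have h3 : (f.baseChange C).restrictScalars B = (TensorProduct.comm B M' C).toLinearMap ∘ₗ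
      (AlgebraTensorModule.rTensor B C f) ∘ₗ (TensorProduct.comm B C M).toLinearMap := by
    ext c m
    rfl
  have h4 : IsLocalizedModule S ((f.baseChange C).restrictScalars B) := by rw [h3]; exact h2
  exact IsLocalizedModule.of_restrictScalars S (f.baseChange C)

theorem flatAt_of_isBaseChange {A B V C M N : Type u} [CommRing A] [CommRing B] [CommRing V]
    [CommRing C] [Algebra A B] [Algebra A V] [Algebra V C] [Algebra B C] [Algebra A C] [IsScalarTower A V C]
    [IsScalarTower A B C] [Algebra.IsPushout A V B C] [AddCommGroup M] [Module B M] [Module A M]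
    [IsScalarTower A B M]
    [AddCommGroup N] [Module C N] [Module B N] [IsScalarTower B C N] [Module V N] [IsScalarTower V C N]
    (g : M →ₗ[B] N) (hg : IsBaseChange C g) (q : Ideal B) [q.IsPrime] (Q : Ideal C) [Q.IsPrime]
    (hQ : Q.comap (algebraMap B C) = q) (h : FlatCA.FlatAt A q M) : FlatCA.FlatAt V Q N := by
  let M' := LocalizedModule q.primeCompl M
  have hM' : Module.Flat A M' := h
  let N' := C ⊗[B] M'
  have t1 : IsScalarTower A V N' := IsScalarTower.of_algebraMap_smul fun a x => by
    rw [← algebraMap_smul C (algebraMap A V a), ← algebraMap_smul C a, ← IsScalarTower.algebraMap_apply A V C]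
  have t2 : IsScalarTower A B N' := IsScalarTower.of_algebraMap_smul fun a x => by
    rw [← algebraMap_smul C (algebraMap A B a), ← algebraMap_smul C a, ← IsScalarTower.algebraMap_apply A B C]
  have hbc : IsBaseChange C (TensorProduct.mk B C M' 1) := TensorProduct.isBaseChange B M' C
  have hbV : IsBaseChange V ((TensorProduct.mk B C M' 1).restrictScalars A) :=
    isBaseChange_of_isPushout _ hbc
  have hflat : Module.Flat V N' := Module.Flat.isBaseChange A V M' N' hbV
  let f : M →ₗ[B] M' := LocalizedModule.mkLinearMap q.primeCompl M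
  have hloc : IsLocalizedModule (Algebra.algebraMapSubmonoid C q.primeCompl) (f.baseChange C) :=
    isLocalizedModule_baseChange q.primeCompl f
  let φ : N →ₗ[C] N' := (f.baseChange C) ∘ₗ hg.equiv.symm.toLinearMap
  have hφ : IsLocalizedModule (Algebra.algebraMapSubmonoid C q.primeCompl) φ :=
    IsLocalizedModule.of_linearEquiv_right _ (f.baseChange C) hg.equiv.symm
  rw [Flat2C.FlatAtCriterion.flatAt_iff]
  rw [Flat2C.FlatAtCriterion.flat_isLocalizedModule_iff (Algebra.algebraMapSubmonoid C q.primeCompl) φ] at hflat
  intro I x hx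
  obtain ⟨_, ⟨t, ht, rfl⟩, h'⟩ := hflat I x hx
  refine ⟨algebraMap B C t, fun hmem => ht ?_, h'⟩
  rw [← hQ]
  exact hmem

end Groth.Agent.Flat2G.RelAssVal
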