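import Groth.Agent.Flat2G.RelAssVal1
import Groth.Agent.Flat2G.RelAssVal4
import Groth.Agent.Flat2G.RelAssVal5
import Groth.Agent.Flat2G.RelAssAlg
import Groth.Agent.Flat2B.RelAss

/-!
# The specialization step through a valuation ring
-/

set_option autoImplicit false
universe u

namespace Groth.Agent.Flat2G.RelAssVal

open TensorProduct GenericAss Flat2A.Fiber Flat2A.FiberAss Flat2A.FiberEquiv

attribute [local instance] Algebra.TensorProduct.rightAlgebra

theorem isIntegral_residueFieldMap {A V : Type u} [CommRing A] [CommRing V] [IsDomain V] [Algebra A V]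
    (p : Ideal A) [p.IsPrime] [hp : (⊥ : Ideal V).LiesOver p]
    (hfrac : ∀ v : V, ∃ a : A, algebraMap A V a ≠ 0 ∧ ∃ c : A, algebraMap A V a * v = algebraMap A V c) :
    (Ideal.ResidueField.mapₐ p (⊥ : Ideal V) (Algebra.ofId A V) hp.over).toRingHom.IsIntegral := by
  let φ := Ideal.ResidueField.mapₐ p (⊥ : Ideal V) (Algebra.ofId A V) hp.over
  have hA : ∀ a : A, φ (algebraMap A p.ResidueField a) = algebraMap V (⊥ : Ideal V).ResidueField (algebraMap A V a) := by
    intro a
    rw [AlgHom.commutes, IsScalarTower.algebraMap_apply A V (⊥ : Ideal V).ResidueField]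
  have hinj : ∀ v : V, v ≠ 0 → algebraMap V (⊥ : Ideal V).ResidueField v ≠ 0 := by
    intro v hv h
    exact hv (by simpa using Ideal.algebraMap_residueField_eq_zero.mp h)
  have hV : ∀ v : V, ∃ y, φ y = algebraMap V (⊥ : Ideal V).ResidueField v := by
    intro v
    obtain ⟨a, ha, c, hc⟩ := hfrac v
    refine ⟨algebraMap A p.ResidueField c / algebraMap A p.ResidueField a, ?_⟩
    rw [map_div₀, hA, hA, ← hc, map_mul, mul_div_cancel_left₀]
    exact hinj _ ha
  apply RingHom.isIntegral_of_surjective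
  intro y
  obtain ⟨v, w, hw, rfl⟩ := IsFractionRing.div_surjective (A := V ⧸ (⊥ : Ideal V)) y
  obtain ⟨v, rfl⟩ := Ideal.Quotient.mk_surjective v
  obtain ⟨w, rfl⟩ := Ideal.Quotient.mk_surjective w
  obtain ⟨y₁, h1⟩ := hV v
  obtain ⟨y₂, h2⟩ := hV w
  refine ⟨y₁ / y₂, ?_⟩
  change φ (y₁ / y₂) = _
  rw [map_div₀, h1, h2]
  rfl

theorem isAssociatedPrime_of_mem {C' N' : Type u} [CommRing C'] [IsLocalRing C'] [AddCommGroup N'] [Module C' N']
    (I : Ideal C') (n : N') (hn1 : ∀ b ∈ IsLocalRing.maximalIdeal C', b • n ∈ I • (⊤ : Submodule C' N'))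
    (hn2 : n ∉ I • (⊤ : Submodule C' N')) :
    IsAssociatedPrime (IsLocalRing.maximalIdeal C') (N' ⧸ (I • (⊤ : Submodule C' N'))) := by
  rw [IsAssociatedPrime, Submodule.isAssociatedPrime_def]
  refine ⟨(IsLocalRing.maximalIdeal.isMaximal C').isPrime, Submodule.Quotient.mk n, ?_⟩
  have hcol : ∀ β : C', β ∈ (⊥ : Submodule C' (N' ⧸ (I • (⊤ : Submodule C' N')))).colon
      {(Submodule.Quotient.mk n : N' ⧸ (I • (⊤ : Submodule C' N')))} ↔
      β • n ∈ I • (⊤ : Submodule C' N') := by
    intro β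
    rw [Submodule.mem_colon_singleton, Submodule.mem_bot, ← Submodule.Quotient.mk_smul,
      Submodule.Quotient.mk_eq_zero]
  apply le_antisymm
  · intro β hβ
    exact Ideal.le_radical ((hcol β).mpr (hn1 β hβ))
  · rintro β ⟨k, hk⟩
    rw [hcol] at hk
    by_contra hβ
    have hu : IsUnit (β ^ k) := by
      rw [IsLocalRing.mem_maximalIdeal, mem_nonunits_iff, not_not] at hβ
      exact hβ.pow k
    obtain ⟨w, hw⟩ := hu
    rw [← hw] at hk
    have h5 := Submodule.smul_mem _ (↑w⁻¹ : C') hk
    rw [smul_smul, Units.inv_mul, one_smul] at h5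
    exact hn2 h5

theorem val_step {A B V W M : Type u} [CommRing A] [CommRing B] [CommRing V] [IsDomain V] [ValuationRing V]
    [CommRing W] [IsDomain W] [IsLocalRing W] [Algebra A B] [Algebra.FiniteType A B] [Algebra A V]
    [Algebra V W] [Algebra B W] [Algebra A W] [IsScalarTower A V W] [IsScalarTower A B W]
    [AddCommGroup M] [Module B M] [Module A M] [IsScalarTower A B M] [Module.Finite B M]
    (qy qx : Ideal B) [qy.IsPrime] [qx.IsPrime]
    (hVW : Function.Injective (algebraMap V W)) [IsLocalHom (algebraMap V W)]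
    (hker : RingHom.ker (algebraMap B W) = qy)
    (hmax : (IsLocalRing.maximalIdeal W).comap (algebraMap B W) = qx)
    (hfrac : ∀ v : V, ∃ a : A, algebraMap A V a ≠ 0 ∧ ∃ c : A, algebraMap A V a * v = algebraMap A V c)
    (hmin : ∀ Q : Ideal B, Q.IsPrime → qy ≤ Q → (qx.under A).map (algebraMap A B) ≤ Q → Q ≤ qx → Q = qx)
    (hflat : FlatCA.FlatAt A qx M)
    (hRA : RA ((qy.under A).map (algebraMap A B)) qy M) :
    RA ((qx.under A).map (algebraMap A B)) qx M ∧
      ∀ {ι : Type u} (t : ι → B),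
        (∀ r : MvPolynomial ι A, MvPolynomial.aeval t r ∈ qx → ∀ m, MvPolynomial.coeff m r ∈ qx.under A) →
        ∀ r : MvPolynomial ι A, MvPolynomial.aeval t r ∈ qy → ∀ m, MvPolynomial.coeff m r ∈ qy.under A := by
  let C := V ⊗[A] B
  let ψ : C →ₐ[V] W := Algebra.TensorProduct.lift (Algebra.ofId V W) (IsScalarTower.toAlgHom A B W)
    (fun _ _ => Commute.all _ _)
  have hψB : ∀ b : B, ψ (algebraMap B C b) = algebraMap B W b := by
    intro b
    change ψ ((1 : V) ⊗ₜ[A] b) = _
    rw [Algebra.TensorProduct.lift_tmul, map_one, one_mul]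
    rfl
  have hψV : ∀ v : V, ψ (algebraMap V C v) = algebraMap V W v := fun v => ψ.commutes v
  let q' : Ideal C := RingHom.ker ψ
  have hq'p : q'.IsPrime := RingHom.ker_isPrime ψ
  let x₀ : Ideal C := (IsLocalRing.maximalIdeal W).comap ψ
  have hx₀p : x₀.IsPrime := Ideal.comap_isPrime _ _
  let J : Ideal C := (IsLocalRing.maximalIdeal V).map (algebraMap V C)
  have hq'x₀ : q' ≤ x₀ := by
    intro c hc
    change ψ c ∈ IsLocalRing.maximalIdeal W
    rw [(RingHom.mem_ker.mp hc : ψ c = 0)]
    exact zero_mem _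
  have hJx₀ : J ≤ x₀ := by
    rw [Ideal.map_le_iff_le_comap]
    intro v hv
    change ψ (algebraMap V C v) ∈ IsLocalRing.maximalIdeal W
    rw [hψV, IsLocalRing.mem_maximalIdeal, mem_nonunits_iff]
    intro hu
    exact (IsLocalRing.mem_maximalIdeal _).mp hv (isUnit_of_map_unit (algebraMap V W) v hu)
  obtain ⟨x', hx', hx'le⟩ := Ideal.exists_minimalPrimes_le (sup_le hq'x₀ hJx₀)
  have hx'p : x'.IsPrime := hx'.1.1
  have hq'x' : q' ≤ x' := le_sup_left.trans hx'.1.2
  have hJx' : J ≤ x' := le_sup_right.trans hx'.1.2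
  have hx'V : x'.comap (algebraMap V C) = IsLocalRing.maximalIdeal V := by
    refine ((IsLocalRing.maximalIdeal.isMaximal V).eq_of_le ?_ (Ideal.map_le_iff_le_comap.mp hJx')).symm
    exact (Ideal.comap_isPrime (algebraMap V C) x').ne_top
  have hq'B : q'.comap (algebraMap B C) = qy := by
    rw [← hker]
    ext b
    change ψ (algebraMap B C b) = 0 ↔ _
    rw [hψB]
    rfl
  have hAV : ∀ a : A, algebraMap A V a ∈ IsLocalRing.maximalIdeal V ↔ a ∈ qx.under A := by
    intro a
    change _ ↔ algebraMap A B a ∈ qx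
    rw [← hmax, Ideal.mem_comap, ← IsScalarTower.algebraMap_apply, IsScalarTower.algebraMap_apply A V W,
      IsLocalRing.mem_maximalIdeal, IsLocalRing.mem_maximalIdeal, mem_nonunits_iff, mem_nonunits_iff,
      isUnit_map_iff (algebraMap V W)]
  have hx'B : x'.comap (algebraMap B C) = qx := by
    apply hmin
    · infer_instance
    · rw [← hq'B]
      exact Ideal.comap_mono hq'x'
    · rw [Ideal.map_le_iff_le_comap]
      intro a ha
      rw [← hAV] at ha
      change algebraMap B C (algebraMap A B a) ∈ x'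
      rw [← IsScalarTower.algebraMap_apply, IsScalarTower.algebraMap_apply A V C]
      exact hJx' (Ideal.mem_map_of_mem _ ha)
    · rw [← hmax]
      intro b hb
      have h1 : ψ (algebraMap B C b) ∈ IsLocalRing.maximalIdeal W := hx'le hb
      rw [hψB] at h1
      exact h1
  -- lying over
  have l1 : (⊥ : Ideal V).LiesOver (qy.under A) := ⟨by
    ext a
    change algebraMap A B a ∈ qy ↔ algebraMap A V a = 0
    rw [← hker, RingHom.mem_ker, ← IsScalarTower.algebraMap_apply, IsScalarTower.algebraMap_apply A V W,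
      map_eq_zero_iff _ hVW]⟩
  have l2 : q'.LiesOver (⊥ : Ideal V) := ⟨by
    ext v
    change v = 0 ↔ ψ (algebraMap V C v) = 0
    rw [hψV, map_eq_zero_iff _ hVW]⟩
  have l3 : (IsLocalRing.maximalIdeal V).LiesOver (qx.under A) := ⟨by
    ext a
    exact (hAV a).symm⟩
  have l4 : x'.LiesOver (IsLocalRing.maximalIdeal V) := ⟨hx'V.symm⟩
  let N := C ⊗[B] M
  let g : M →ₗ[B] N := TensorProduct.mk B C M 1
  have hg : IsBaseChange C g := TensorProduct.isBaseChange B M C
  have hnB : IsNoetherianRing ((qy.under A).Fiber B) := fiber_isNoetherianRing (qy.under A)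
  have hnC0 : IsNoetherianRing ((⊥ : Ideal V).Fiber C) := fiber_isNoetherianRing (⊥ : Ideal V)
  have hnC : IsNoetherianRing ((IsLocalRing.maximalIdeal V).Fiber C) :=
    fiber_isNoetherianRing (IsLocalRing.maximalIdeal V)
  have hqyass : qy ∈ associatedPrimes B (FlatCA.fiberMod (qy.under A) B M) :=
    mem_associatedPrimes_of_ra (qy.under A) qy hRA
  have hq'ass : q' ∈ associatedPrimes C (FlatCA.fiberMod (⊥ : Ideal V) C N) :=
    Flat2B.RelAss.relAss_lift g hg (qy.under A) (⊥ : Ideal V)
      (isIntegral_residueFieldMap (qy.under A) hfrac) hqyass q' hq'B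
  obtain ⟨-, -, hq'F⟩ := (mem_associatedPrimes_fiberMod_iff (⊥ : Ideal V) N q').mp hq'ass
  obtain ⟨z, hz⟩ := exists_annihilator (⊥ : Ideal V) N q' hq'F
  obtain ⟨a, ha, n₀, hn₀⟩ := exists_smul_eq_tmul (⊥ : Ideal V) z
  -- the local situation
  let C' := Localization.AtPrime x'
  let N' := LocalizedModule x'.primeCompl N
  have hflatV : Module.Flat V N' := flatAt_of_isBaseChange g hg qx x' hx'B hflat
  let κ : N →ₗ[C] N' := LocalizedModule.mkLinearMap x'.primeCompl N
  have hess : Algebra.EssFiniteType V C' := by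
    have : Algebra.EssFiniteType C C' := Algebra.EssFiniteType.of_isLocalization C' x'.primeCompl
    exact Algebra.EssFiniteType.comp V C C'
  have hmaxC' : (IsLocalRing.maximalIdeal C').comap (algebraMap C C') = x' :=
    IsLocalization.AtPrime.under_maximalIdeal C' x'
  have hlochom : IsLocalHom (algebraMap V C') := by
    refine ⟨fun v hv => ?_⟩
    by_contra hnu
    have h1 : v ∈ IsLocalRing.maximalIdeal V := (IsLocalRing.mem_maximalIdeal _).mpr hnu
    rw [← hx'V, ← hmaxC'] at h1
    have h2 : algebraMap C C' (algebraMap V C v) ∈ IsLocalRing.maximalIdeal C' := h1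
    rw [← IsScalarTower.algebraMap_apply] at h2
    exact (IsLocalRing.mem_maximalIdeal _).mp h2 hv
  have hsz : ∀ s : C, s • n₀ = 0 → s • z = 0 := by
    intro s hs
    have h1 : s • (n₀ ⊗ₜ[V] (1 : (⊥ : Ideal V).ResidueField)) = (s • n₀) ⊗ₜ[V] (1 : (⊥ : Ideal V).ResidueField) := rfl
    rw [hs, TensorProduct.zero_tmul, ← hn₀, smul_comm, smul_eq_zero_iff_of_not_mem (⊥ : Ideal V) ha] at h1
    exact h1
  have hm' : κ n₀ ≠ 0 := by
    intro h0
    obtain ⟨s, hs⟩ := (IsLocalizedModule.eq_zero_iff x'.primeCompl κ).mp h0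
    exact s.2 (hq'x' ((hz s).mpr (hsz s hs)))
  have hq'm' : ∀ b ∈ q'.map (algebraMap C C'), b • κ n₀ = 0 := by
    intro b hb
    refine Submodule.span_induction (p := fun b _ => b • κ n₀ = 0) ?_ ?_ ?_ ?_ hb
    · rintro _ ⟨c, hc, rfl⟩
      have h1 : (c • n₀) ⊗ₜ[V] (1 : (⊥ : Ideal V).ResidueField) = 0 := by
        have h2 : c • (n₀ ⊗ₜ[V] (1 : (⊥ : Ideal V).ResidueField)) = 0 := by
          rw [← hn₀, smul_comm, (hz c).mp hc, smul_zero]
        exact h2
      obtain ⟨v, hv, h2⟩ := exists_smul_mem_of_tmul_eq_zero (⊥ : Ideal V) _ h1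
      rw [Submodule.bot_smul, Submodule.mem_bot] at h2
      have h3 : v • (κ (c • n₀)) = 0 := by
        have h4 : κ (v • c • n₀) = 0 := by rw [h2, map_zero]
        rw [← algebraMap_smul C v, map_smul, algebraMap_smul] at h4
        exact h4
      rw [algebraMap_smul, ← map_smul]
      have hv0 : v ≠ 0 := fun h => hv (by rw [h]; exact zero_mem _)
      exact eq_zero_of_smul_eq_zero (V := V) (M := N') hv0 h3
    · exact zero_smul _ _
    · intro x y _ _ hx hy
      rw [add_smul, hx, hy, add_zero]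
    · intro c x _ hx
      rw [smul_eq_mul, mul_smul, hx, smul_zero]
  have hJC' : (IsLocalRing.maximalIdeal V).map (algebraMap V C') = J.map (algebraMap C C') := by
    rw [Ideal.map_map, ← IsScalarTower.algebraMap_eq]
  obtain ⟨n, hn1, hn2⟩ := core (V := V) (B := C') (M := N') (q'.map (algebraMap C C')) (κ n₀) hm' hq'm' (by
    intro P hP hqP hJP
    have h1 : P.comap (algebraMap C C') = x' := by
      have h2 : P.comap (algebraMap C C') ≤ x' := by
        conv_rhs => rw [← hmaxC']
        exact Ideal.comap_mono (IsLocalRing.le_maximalIdeal hP.ne_top)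
      refine le_antisymm h2 (hx'.2 ⟨inferInstance, sup_le ?_ ?_⟩ h2)
      · exact Ideal.map_le_iff_le_comap.mp hqP
      · rw [hJC'] at hJP
        exact Ideal.map_le_iff_le_comap.mp hJP
    apply le_antisymm (IsLocalRing.le_maximalIdeal hP.ne_top)
    rw [← IsLocalization.AtPrime.map_eq_maximalIdeal x' C', Ideal.map_le_iff_le_comap, h1])
  rw [hJC'] at hn1 hn2
  have hRAx' : RA J x' N := by
    refine (RelAssAlg.isAssociatedPrime_iff_RA (Bx := C') (Mx := N') x' κ J).mp ?_
    exact isAssociatedPrime_of_mem _ n hn1 hn2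
  have hx'ass : x' ∈ associatedPrimes C (FlatCA.fiberMod (IsLocalRing.maximalIdeal V) C N) :=
    mem_associatedPrimes_of_ra (IsLocalRing.maximalIdeal V) x' hRAx'
  constructor
  · have h1 := Flat2B.RelAss.relAss_comap g hg (qx.under A) (IsLocalRing.maximalIdeal V) hx'ass
    rw [hx'B] at h1
    exact ra_of_mem_associatedPrimes (qx.under A) qx h1
  · intro ι t ht r hr m
    have h1 : MvPolynomial.map (algebraMap A V) r = 0 := by
      refine algIndep_step g hg q' x' hq'x' l2.over.symm hx'ass t ?_ r ?_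
      · intro r' hr'
        have h2 : MvPolynomial.aeval t r' ∈ qx := by
          rw [← hx'B]
          exact hr'
        ext m
        rw [MvPolynomial.coeff_map, MvPolynomial.coeff_zero]
        have h3 := ht r' h2 m
        rw [IsScalarTower.algebraMap_apply A V (IsLocalRing.maximalIdeal V).ResidueField,
          Ideal.algebraMap_residueField_eq_zero, hAV]
        exact h3
      · rw [← hq'B] at hr
        exact hr
    have h2 := congrArg (MvPolynomial.coeff m) h1
    rw [MvPolynomial.coeff_map, MvPolynomial.coeff_zero] at h2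
    rw [l1.over]
    exact h2

end Groth.Agent.Flat2G.RelAssVal
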