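import Groth.Agent.Flat2G.RelAssVal6
import Mathlib.RingTheory.Valuation.LocalSubring
import Mathlib.RingTheory.Valuation.ValuationSubring

/-!
# Dominating valuation rings and the algebraic form of Stacks 0GSI
-/

set_option autoImplicit false
universe u

namespace Groth.Agent.Flat2G.RelAssVal

open TensorProduct GenericAss

theorem exists_valuation_data {A B : Type u} [CommRing A] [CommRing B] [Algebra A B] (qy qx : Ideal B)
    [qy.IsPrime] [qx.IsPrime] (hle : qy ≤ qx) :
    ∃ (V W : Type u) (_ : CommRing V) (_ : IsDomain V) (_ : ValuationRing V) (_ : CommRing W) (_ : IsDomain W)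
      (_ : IsLocalRing W) (_ : Algebra A V) (_ : Algebra V W) (_ : Algebra B W) (_ : Algebra A W)
      (_ : IsScalarTower A V W) (_ : IsScalarTower A B W) (_ : IsLocalHom (algebraMap V W)),
      Function.Injective (algebraMap V W) ∧ RingHom.ker (algebraMap B W) = qy ∧
      (IsLocalRing.maximalIdeal W).comap (algebraMap B W) = qx ∧
      ∀ v : V, ∃ a : A, algebraMap A V a ≠ 0 ∧ ∃ c : A, algebraMap A V a * v = algebraMap A V c := by
  let p : Ideal A := qy.comap (algebraMap A B)
  have hp : p.IsPrime := Ideal.comap_isPrime _ _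
  let K := p.ResidueField
  let F := qy.ResidueField
  let φ : K →+* F := Ideal.ResidueField.map p qy (algebraMap A B) rfl
  have hφ : ∀ a : A, φ (algebraMap A K a) = algebraMap B F (algebraMap A B a) := fun a =>
    Ideal.ResidueField.map_algebraMap p qy (algebraMap A B) rfl a
  let R := Localization.AtPrime qx
  have hunit : ∀ y : qx.primeCompl, IsUnit (algebraMap B F y) := by
    intro y
    rw [isUnit_iff_ne_zero]
    intro h
    exact y.2 (hle (Ideal.algebraMap_residueField_eq_zero.mp h))
  let f : R →+* F := IsLocalization.lift hunit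
  have hf : ∀ b : B, f (algebraMap B R b) = algebraMap B F b := fun b => IsLocalization.lift_eq hunit b
  obtain ⟨W, hW, hloc⟩ := IsLocalRing.exists_factor_valuationRing f
  let V : ValuationSubring K := W.comap φ
  have hBW : ∀ b : B, algebraMap B F b ∈ W := fun b => by
    rw [← hf b]
    exact hW _
  have hAV : ∀ a : A, algebraMap A K a ∈ V := fun a => by
    change φ (algebraMap A K a) ∈ W
    rw [hφ]
    exact hBW _
  let fA : A →+* V := (algebraMap A K).codRestrict V.toSubring hAV
  let fB : B →+* W := (algebraMap B F).codRestrict W.toSubring hBW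
  let fV : V →+* W := (φ.comp V.subtype).codRestrict W.toSubring (fun v => v.2)
  let iA : Algebra A V := fA.toAlgebra
  let iB : Algebra B W := fB.toAlgebra
  let iV : Algebra V W := fV.toAlgebra
  let iAW : Algebra A W := (fB.comp (algebraMap A B)).toAlgebra
  have t2 : IsScalarTower A B W := IsScalarTower.of_algebraMap_eq fun x => rfl
  have t1 : IsScalarTower A V W := IsScalarTower.of_algebraMap_eq fun x => by
    apply Subtype.ext
    exact (hφ x).symm
  have hinjV : Function.Injective (algebraMap V W) := by
    intro v w hvw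
    apply Subtype.ext
    apply φ.injective
    exact congrArg Subtype.val hvw
  have hlV : IsLocalHom (algebraMap V W) := by
    refine ⟨fun v hv => ?_⟩
    obtain ⟨w, hw⟩ := isUnit_iff_exists_inv.mp hv
    have h1 : φ (v : K) * (w : F) = 1 := congrArg Subtype.val hw
    have hv0 : (v : K) ≠ 0 := by
      intro h
      rw [h, map_zero, zero_mul] at h1
      exact zero_ne_one h1
    have h2 : (v : K)⁻¹ ∈ V := by
      change φ ((v : K)⁻¹) ∈ W
      rw [map_inv₀, ← eq_inv_of_mul_eq_one_right h1]
      exact w.2
    refine isUnit_iff_exists_inv.mpr ⟨⟨(v : K)⁻¹, h2⟩, ?_⟩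
    apply Subtype.ext
    exact mul_inv_cancel₀ hv0
  refine ⟨V, W, inferInstance, inferInstance, inferInstance, inferInstance, inferInstance, inferInstance,
    iA, iV, iB, iAW, t1, t2, hlV, hinjV, ?_, ?_, ?_⟩
  · ext b
    rw [RingHom.mem_ker]
    constructor
    · intro h
      exact Ideal.algebraMap_residueField_eq_zero.mp (congrArg Subtype.val h)
    · intro h
      apply Subtype.ext
      exact Ideal.algebraMap_residueField_eq_zero.mpr h
  · ext b
    have h1 : b ∈ qx ↔ algebraMap B R b ∈ IsLocalRing.maximalIdeal R :=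
      (IsLocalization.AtPrime.to_map_mem_maximal_iff R qx b).symm
    have h2 : algebraMap B W b = f.codRestrict W.toSubring hW (algebraMap B R b) := by
      apply Subtype.ext
      exact (hf b).symm
    rw [Ideal.mem_comap, h1, h2, IsLocalRing.mem_maximalIdeal, IsLocalRing.mem_maximalIdeal, mem_nonunits_iff,
      mem_nonunits_iff]
    constructor
    · intro h hu
      exact h (hu.map _)
    · intro h hu
      exact h (hloc.map_nonunit _ hu)
  · intro v
    obtain ⟨c, a, ha, hca⟩ := IsFractionRing.div_surjective (A := A ⧸ p) (v : K)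
    obtain ⟨c, rfl⟩ := Ideal.Quotient.mk_surjective c
    obtain ⟨a, rfl⟩ := Ideal.Quotient.mk_surjective a
    have hap : a ∉ p := fun h => nonZeroDivisors.ne_zero ha (Ideal.Quotient.eq_zero_iff_mem.mpr h)
    have haK : algebraMap A K a ≠ 0 := fun h => hap (Ideal.algebraMap_residueField_eq_zero.mp h)
    refine ⟨a, fun h => haK (congrArg Subtype.val h), c, ?_⟩
    apply Subtype.ext
    change algebraMap A K a * (v : K) = algebraMap A K c
    rw [← hca]
    exact mul_div_cancel₀ _ haK

/-- The algebraic form of Stacks 0GSI. -/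
theorem main_alg {A B M : Type u} [CommRing A] [CommRing B] [Algebra A B] [Algebra.FiniteType A B]
    [AddCommGroup M] [Module B M] [Module A M] [IsScalarTower A B M] [Module.Finite B M]
    (qy qx : Ideal B) [qy.IsPrime] [qx.IsPrime] (hle : qy ≤ qx)
    (hmin : ∀ Q : Ideal B, Q.IsPrime → qy ≤ Q → (qx.under A).map (algebraMap A B) ≤ Q → Q ≤ qx → Q = qx)
    (hflat : FlatCA.FlatAt A qx M)
    (hRA : RA ((qy.under A).map (algebraMap A B)) qy M) :
    RA ((qx.under A).map (algebraMap A B)) qx M ∧
      ∀ {ι : Type u} (t : ι → B),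
        (∀ r : MvPolynomial ι A, MvPolynomial.aeval t r ∈ qx → ∀ m, MvPolynomial.coeff m r ∈ qx.under A) →
        ∀ r : MvPolynomial ι A, MvPolynomial.aeval t r ∈ qy → ∀ m, MvPolynomial.coeff m r ∈ qy.under A := by
  obtain ⟨V, W, _, _, _, _, _, _, _, _, _, _, _, _, _, h1, h2, h3, h4⟩ :=
    exists_valuation_data (A := A) qy qx hle
  exact val_step (V := V) (W := W) qy qx h1 h2 h3 h4 hmin hflat hRA

end Groth.Agent.Flat2G.RelAssVal
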