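import Groth.Agent.Flat2G.RelAssVal7
import Groth.Agent.CycB.TrdegAlg
import Mathlib.RingTheory.AlgebraicIndependent.Basic

/-!
# From algebraic independence to transcendence degrees
-/

set_option autoImplicit false
universe u

namespace Groth.Agent.Flat2G.RelAssVal

open CycB.TrdegAlg

theorem trd_le_of_algIndep {A B : Type u} [CommRing A] [CommRing B] [Algebra A B] (qy qx : Ideal B)
    [qy.IsPrime] [qx.IsPrime] (py px : Ideal A) (hpy : py = qy.comap (algebraMap A B))
    (hpx : px = qx.comap (algebraMap A B))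
    (h : ∀ {ι : Type u} (t : ι → B),
        (∀ r : MvPolynomial ι A, MvPolynomial.aeval t r ∈ qx → ∀ m, MvPolynomial.coeff m r ∈ qx.under A) →
        ∀ r : MvPolynomial ι A, MvPolynomial.aeval t r ∈ qy → ∀ m, MvPolynomial.coeff m r ∈ qy.under A) :
    trd (Ideal.quotientMap qx (algebraMap A B) hpx.le) ≤ trd (Ideal.quotientMap qy (algebraMap A B) hpy.le) := by
  unfold trd
  let i1 : Algebra (A ⧸ px) (B ⧸ qx) := (Ideal.quotientMap qx (algebraMap A B) hpx.le).toAlgebra
  let i2 : Algebra (A ⧸ py) (B ⧸ qy) := (Ideal.quotientMap qy (algebraMap A B) hpy.le).toAlgebra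
  have hpxp : px.IsPrime := by rw [hpx]; infer_instance
  have hpyp : py.IsPrime := by rw [hpy]; infer_instance
  have hcomm : ∀ (p : Ideal A) (q : Ideal B) (hle : p ≤ q.comap (algebraMap A B)) {ι : Type u} (t : ι → B)
      (r : MvPolynomial ι A),
      Ideal.Quotient.mk q (MvPolynomial.aeval t r) =
        @MvPolynomial.aeval (A ⧸ p) (B ⧸ q) ι _ _ (Ideal.quotientMap q (algebraMap A B) hle).toAlgebra
          (fun i => Ideal.Quotient.mk q (t i)) (MvPolynomial.map (Ideal.Quotient.mk p) r) := by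
    intro p q hle ι t r
    rw [MvPolynomial.map_aeval]
    simp only [MvPolynomial.aeval_def, MvPolynomial.eval₂_map]
    rfl
  change Algebra.trdeg (A ⧸ px) (B ⧸ qx) ≤ Algebra.trdeg (A ⧸ py) (B ⧸ qy)
  conv_lhs => rw [Algebra.trdeg]
  refine ciSup_le' fun s => ?_
  obtain ⟨s, hs⟩ := s
  have hs' : AlgebraicIndependent (A ⧸ px) (fun i : s => (i : B ⧸ qx)) := hs
  let t : s → B := fun i => (Ideal.Quotient.mk_surjective (i : B ⧸ qx)).choose
  have ht : ∀ i, Ideal.Quotient.mk qx (t i) = (i : B ⧸ qx) := fun i =>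
    (Ideal.Quotient.mk_surjective (i : B ⧸ qx)).choose_spec
  have h1 : ∀ r : MvPolynomial s A, MvPolynomial.aeval t r ∈ qx →
      ∀ m, MvPolynomial.coeff m r ∈ qx.under A := by
    intro r hr m
    have h2 := hcomm px qx hpx.le t r
    rw [Ideal.Quotient.eq_zero_iff_mem.mpr hr] at h2
    have h3 : (fun i : s => Ideal.Quotient.mk qx (t i)) = fun i : s => (i : B ⧸ qx) := funext ht
    rw [h3] at h2
    have h4 : MvPolynomial.map (Ideal.Quotient.mk px) r = 0 :=
      (algebraicIndependent_iff.mp hs') _ h2.symm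
    have h5 := congrArg (MvPolynomial.coeff m) h4
    rw [MvPolynomial.coeff_map, MvPolynomial.coeff_zero, Ideal.Quotient.eq_zero_iff_mem, hpx] at h5
    exact h5
  have h2 := h t h1
  have h3 : AlgebraicIndependent (A ⧸ py) (fun i : s => Ideal.Quotient.mk qy (t i)) := by
    rw [algebraicIndependent_iff]
    intro r hr
    obtain ⟨r, rfl⟩ := MvPolynomial.map_surjective _ Ideal.Quotient.mk_surjective r
    have h4 : Ideal.Quotient.mk qy (MvPolynomial.aeval t r) = 0 := (hcomm py qy hpy.le t r).trans hr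
    rw [Ideal.Quotient.eq_zero_iff_mem] at h4
    ext m
    rw [MvPolynomial.coeff_map, MvPolynomial.coeff_zero, Ideal.Quotient.eq_zero_iff_mem, hpy]
    exact h2 r h4 m
  exact h3.cardinalMk_le_trdeg

end Groth.Agent.Flat2G.RelAssVal
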