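import Groth.Agent.Flat2G.StratSpread
import Groth.Agent.Flat2G.PITower

/-!
# Smooth stratifications after a finite locally free universal homeomorphism, affine base

`exists_good_hasSmoothStrat`: `Z ⟶ Spec A` of finite presentation, `K` a field which is a localization of `A`.
-/

set_option autoImplicit false
universe u

open AlgebraicGeometry CategoryTheory Limits TopologicalSpace

namespace Groth.Agent.Flat2G.StratAffine

open Groth.Agent.Flat2G.StratBase Groth.Agent.Flat2G.StratField Groth.Agent.Flat2G.StratSpread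
  Groth.Agent.Flat2G.PITower

/-- Two base changes of the same morphism along the same morphism are interchangeable. -/
lemma hasSmoothStrat_of_isPullback_of_isPullback {Z S V Z₁ Z₂ : Scheme.{u}} {π : Z ⟶ S} {v w : V ⟶ S}
    {p₁ : Z₁ ⟶ Z} {π₁ : Z₁ ⟶ V} {p₂ : Z₂ ⟶ Z} {π₂ : Z₂ ⟶ V} (H₁ : IsPullback p₁ π₁ π v)
    (H₂ : IsPullback p₂ π₂ π w) (e : v = w) (h : HasSmoothStrat π₁) : HasSmoothStrat π₂ := by
  subst e
  have H : IsPullback (H₂.isoIsPullback _ _ H₁).hom π₂ π₁ (𝟙 V) := .of_horiz_isIso ⟨by simp⟩
  exact h.of_isPullback H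

/-- Smooth stratifications of the base change along a composition. -/
lemma isPullback_snd_snd {Z S V W : Scheme.{u}} (π : Z ⟶ S) (v : V ⟶ S) (w : W ⟶ V) :
    IsPullback (pullback.fst (pullback.snd π v) w ≫ pullback.fst π v) (pullback.snd (pullback.snd π v) w) π
      (w ≫ v) :=
  (IsPullback.of_hasPullback (pullback.snd π v) w).paste_horiz (IsPullback.of_hasPullback π v)

theorem exists_good_hasSmoothStrat {A K : Type u} [CommRing A] [Field K] [Algebra A K] (M : Submonoid A)
    [IsLocalization M K] (hq : ∀ q : ℕ, q.Prime → (q : K) = 0 → (q : A) = 0) {Z : Scheme.{u}}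
    (π : Z ⟶ Spec (CommRingCat.of A)) [LocallyOfFinitePresentation π] [CompactSpace Z]
    [QuasiSeparatedSpace Z] :
    ∃ m ∈ M, ∃ (V : Scheme.{u}) (v : V ⟶ Spec (CommRingCat.of (Localization.Away m))), Good v ∧
      HasSmoothStrat (pullback.snd π (v ≫ specAway m)) := by
  have ha1 : IsAffineHom (pullback.fst π (specRL A K)) := MorphismProperty.pullback_fst _ _ inferInstance
  have : CompactSpace ↥(pullback π (specRL A K)) := QuasiCompact.compactSpace_of_compactSpace
    (pullback.fst π (specRL A K))
  let P := perfectClosure K (AlgebraicClosure K)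
  obtain ⟨L, hL, hstrat⟩ := exists_finite_hasSmoothStrat (P := P) (pullback.snd π (specRL A K))
  have : IsPurelyInseparable K L := IsPurelyInseparable.tower_bot K L P
  obtain ⟨q, hexp⟩ := ExpChar.exists K
  have hq' : q = 1 ∨ q.Prime ∧ (q : A) = 0 := by
    cases hexp with
    | zero => exact Or.inl rfl
    | prime h => exact Or.inr ⟨h, hq _ h (CharP.cast_eq_zero K _)⟩
  obtain ⟨A', _, α, ψ, hlev⟩ := exists_level (K := K) (L := L) M q hq'
  letI := ψ.toAlgebra
  have hM : ∀ m ∈ M, ((algebraMap K L).comp (algebraMap A K)) m ≠ 0 := by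
    intro m hm
    exact ((IsLocalization.map_units K (⟨m, hm⟩ : M)).map (algebraMap K L)).ne_zero
  have hloc : IsLocalization (M.map α) L := hlev.isLocalization hM
  let Sα : Spec (CommRingCat.of A') ⟶ Spec (CommRingCat.of A) := Spec.map (CommRingCat.ofHom α)
  have hgood : Good Sα := hlev.good
  have := hgood.finite
  have ha2 : IsAffineHom (pullback.fst π Sα) := MorphismProperty.pullback_fst _ _ inferInstance
  have : CompactSpace ↥(pullback π Sα) := QuasiCompact.compactSpace_of_compactSpace (pullback.fst π Sα)
  have : QuasiSeparatedSpace ↥(pullback π Sα) := quasiSeparatedSpace_of_quasiSeparated (pullback.fst π Sα)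
  have h1 : HasSmoothStrat (pullback.snd (pullback.snd π Sα) (specRL A' L)) := by
    refine hasSmoothStrat_of_isPullback_of_isPullback (isPullback_snd_snd π (specRL A K) (specK L))
      (isPullback_snd_snd π Sα (specRL A' L)) ?_ hstrat
    rw [← Spec.map_comp, ← Spec.map_comp]
    congr 1
    ext1
    exact hlev.comp.symm
  obtain ⟨_, ⟨m, hm, rfl⟩, h2⟩ := exists_hasSmoothStrat (M.map α) L (pullback.snd π Sα) h1
  refine ⟨m, hm, pullback Sα (specAway m), pullback.snd Sα (specAway m),
    hgood.of_isPullback (.of_hasPullback _ _), ?_⟩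
  -- factor `fst` through `Spec A'[1/αm]`
  have hr : Set.range (pullback.fst Sα (specAway m)) ⊆ Set.range (specAway (α m)) := by
    rintro _ ⟨y, rfl⟩
    have h3 := notMem_specAway m (pullback.snd Sα (specAway m) y)
    rw [← Scheme.Hom.comp_apply, ← pullback.condition, Scheme.Hom.comp_apply] at h3
    have h4 : pullback.fst Sα (specAway m) y ∈
        Set.range (PrimeSpectrum.comap (algebraMap A' (Localization.Away (α m)))) := by
      rw [PrimeSpectrum.localization_away_comap_range (Localization.Away (α m)) (α m)]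
      exact h3
    exact h4
  let k := IsOpenImmersion.lift (specAway (α m)) (pullback.fst Sα (specAway m)) hr
  have hk : k ≫ specAway (α m) = pullback.fst Sα (specAway m) := IsOpenImmersion.lift_fac _ _ _
  have h5 : HasSmoothStrat (pullback.snd (pullback.snd (pullback.snd π Sα) (specAway (α m))) k) :=
    h2.of_isPullback (.of_hasPullback _ _)
  have H6 := (IsPullback.of_hasPullback (pullback.snd (pullback.snd π Sα) (specAway (α m))) k).paste_horiz
    (isPullback_snd_snd π Sα (specAway (α m)))
  refine hasSmoothStrat_of_isPullback_of_isPullback H6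
    (.of_hasPullback π (pullback.snd Sα (specAway m) ≫ specAway m)) ?_ h5
  rw [reassoc_of% hk, pullback.condition]

end Groth.Agent.Flat2G.StratAffine
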