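import Groth.Agent.Divis.IdealFT
import Mathlib.AlgebraicGeometry.Morphisms.LocalFlatDescent
import Mathlib.AlgebraicGeometry.Morphisms.Smooth
import Mathlib.AlgebraicGeometry.IdealSheaf.Functorial

/-!
# Strata of chains of ideal sheaves

* `strat I J`: the locally closed subscheme `V(I) ∖ V(J)` (open in the closed subscheme of `I`), with
  inclusion `stratι I J`; `exists_isPullback_stratι`: its formation commutes with base change.
* `HasSmoothStrat π`: for `π : Z ⟶ V`, a finite chain of finite type ideal sheaves on `Z`, starting with one with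
  full support, ending with the unit ideal, all of whose strata are smooth over `V`; stable under base change.
-/

set_option autoImplicit false
universe u

open AlgebraicGeometry CategoryTheory Limits

namespace Groth.Agent.Flat2G.StratBase

open Groth.Agent.Divis.IdealComap Groth.Agent.Divis.IdealFT

variable {X Y Z Z' V V' : Scheme.{u}}

/-- The locally closed stratum `V(I) ∖ V(J)`, as an open subscheme of the closed subscheme of `I`. -/
noncomputable abbrev strat (I J : X.IdealSheafData) : Scheme.{u} :=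
  (I.subschemeι ⁻¹ᵁ J.support.compl : I.subscheme.Opens)

/-- The inclusion of the stratum. -/
noncomputable abbrev stratι (I J : X.IdealSheafData) : strat I J ⟶ X :=
  (I.subschemeι ⁻¹ᵁ J.support.compl).ι ≫ I.subschemeι

/-- Formation of strata commutes with base change. -/
theorem exists_isPullback_stratι (I J : X.IdealSheafData) (h : Z ⟶ X) :
    ∃ g : strat (I.comap h) (J.comap h) ⟶ strat I J,
      IsPullback g (stratι (I.comap h) (J.comap h)) (stratι I J) h := by
  have h1 : IsPullback (Scheme.IdealSheafData.subschemeMap (I.comap h) I h (I.le_map_comap h))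
      (I.comap h).subschemeι I.subschemeι h := by
    refine (isPullback_of_isClosedImmersion _ _ _ _ (by simp) (by simp)).flip
  set φ := Scheme.IdealSheafData.subschemeMap (I.comap h) I h (I.le_map_comap h) with hφ
  have hopen : φ ⁻¹ᵁ (I.subschemeι ⁻¹ᵁ J.support.compl) =
      (I.comap h).subschemeι ⁻¹ᵁ (J.comap h).support.compl := by
    rw [← Scheme.Hom.comp_preimage, h1.w, Scheme.Hom.comp_preimage]
    congr 1
    ext x
    simp
  refine ⟨φ.resLE _ _ hopen.ge, ?_⟩
  have h2 : IsPullback (φ.resLE (I.subschemeι ⁻¹ᵁ J.support.compl)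
      ((I.comap h).subschemeι ⁻¹ᵁ (J.comap h).support.compl) hopen.ge)
      ((I.comap h).subschemeι ⁻¹ᵁ (J.comap h).support.compl).ι (I.subschemeι ⁻¹ᵁ J.support.compl).ι
      φ := by
    apply IsOpenImmersion.isPullback
    · simp
    · simpa using hopen
  exact h2.paste_vert h1

/-- Base change of a stratum seen over the base. -/
theorem exists_isPullback_strat_base {p : Z' ⟶ Z} {π' : Z' ⟶ V'} {π : Z ⟶ V} {v : V' ⟶ V}
    (H : IsPullback p π' π v) (I J : Z.IdealSheafData) :
    ∃ g : strat (I.comap p) (J.comap p) ⟶ strat I J,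
      IsPullback g (stratι (I.comap p) (J.comap p) ≫ π') (stratι I J ≫ π) v := by
  obtain ⟨g, hg⟩ := exists_isPullback_stratι I J p
  exact ⟨g, hg.paste_vert H⟩

/-- The pullback of a finite type ideal sheaf is of finite type. -/
theorem fg_comap (I : X.IdealSheafData) (hI : ∀ U : X.affineOpens, (I.ideal U).FG) (f : Y ⟶ X)
    (V : Y.affineOpens) : ((I.comap f).ideal V).FG := by
  refine fg_of_cover _ V fun y _ ↦ ?_
  obtain ⟨U, hU, hxU, -⟩ := exists_isAffineOpen_mem_and_subset (U := ⊤) (x := f y) trivial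
  obtain ⟨W, hW, hyW, hWU⟩ := exists_isAffineOpen_mem_and_subset (U := f ⁻¹ᵁ U) (x := y) hxU
  refine ⟨⟨W, hW⟩, hyW, ?_⟩
  rw [ideal_comap I f ⟨U, hU⟩ ⟨W, hW⟩ hWU]
  exact (hI _).map _

/-- `π : Z ⟶ V` has a smooth stratification. -/
def HasSmoothStrat (π : Z ⟶ V) : Prop :=
  ∃ (t : ℕ) (J : Fin (t + 1) → Z.IdealSheafData), Monotone J ∧ J (Fin.last t) = ⊤ ∧
    ((J 0).support : Set Z) = Set.univ ∧ (∀ i, ∀ O : Z.affineOpens, ((J i).ideal O).FG) ∧
    ∀ i : Fin t, Smooth (stratι (J i.castSucc) (J i.succ) ≫ π)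

/-- Base change of a chain of ideals whose strata become smooth after base change. -/
theorem HasSmoothStrat.of_isPullback_of_chain {p : Z' ⟶ Z} {π' : Z' ⟶ V'} {π : Z ⟶ V} {v : V' ⟶ V}
    (H : IsPullback p π' π v) (t : ℕ) (J : Fin (t + 1) → Z.IdealSheafData) (hmono : Monotone J)
    (hlast : J (Fin.last t) = ⊤) (hsupp : ∀ z' : Z', p z' ∈ (J 0).support)
    (hfg : ∀ i, ∀ O : Z.affineOpens, ((J i).ideal O).FG)
    (hsm : ∀ i : Fin t, Smooth (pullback.snd (stratι (J i.castSucc) (J i.succ) ≫ π) v)) :
    HasSmoothStrat π' := by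
  refine ⟨t, fun i ↦ (J i).comap p, fun i j hij ↦ Scheme.IdealSheafData.comap_mono p (hmono hij), ?_, ?_,
    fun i O ↦ fg_comap _ (hfg i) p O, fun i ↦ ?_⟩
  · change (J (Fin.last t)).comap p = ⊤
    rw [hlast, Scheme.IdealSheafData.comap_top]
  · change (((J 0).comap p).support : Set Z') = Set.univ
    rw [Scheme.IdealSheafData.support_comap]
    exact Set.eq_univ_of_forall hsupp
  · obtain ⟨g, hg⟩ := exists_isPullback_strat_base H (J i.castSucc) (J i.succ)
    have := hsm i
    rw [← hg.isoPullback_hom_snd]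
    infer_instance

/-- Smooth stratifications are stable under base change. -/
theorem HasSmoothStrat.of_isPullback {p : Z' ⟶ Z} {π' : Z' ⟶ V'} {π : Z ⟶ V} {v : V' ⟶ V}
    (H : IsPullback p π' π v) (h : HasSmoothStrat π) : HasSmoothStrat π' := by
  obtain ⟨t, J, hmono, hlast, hsupp, hfg, hsm⟩ := h
  refine .of_isPullback_of_chain H t J hmono hlast (fun z' ↦ ?_) hfg (fun i ↦ ?_)
  · have : p z' ∈ ((J 0).support : Set Z) := by rw [hsupp]; trivial
    exact this
  · have := hsm i
    infer_instance

end Groth.Agent.Flat2G.StratBase
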