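import Mathlib.AlgebraicGeometry.IdealSheaf.Functorial
import Mathlib.AlgebraicGeometry.Morphisms.QuasiSeparated
import Mathlib.AlgebraicGeometry.Morphisms.QuasiCompact
import Mathlib.Logic.Relation

/-!
# Gluing of stratifications by finite type ideal sheaves along a finite affine cover
-/

set_option autoImplicit false
set_option linter.style.haveILetI false

universe u

open AlgebraicGeometry CategoryTheory Limits TopologicalSpace

namespace Groth.Agent.Flat2G.StratGlue

variable {S : Scheme.{u}}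

/-- `I` is of finite type (finitely generated on every affine open). -/
def FT (I : S.IdealSheafData) : Prop := ∀ U : S.affineOpens, (I.ideal U).FG

theorem FT.mul {I J : S.IdealSheafData} (hI : FT I) (hJ : FT J) : FT (I * J) := fun U => by
  rw [Scheme.IdealSheafData.ideal_mul]
  exact (hI U).mul (hJ U)

theorem FT.sup {I J : S.IdealSheafData} (hI : FT I) (hJ : FT J) : FT (I ⊔ J) := fun U => by
  rw [Scheme.IdealSheafData.ideal_sup]
  exact Submodule.FG.sup (hI U) (hJ U)

theorem FT.top : FT (⊤ : S.IdealSheafData) := fun U => by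
  rw [Scheme.IdealSheafData.ideal_top]
  exact ⟨{1}, by simp⟩

theorem FT.bot : FT (⊥ : S.IdealSheafData) := fun U => by
  rw [Scheme.IdealSheafData.ideal_bot]
  exact ⟨∅, by simp⟩

theorem FT.iSup {ι : Type*} [Finite ι] {I : ι → S.IdealSheafData} (hI : ∀ i, FT (I i)) :
    FT (⨆ i, I i) := fun U => by
  rw [Scheme.IdealSheafData.ideal_iSup, iSup_apply]
  exact Submodule.fg_iSup _ fun i => hI i U

/-- The extension property for finite type ideals. -/
def ExtProp (S : Scheme.{u}) : Prop :=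
  ∀ (I : S.IdealSheafData) (W : S.Opens), IsCompact (W : Set S) →
    (∀ U : S.affineOpens, U.1 ≤ W → (I.ideal U).FG) →
    ∃ J : S.IdealSheafData, J ≤ I ∧ FT J ∧ ∀ U : S.affineOpens, U.1 ≤ W → J.ideal U = I.ideal U

theorem ideal_eq_top_of_disjoint (I : S.IdealSheafData) (U : S.affineOpens)
    (h : Disjoint (I.support : Set S) (U : Set S)) : I.ideal U = ⊤ := by
  have h1 := (U.2.fromSpec_image_zeroLocus (I.ideal U)).trans_subset
    (I.coe_support_inter U).symm.subset
  rw [h.inter_eq, Set.subset_empty_iff] at h1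
  exact PrimeSpectrum.zeroLocus_empty_iff_eq_top.mp (Set.image_eq_empty.mp h1)

theorem disjoint_of_ideal_eq_top (I : S.IdealSheafData) (U : S.affineOpens)
    (h : I.ideal U = ⊤) : Disjoint (I.support : Set S) (U : Set S) := by
  rw [Set.disjoint_iff_inter_eq_empty, I.coe_support_inter U, h]
  ext x
  simp only [Set.mem_inter_iff, Scheme.mem_zeroLocus_iff, Set.mem_empty_iff_false, iff_false]
  rintro ⟨h1, h2⟩
  exact h1 1 (by simp) (by simpa using h2)

theorem subset_support_of_le_nilradical (I : S.IdealSheafData) (U : S.affineOpens)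
    (h : I.ideal U ≤ nilradical _) : (U : Set S) ⊆ I.support := by
  intro x hx
  have h1 : x ∈ I.support ↔ _ := I.mem_support_iff_of_mem (U := U) hx
  rw [SetLike.mem_coe, h1, Scheme.mem_zeroLocus_iff]
  intro f hf hxf
  have h2 := h hf
  rw [mem_nilradical] at h2
  obtain ⟨n, hn⟩ := h2
  have h3 : f ^ (n + 1) = 0 := by rw [pow_succ, hn, zero_mul]
  have h4 : x ∈ S.basicOpen (f ^ (n + 1)) := by
    rw [Scheme.basicOpen_pow _ _ (Nat.succ_pos n)]
    exact hxf
  rw [h3, Scheme.basicOpen_zero] at h4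
  exact h4

/-- (E1) -/
theorem exists_ft_support (h : ExtProp S) (W : S.Opens) (hW : IsCompact (W : Set S)) :
    ∃ K : S.IdealSheafData, FT K ∧ (K.support : Set S) = (W : Set S)ᶜ := by
  let Z : Closeds S := ⟨(W : Set S)ᶜ, W.2.isClosed_compl⟩
  let I := Scheme.IdealSheafData.vanishingIdeal Z
  have hsupp : (I.support : Set S) = (W : Set S)ᶜ := by
    rw [Scheme.IdealSheafData.coe_support_vanishingIdeal]
    rfl
  have htop : ∀ U : S.affineOpens, U.1 ≤ W → I.ideal U = ⊤ := fun U hU => by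
    refine ideal_eq_top_of_disjoint I U ?_
    rw [hsupp]
    exact disjoint_compl_left.mono_right hU
  obtain ⟨J, hJI, hJ, hJU⟩ := h I W hW fun U hU => by
    rw [htop U hU]
    exact ⟨{1}, by simp⟩
  refine ⟨J, hJ, ?_⟩
  apply Set.Subset.antisymm
  · intro x hx hxW
    obtain ⟨_, ⟨U, hU, rfl⟩, hxU, hUW⟩ :=
      S.isBasis_affineOpens.exists_subset_of_mem_open hxW W.2
    have h1 : J.ideal ⟨U, hU⟩ = ⊤ := by rw [hJU ⟨U, hU⟩ hUW, htop ⟨U, hU⟩ hUW]
    exact Set.disjoint_left.mp (disjoint_of_ideal_eq_top J ⟨U, hU⟩ h1) hx hxU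
  · rw [← hsupp]
    exact Scheme.IdealSheafData.support_antitone hJI

/-- (E2) -/
theorem exists_ft_ideal_eq [QuasiSeparatedSpace S] (h : ExtProp S) (U : S.affineOpens)
    (H : Ideal Γ(S, U)) (hH : H.FG) : ∃ K : S.IdealSheafData, FT K ∧ K.ideal U = H := by
  let g : Spec (CommRingCat.of (Γ(S, U) ⧸ H)) ⟶ S :=
    Spec.map (CommRingCat.ofHom (Ideal.Quotient.mk H)) ≫ U.2.fromSpec
  have hg : g.ker.ideal U = H := by
    haveI : QuasiCompact g := inferInstance
    rw [Scheme.Hom.ker_apply]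
    have h1 : g.app U = CommRingCat.ofHom (Ideal.Quotient.mk H) ≫
        (Scheme.ΓSpecIso (CommRingCat.of (Γ(S, U) ⧸ H))).inv ≫
        (Spec (CommRingCat.of (Γ(S, U) ⧸ H))).presheaf.map (eqToHom (by
          rw [Scheme.Hom.comp_preimage, U.2.fromSpec_preimage_self]; rfl)).op := by
      rw [Scheme.Hom.comp_app, U.2.fromSpec_app_self, Category.assoc, Scheme.Hom.naturality,
        ← Category.assoc, ← Category.assoc, Scheme.ΓSpecIso_inv_naturality]
      rfl
    let φ := (Scheme.ΓSpecIso (CommRingCat.of (Γ(S, U) ⧸ H))).inv ≫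
        (Spec (CommRingCat.of (Γ(S, U) ⧸ H))).presheaf.map (eqToHom (by
          rw [Scheme.Hom.comp_preimage, U.2.fromSpec_preimage_self]; rfl :
            g ⁻¹ᵁ U.1 = ⊤)).op
    have h2 : Function.Injective φ.hom := (asIso φ).commRingCatIsoToRingEquiv.injective
    rw [h1]
    ext s
    have h3 : φ.hom (Ideal.Quotient.mk H s) = 0 ↔ Ideal.Quotient.mk H s = 0 :=
      map_eq_zero_iff φ.hom h2
    exact h3.trans Ideal.Quotient.eq_zero_iff_mem
  obtain ⟨J, hJI, hJ, hJU⟩ := h g.ker U U.2.isCompact fun V hV => by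
    rw [← g.ker.map_ideal hV, hg]
    exact Ideal.FG.map hH _
  exact ⟨J, hJ, (hJU U le_rfl).trans hg⟩

section Glue

variable {ι : Type*} (U : ι → S.affineOpens)
  (P : ∀ a, Ideal Γ(S, (U a : S.Opens)) → Ideal Γ(S, (U a : S.Opens)) → Prop)

/-- One step of a stratification: the stratum `supp I \ supp J` lies in `U a` and satisfies `P`. -/
def Step (I J : S.IdealSheafData) : Prop :=
  I ≤ J ∧ FT I ∧ ∃ a, (I.support : Set S) \ (J.support : Set S) ⊆ ((U a : S.Opens) : Set S) ∧
    P a (I.ideal (U a)) (J.ideal (U a))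

theorem reflTransGen_of_fin {α : Type*} (r : α → α → Prop) (n : ℕ) (G : Fin (n + 1) → α)
    (h : ∀ i : Fin n, r (G i.castSucc) (G i.succ)) : Relation.ReflTransGen r (G 0) (G (Fin.last n)) := by
  induction n with
  | zero => exact Relation.ReflTransGen.refl
  | succ n ih =>
    refine Relation.ReflTransGen.head (b := G 1) (h 0) ?_
    have := ih (fun i => G i.succ) fun i => by
      have := h i.succ
      rwa [← Fin.succ_castSucc] at this
    rwa [Fin.succ_last] at this

theorem exists_fin_of_reflTransGen {α : Type*} (r : α → α → Prop) {x y : α}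
    (h : Relation.ReflTransGen r x y) : ∃ (n : ℕ) (G : Fin (n + 1) → α), G 0 = x ∧
      G (Fin.last n) = y ∧ ∀ i : Fin n, r (G i.castSucc) (G i.succ) := by
  induction h using Relation.ReflTransGen.head_induction_on with
  | refl => exact ⟨0, fun _ => y, rfl, rfl, fun i => i.elim0⟩
  | head hab _ ih =>
    obtain ⟨n, G, h0, h1, h2⟩ := ih
    refine ⟨n + 1, Fin.cons _ G, Fin.cons_zero _ _, ?_, fun i => ?_⟩
    · rw [← Fin.succ_last, Fin.cons_succ]
      exact h1
    · refine Fin.cases ?_ (fun i => ?_) i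
      · simp only [Fin.castSucc_zero, Fin.cons_zero, Fin.cons_succ]
        rw [h0]
        exact hab
      · simp only [Fin.cons_succ, ← Fin.succ_castSucc]
        exact h2 i

/-- The gluing step. -/
theorem glue_step [QuasiSeparatedSpace S] (hext : ExtProp S)
    (hmono : ∀ a I I' J J', P a I J → I ≤ I' → J' ≤ (J ⊔ I').radical → P a I' J')
    (htop : ∀ a J, P a ⊤ J)
    (a : ι) (hchain : ∃ (t : ℕ) (H : Fin (t + 1) → Ideal Γ(S, (U a : S.Opens))), Monotone H ∧
      H (Fin.last t) = ⊤ ∧ (∀ i, (H i).FG) ∧ H 0 ≤ nilradical _ ∧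
      ∀ i : Fin t, P a (H i.castSucc) (H i.succ))
    (W : S.Opens) (hW : IsCompact (W : Set S)) (I₀ : S.IdealSheafData) (hI₀ : FT I₀)
    (hI₀' : (I₀.support : Set S) = ((W ⊔ (U a : S.Opens) : S.Opens) : Set S)ᶜ) :
    ∃ X : S.IdealSheafData, FT X ∧ (X.support : Set S) = (W : Set S)ᶜ ∧
      Relation.ReflTransGen (Step U P) X I₀ := by
  obtain ⟨t, H, hHmono, hHlast, hHfg, hH0, hHP⟩ := hchain
  obtain ⟨K, hK, hKs⟩ := exists_ft_support hext W hW
  choose H' hH' hH'U using fun i => exists_ft_ideal_eq hext (U a) (H i) (hHfg i)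
  let H'' : Fin (t + 1) → S.IdealSheafData := fun i => ⨆ j : {j : Fin (t + 1) // j ≤ i}, H' j
  have hH'' : ∀ i, FT (H'' i) := fun i => FT.iSup fun j => hH' j
  have hH''mono : Monotone H'' := fun i j hij =>
    iSup_le fun k => le_iSup (fun l : {l : Fin (t + 1) // l ≤ j} => H' l) ⟨k, k.2.trans hij⟩
  have hH''U : ∀ i, (H'' i).ideal (U a) = H i := fun i => by
    rw [Scheme.IdealSheafData.ideal_iSup, iSup_apply]
    simp only [hH'U]
    exact le_antisymm (iSup_le fun k => hHmono k.2)
      (le_iSup (fun l : {l : Fin (t + 1) // l ≤ i} => H l) ⟨i, le_rfl⟩)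
  have hI₀U : I₀.ideal (U a) = ⊤ := ideal_eq_top_of_disjoint _ _ (by
    rw [hI₀']
    exact disjoint_compl_left.mono_right (le_sup_right : (U a : S.Opens) ≤ W ⊔ (U a : S.Opens)))
  let G : Fin (t + 1) → S.IdealSheafData := fun i => (K ⊔ H'' i) * I₀
  have hGU : ∀ i, (G i).ideal (U a) = K.ideal (U a) ⊔ H i := fun i => by
    rw [Scheme.IdealSheafData.ideal_mul, Pi.mul_apply, Scheme.IdealSheafData.ideal_sup,
      Pi.sup_apply, hI₀U, hH''U, Ideal.mul_top]
  have hGFT : ∀ i, FT (G i) := fun i => (hK.sup (hH'' i)).mul hI₀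
  have hGmono : Monotone G := fun i j hij => by
    intro V
    simp only [G, Scheme.IdealSheafData.ideal_mul, Pi.mul_apply, Scheme.IdealSheafData.ideal_sup,
      Pi.sup_apply]
    exact Ideal.mul_mono_left (sup_le_sup_left (hH''mono hij V) _)
  have hGs : ∀ i, ((G i).support : Set S) =
      ((K.support : Set S) ∩ ((H'' i).support : Set S)) ∪ (I₀.support : Set S) := fun i => by
    simp only [G, Scheme.IdealSheafData.support_mul, Scheme.IdealSheafData.support_sup]
    rfl
  have hdiff : ∀ i, ((G i).support : Set S) \ (I₀.support : Set S) ⊆ ((U a : S.Opens) : Set S) := by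
    intro i x hx
    rw [hGs, hKs] at hx
    obtain ⟨h1 | h1, h2⟩ := hx
    · rw [hI₀', Set.mem_compl_iff, not_not] at h2
      rcases h2 with h2 | h2
      · exact absurd h2 h1.1
      · exact h2
    · exact absurd h1 h2
  refine ⟨G 0, hGFT 0, ?_, ?_⟩
  · rw [hGs, hKs, hI₀']
    apply Set.Subset.antisymm
    · rintro x (hx | hx)
      · exact hx.1
      · exact fun h => hx (Or.inl h)
    · intro x hx
      by_cases hxU : x ∈ (U a : S.Opens)
      · refine Or.inl ⟨hx, ?_⟩
        refine subset_support_of_le_nilradical (H'' 0) (U a) ?_ hxU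
        rw [hH''U]
        exact hH0
      · refine Or.inr ?_
        rintro (h | h)
        · exact hx h
        · exact hxU h
  · refine Relation.ReflTransGen.tail (b := G (Fin.last t)) ?_ ?_
    · refine reflTransGen_of_fin _ t G fun i => ⟨hGmono (Fin.castSucc_le_succ i), hGFT _, a, ?_, ?_⟩
      · refine Set.Subset.trans (Set.sdiff_subset_sdiff_right ?_) (hdiff i.castSucc)
        rw [hGs]
        exact Set.subset_union_right
      · rw [hGU, hGU]
        refine hmono a _ _ _ _ (hHP i) le_sup_right (le_trans ?_ Ideal.le_radical)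
        exact sup_le (le_sup_left.trans le_sup_right) le_sup_left
    · refine ⟨?_, hGFT _, a, hdiff _, ?_⟩
      · intro V
        change (K ⊔ H'' (Fin.last t)).ideal V * I₀.ideal V ≤ I₀.ideal V
        exact Ideal.mul_le_right (I := (K ⊔ H'' (Fin.last t)).ideal V) (J := I₀.ideal V)
      · rw [hGU, hHlast, sup_top_eq]
        exact htop a _

/-- The gluing theorem. -/
theorem glue [QuasiSeparatedSpace S] (hext : ExtProp S)
    (hmono : ∀ a I I' J J', P a I J → I ≤ I' → J' ≤ (J ⊔ I').radical → P a I' J')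
    (htop : ∀ a J, P a ⊤ J)
    (hchain : ∀ a, ∃ (t : ℕ) (H : Fin (t + 1) → Ideal Γ(S, (U a : S.Opens))), Monotone H ∧
      H (Fin.last t) = ⊤ ∧ (∀ i, (H i).FG) ∧ H 0 ≤ nilradical _ ∧
      ∀ i : Fin t, P a (H i.castSucc) (H i.succ)) (s : Finset ι)
    (W : S.Opens) (hW : IsCompact (W : Set S)) (hWs : W ⊔ ⨆ a ∈ s, (U a : S.Opens) = ⊤) :
    ∃ X : S.IdealSheafData, FT X ∧ (X.support : Set S) = (W : Set S)ᶜ ∧
      Relation.ReflTransGen (Step U P) X ⊤ := by
  classical
  induction s using Finset.induction_on generalizing W with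
  | empty =>
    have hW' : W = ⊤ := by simpa using hWs
    subst hW'
    refine ⟨⊤, FT.top, ?_, Relation.ReflTransGen.refl⟩
    rw [Scheme.IdealSheafData.support_top]
    simp
  | insert a s _ ih =>
    obtain ⟨I₀, hI₀, hI₀s, hI₀r⟩ := ih (W ⊔ (U a : S.Opens)) (by
      rw [Opens.coe_sup]; exact hW.union (U a).2.isCompact) (by
      rw [← hWs, Finset.iSup_insert, sup_assoc])
    obtain ⟨X, hX, hXs, hXr⟩ := glue_step U P hext hmono htop a (hchain a) W hW I₀ hI₀ hI₀s
    exact ⟨X, hX, hXs, hXr.trans hI₀r⟩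

/-- The gluing theorem, final form. -/
theorem exists_stratification [QuasiSeparatedSpace S] [Finite ι] (hext : ExtProp S)
    (hmono : ∀ a I I' J J', P a I J → I ≤ I' → J' ≤ (J ⊔ I').radical → P a I' J')
    (htop : ∀ a J, P a ⊤ J)
    (hchain : ∀ a, ∃ (t : ℕ) (H : Fin (t + 1) → Ideal Γ(S, (U a : S.Opens))), Monotone H ∧
      H (Fin.last t) = ⊤ ∧ (∀ i, (H i).FG) ∧ H 0 ≤ nilradical _ ∧
      ∀ i : Fin t, P a (H i.castSucc) (H i.succ)) (hU : ⨆ a, (U a : S.Opens) = ⊤) :
    ∃ (t : ℕ) (I : Fin (t + 1) → S.IdealSheafData), Monotone I ∧ I (Fin.last t) = ⊤ ∧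
      ((I 0).support : Set S) = Set.univ ∧ (∀ i, FT (I i)) ∧
      ∀ i : Fin t, ∃ a, ((I i.castSucc).support : Set S) \ ((I i.succ).support : Set S) ⊆
        ((U a : S.Opens) : Set S) ∧ P a ((I i.castSucc).ideal (U a)) ((I i.succ).ideal (U a)) := by
  cases nonempty_fintype ι
  obtain ⟨X, hX, hXs, hXr⟩ := glue U P hext hmono htop hchain Finset.univ ⊥ (by simp) (by
    simpa using hU)
  obtain ⟨n, G, h0, h1, h2⟩ := exists_fin_of_reflTransGen _ hXr
  refine ⟨n, G, ?_, h1, ?_, fun i => ?_, fun i => (h2 i).2.2⟩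
  · rw [Fin.monotone_iff_le_succ]
    exact fun i => (h2 i).1
  · rw [h0, hXs]; simp
  · rcases Fin.eq_castSucc_or_eq_last i with ⟨j, rfl⟩ | rfl
    · exact (h2 j).2.1
    · rw [h1]; exact FT.top

end Glue

end Groth.Agent.Flat2G.StratGlue
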