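import Groth.Agent.Flat2G.StratField
import Groth.Agent.FlatA.ClosedFP

/-!
# Spreading out smooth stratifications

If `π : Z ⟶ Spec R` is of finite presentation and has a smooth stratification over a localization `L` of `R` at a
submonoid `M`, then it has one over `R[1/m]` for some `m ∈ M`.
-/

set_option autoImplicit false
universe u

open AlgebraicGeometry CategoryTheory Limits TopologicalSpace

namespace Groth.Agent.Flat2G.StratSpread

open Groth.Agent.Flat2G.StratBase Groth.Agent.Divis.IdealComap Groth.Agent.Divis.IdealFT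
  Groth.Agent.Flat2G.StratField

variable {R : Type u} [CommRing R] (M : Submonoid R) (L : Type u) [CommRing L] [Algebra R L]

variable (R) in
/-- The morphism `Spec L ⟶ Spec R`. -/
noncomputable abbrev specRL : Spec (CommRingCat.of L) ⟶ Spec (CommRingCat.of R) :=
  Spec.map (CommRingCat.ofHom (algebraMap R L))

variable {Z : Scheme.{u}} (π : Z ⟶ Spec (CommRingCat.of R))

/-- Up to units, all sections over the inverse image of an affine open come from the affine open. -/
lemma exists_mul_mem_range [IsLocalization M L] (O : Z.Opens) (hO : IsAffineOpen O)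
    (V : (pullback π (specRL R L)).Opens) (hV : V = pullback.fst π (specRL R L) ⁻¹ᵁ O)
    (b : Γ(pullback π (specRL R L), V)) :
    ∃ u : Γ(pullback π (specRL R L), V), IsUnit u ∧
      u * b ∈ Set.range ((pullback.fst π (specRL R L)).appLE O V hV.le).hom := by
  have H := IsPullback.of_hasPullback π (specRL R L)
  have hUY : V = pullback.fst π (specRL R L) ⁻¹ᵁ O ⊓ pullback.snd π (specRL R L) ⁻¹ᵁ ⊤ := by simp [hV]
  have h1 := (isIso_pushoutSection_iff ..).mp
    (isIso_pushoutSection_of_isAffineOpen H (US := ⊤) (UT := ⊤) (UX := O) (by simp) (by simp) hUY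
    (isAffineOpen_top _) (isAffineOpen_top _) hO)
  have hb := mem_closure_of_isPushout h1 b
  let secR : R →+* Γ(Z, O) := ((Scheme.ΓSpecIso (CommRingCat.of R)).inv ≫ π.appLE ⊤ O le_top).hom
  let secL : L →+* Γ(pullback π (specRL R L), V) :=
    ((Scheme.ΓSpecIso (CommRingCat.of L)).inv ≫ (pullback.snd π (specRL R L)).appLE ⊤ V le_top).hom
  have hsec : ((pullback.fst π (specRL R L)).appLE O V hV.le).hom.comp secR = secL.comp (algebraMap R L) := by
    have e4 : (⊤ : (Spec (CommRingCat.of L)).Opens) ≤ specRL R L ⁻¹ᵁ ⊤ := le_top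
    have key : π.appLE ⊤ O le_top ≫ (pullback.fst π (specRL R L)).appLE O V hV.le =
        (specRL R L).appLE ⊤ ⊤ e4 ≫ (pullback.snd π (specRL R L)).appLE ⊤ V le_top := by
      rw [Scheme.Hom.appLE_comp_appLE, Scheme.Hom.appLE_comp_appLE]
      congr 1
      exact pullback.condition
    have h2 := Scheme.ΓSpecIso_inv_naturality (CommRingCat.ofHom (algebraMap R L))
    have h3 : (Scheme.ΓSpecIso (CommRingCat.of R)).inv ≫ (specRL R L).appLE ⊤ ⊤ e4 =
        CommRingCat.ofHom (algebraMap R L) ≫ (Scheme.ΓSpecIso (CommRingCat.of L)).inv := by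
      rw [h2, Scheme.Hom.appTop, ← Scheme.Hom.appLE_eq_app]
      rfl
    have h4 : ((Scheme.ΓSpecIso (CommRingCat.of R)).inv ≫ π.appLE ⊤ O le_top) ≫
        (pullback.fst π (specRL R L)).appLE O V hV.le = CommRingCat.ofHom (algebraMap R L) ≫
        ((Scheme.ΓSpecIso (CommRingCat.of L)).inv ≫ (pullback.snd π (specRL R L)).appLE ⊤ V le_top) := by
      rw [Category.assoc, key, reassoc_of% h3]
    exact congr(($h4).hom)
  have hu : ∀ m ∈ M, IsUnit (secL (algebraMap R L m)) := fun m hm ↦
    (IsLocalization.map_units L (⟨m, hm⟩ : M)).map secL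
  suffices H : ∃ m ∈ M, secL (algebraMap R L m) * b ∈
      Set.range ((pullback.fst π (specRL R L)).appLE O V hV.le).hom by
    obtain ⟨m, hm, h⟩ := H
    exact ⟨_, hu m hm, h⟩
  have hR (r : R) : ((pullback.fst π (specRL R L)).appLE O V hV.le).hom (secR r) =
      secL (algebraMap R L r) := congr($hsec r)
  induction hb using Subring.closure_induction with
  | mem x hx =>
    rcases hx with ⟨a, rfl⟩ | ⟨c, rfl⟩
    · exact ⟨1, one_mem _, a, by simp⟩
    · set l := (Scheme.ΓSpecIso (CommRingCat.of L)).hom.hom c with hl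
      have hc : c = (Scheme.ΓSpecIso (CommRingCat.of L)).inv.hom l := by
        rw [hl, ← RingHom.comp_apply, ← CommRingCat.hom_comp, Iso.hom_inv_id]
        rfl
      obtain ⟨⟨r, m⟩, h⟩ := IsLocalization.surj M l
      refine ⟨m, m.2, secR r, ?_⟩
      rw [hR, ← h, hc, map_mul, mul_comm]
      rfl
  | zero => exact ⟨1, one_mem _, 0, by simp⟩
  | one => exact ⟨1, one_mem _, 1, by simp⟩
  | add x y _ _ hx hy =>
    obtain ⟨m, hm, a, ha⟩ := hx
    obtain ⟨n, hn, b, hb⟩ := hy
    refine ⟨m * n, mul_mem hm hn, secR n * a + secR m * b, ?_⟩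
    rw [map_add, map_mul, map_mul, ha, hb, hR, hR, map_mul, map_mul]
    ring
  | neg x _ hx =>
    obtain ⟨m, hm, a, ha⟩ := hx
    exact ⟨m, hm, -a, by rw [map_neg, ha, mul_neg]⟩
  | mul x y _ _ hx hy =>
    obtain ⟨m, hm, a, ha⟩ := hx
    obtain ⟨n, hn, b, hb⟩ := hy
    refine ⟨m * n, mul_mem hm hn, a * b, ?_⟩
    rw [map_mul, ha, hb, map_mul, map_mul]
    ring

/-- Ideal sheaves on a localization are inverse images of their direct images. -/
lemma comap_map_of_isLocalization [IsLocalization M L] (J : (pullback π (specRL R L)).IdealSheafData) :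
    (J.map (pullback.fst π (specRL R L))).comap (pullback.fst π (specRL R L)) = J := by
  have ha1 : IsAffineHom (pullback.fst π (specRL R L)) := MorphismProperty.pullback_fst _ _ inferInstance
  refine comap_map_eq J (pullback.fst π (specRL R L)) (fun U : Z.affineOpens ↦ U)
    (fun U ↦ ⟨pullback.fst π (specRL R L) ⁻¹ᵁ U.1, U.2.preimage _⟩) (fun _ ↦ rfl) ?_ ?_
  · rw [← top_le_iff]
    intro x _
    obtain ⟨U, hU, hxU, -⟩ := exists_isAffineOpen_mem_and_subset (U := ⊤)
      (x := pullback.fst π (specRL R L) x) trivial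
    exact Opens.mem_iSup.mpr ⟨⟨U, hU⟩, hxU⟩
  · intro U b hb
    obtain ⟨u, hu, h⟩ := exists_mul_mem_range M L π U.1 U.2 _ rfl b
    have h1 : u * b ∈ Ideal.span {b | b ∈ J.ideal ⟨pullback.fst π (specRL R L) ⁻¹ᵁ U.1, U.2.preimage _⟩ ∧
        b ∈ Set.range ((pullback.fst π (specRL R L)).appLE U.1 _ le_rfl).hom} :=
      Ideal.subset_span ⟨Ideal.mul_mem_left _ _ hb, h⟩
    exact (Ideal.unit_mul_mem_iff_mem _ hu).mp h1

/-- Extension of a chain of finite type ideal sheaves from the localization. -/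
lemma exists_chain [CompactSpace Z] [QuasiSeparatedSpace Z] [IsLocalization M L] (t : ℕ)
    (J : Fin (t + 1) → (pullback π (specRL R L)).IdealSheafData) (hmono : Monotone J)
    (hlast : J (Fin.last t) = ⊤)
    (hfg : ∀ i, ∀ O : (pullback π (specRL R L)).affineOpens, ((J i).ideal O).FG) :
    ∃ J' : Fin (t + 1) → Z.IdealSheafData, Monotone J' ∧ J' (Fin.last t) = ⊤ ∧
      (∀ i, ∀ O : Z.affineOpens, ((J' i).ideal O).FG) ∧
      ∀ i, (J' i).comap (pullback.fst π (specRL R L)) = J i := by
  classical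
  have ha1 : IsAffineHom (pullback.fst π (specRL R L)) := MorphismProperty.pullback_fst _ _ inferInstance
  set p := pullback.fst π (specRL R L) with hp
  have hJ (i) : ((J i).map p).comap p = J i := comap_map_of_isLocalization M L π (J i)
  obtain ⟨s, hs⟩ := exists_finset_affine_cover Z
  have hK : ∀ i, ∃ K : Z.IdealSheafData, (∀ O : Z.affineOpens, (K.ideal O).FG) ∧ K.comap p = J i ∧
      (i = Fin.last t → K = ⊤) := by
    intro i
    by_cases hi : i = Fin.last t
    · subst hi
      refine ⟨⊤, fun O ↦ ?_, ?_, fun _ ↦ rfl⟩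
      · rw [Scheme.IdealSheafData.ideal_top]
        exact ⟨{1}, by simp⟩
      · rw [hlast, Scheme.IdealSheafData.comap_top]
    have h1 : ∀ U : s, ∃ I ≤ ((J i).map p).ideal U.1, I.FG ∧
        I.map (p.appLE U.1.1 (p ⁻¹ᵁ U.1.1) le_rfl).hom =
        (((J i).map p).ideal U.1).map (p.appLE U.1.1 (p ⁻¹ᵁ U.1.1) le_rfl).hom := by
      intro U
      refine exists_fg_map_eq _ _ ?_
      have h2 := ideal_comap ((J i).map p) p U.1 ⟨p ⁻¹ᵁ U.1.1, U.1.2.preimage p⟩ le_rfl
      rw [← h2, hJ]
      exact hfg i _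
    choose I hI1 hI2 hI3 using h1
    obtain ⟨K, hK1, hK2, hK3⟩ := exists_ft_mem_family ((J i).map p) (fun U : s ↦ U.1) I hI2 hI1
    refine ⟨K, hK2, ?_, fun h ↦ absurd h hi⟩
    apply le_antisymm
    · rw [← hJ i]
      exact Scheme.IdealSheafData.comap_mono p hK1
    · refine Scheme.IdealSheafData.le_of_iSup_eq_top (fun U : s ↦ ⟨p ⁻¹ᵁ U.1.1, U.1.2.preimage p⟩) ?_ ?_
      · rw [← top_le_iff]
        intro x _
        obtain ⟨k, hk⟩ := Opens.mem_iSup.mp (hs.ge (show p x ∈ (⊤ : Z.Opens) from trivial))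
        exact Opens.mem_iSup.mpr ⟨k, hk⟩
      · intro U
        rw [← hJ i, ideal_comap ((J i).map p) p U.1 ⟨p ⁻¹ᵁ U.1.1, U.1.2.preimage p⟩ le_rfl, ← hI3,
          ideal_comap K p U.1 ⟨p ⁻¹ᵁ U.1.1, U.1.2.preimage p⟩ le_rfl]
        exact Ideal.map_mono (hK3 U)
  choose K hK1 hK2 hK3 using hK
  refine ⟨fun i ↦ ⨆ j : {j // j ≤ i}, K j.1, ?_, ?_, ?_, ?_⟩
  · intro i i' hii
    exact iSup_le fun j ↦ le_iSup (fun j : {j // j ≤ i'} ↦ K j.1) ⟨j.1, j.2.trans hii⟩
  · rw [← top_le_iff]
    have := hK3 (Fin.last t) rfl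
    rw [← this]
    exact le_iSup (fun j : {j // j ≤ Fin.last t} ↦ K j.1) ⟨Fin.last t, le_rfl⟩
  · intro i O
    change ((⨆ j : {j // j ≤ i}, K j.1 : Z.IdealSheafData).ideal O).FG
    rw [Scheme.IdealSheafData.ideal_iSup, iSup_apply]
    exact Submodule.fg_iSup _ fun j ↦ hK1 j.1 O
  · intro i
    change (⨆ j : {j // j ≤ i}, K j.1 : Z.IdealSheafData).comap p = J i
    rw [(Scheme.IdealSheafData.map_gc p).l_iSup]
    apply le_antisymm
    · exact iSup_le fun j ↦ (hK2 j.1).trans_le (hmono j.2)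
    · rw [← hK2 i]
      exact le_iSup (fun j : {j // j ≤ i} ↦ (K j.1).comap p) ⟨i, le_rfl⟩

/-- The complement of the support of a finite type ideal sheaf is quasi-compact. -/
lemma isCompact_support_compl [CompactSpace Z] (I : Z.IdealSheafData)
    (hI : ∀ O : Z.affineOpens, (I.ideal O).FG) : IsCompact ((I.support.compl : Z.Opens) : Set Z) := by
  obtain ⟨s, hs⟩ := exists_finset_affine_cover Z
  have key : ((I.support.compl : Z.Opens) : Set Z) = ⋃ U : s, ((I.support : Set Z)ᶜ ∩ U.1.1) := by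
    rw [← Set.inter_iUnion]
    have : ⋃ U : s, ((U.1.1 : Z.Opens) : Set Z) = Set.univ := by
      rw [← Opens.coe_iSup, hs]; rfl
    rw [this, Set.inter_univ]
    rfl
  rw [key]
  refine isCompact_iUnion fun U ↦ ?_
  obtain ⟨T, hT⟩ := hI U.1
  have h2 : ((I.support : Set Z)ᶜ ∩ U.1.1) = ⋃ f ∈ T, (Z.basicOpen f : Set Z) := by
    have h3 := I.coe_support_inter U.1
    rw [← hT, Scheme.zeroLocus_span] at h3
    ext x
    have h4 : x ∈ (I.support : Set Z) ∩ U.1.1 ↔ x ∈ Z.zeroLocus (U := U.1.1) (T : Set _) ∩ U.1.1 := by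
      rw [h3]
    simp only [Set.mem_inter_iff, Scheme.mem_zeroLocus_iff, Set.mem_compl_iff, Set.mem_iUnion] at h4 ⊢
    constructor
    · rintro ⟨hx, hxU⟩
      by_contra hne
      push Not at hne
      exact hx (h4.mpr ⟨fun f hf ↦ hne f hf, hxU⟩).1
    · rintro ⟨f, hf, hxf⟩
      exact ⟨fun hx ↦ (h4.mp ⟨hx, Z.basicOpen_le f hxf⟩).1 f hf hxf, Z.basicOpen_le f hxf⟩
  rw [h2]
  exact T.isCompact_biUnion fun f _ ↦ (U.1.2.basicOpen f).isCompact

/-- Strata of finite type ideal sheaves are quasi-compact. -/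
lemma compactSpace_strat [CompactSpace Z] (I J : Z.IdealSheafData)
    (hJ : ∀ O : Z.affineOpens, (J.ideal O).FG) : CompactSpace (strat I J) := by
  have h : IsCompact ((I.subschemeι ⁻¹ᵁ J.support.compl : I.subscheme.Opens) : Set I.subscheme) :=
    QuasiCompact.isCompact_preimage (f := I.subschemeι) _ J.support.compl.isOpen (isCompact_support_compl J hJ)
  exact isCompact_iff_compactSpace.mp h

/-- Strata of finite type ideal sheaves are locally of finite presentation. -/
lemma lfp_stratι (I J : Z.IdealSheafData) (hI : ∀ O : Z.affineOpens, (I.ideal O).FG) :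
    LocallyOfFinitePresentation (stratι I J) := by
  have := FlatA.ClosedFP.locallyOfFinitePresentation_subschemeι I hI
  infer_instance

/-- A closed subset missing the points of `Spec L` is killed by localizing at some `m ∈ M`. -/
lemma exists_mem_forall [IsLocalization M L] {T : Scheme.{u}} [CompactSpace T]
    (g : T ⟶ Spec (CommRingCat.of R)) (C : Set T) (hC : IsClosed C)
    (h : ∀ t ∈ C, g t ∉ Set.range (specRL R L)) :
    ∃ m ∈ M, ∀ t ∈ C, m ∈ PrimeSpectrum.asIdeal (g t) := by
  classical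
  obtain ⟨s, hs⟩ := exists_finset_affine_cover T
  have key : ∀ U : T.affineOpens, ∃ m ∈ M, ∀ t ∈ C, t ∈ U.1 → m ∈ PrimeSpectrum.asIdeal (g t) := by
    intro U
    obtain ⟨φ, hφ⟩ := Spec.map_surjective (U.2.fromSpec ≫ g)
    have hφ' : ∀ x : Spec Γ(T, U), g (U.2.fromSpec x) = PrimeSpectrum.comap φ.hom x := by
      intro x
      rw [← Scheme.Hom.comp_apply, ← hφ]
      rfl
    let C' : Set (PrimeSpectrum Γ(T, U)) := U.2.fromSpec ⁻¹' C
    have hC' : IsClosed C' := hC.preimage U.2.fromSpec.continuous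
    let I := PrimeSpectrum.vanishingIdeal C'
    have hI : PrimeSpectrum.zeroLocus (I : Set Γ(T, U)) = C' := by
      rw [PrimeSpectrum.zeroLocus_vanishingIdeal_eq_closure, hC'.closure_eq]
    by_cases hd : Disjoint (I : Set Γ(T, U)) (M.map φ.hom : Submonoid _)
    · exfalso
      obtain ⟨P, hP, hIP, hPd⟩ := Ideal.exists_le_prime_disjoint I _ hd
      let x : Spec Γ(T, U) := (⟨P, hP⟩ : PrimeSpectrum Γ(T, U))
      have hx : x ∈ C' := by rw [← hI]; exact hIP
      refine h _ hx ?_
      rw [hφ']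
      have h2 := PrimeSpectrum.localization_comap_range L M
      have h3 : PrimeSpectrum.comap φ.hom x ∈ Set.range (PrimeSpectrum.comap (algebraMap R L)) := by
        rw [h2]
        refine Set.disjoint_left.mpr fun m hm hm' ↦ ?_
        exact Set.disjoint_left.mp hPd (show φ.hom m ∈ (P : Set _) from hm') ⟨m, hm, rfl⟩
      exact h3
    · rw [Set.not_disjoint_iff] at hd
      obtain ⟨_, hm1, m, hm, rfl⟩ := hd
      refine ⟨m, hm, fun t htC htU ↦ ?_⟩
      have : t ∈ Set.range U.2.fromSpec := by rw [U.2.range_fromSpec]; exact htU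
      obtain ⟨x, rfl⟩ := this
      rw [hφ']
      exact (PrimeSpectrum.mem_vanishingIdeal _ _).mp hm1 x htC
  choose m hm hm' using key
  refine ⟨∏ U ∈ s, m U, prod_mem fun U _ ↦ hm U, fun t ht ↦ ?_⟩
  obtain ⟨⟨U, hU⟩, htU⟩ := Opens.mem_iSup.mp (hs.ge (show t ∈ (⊤ : T.Opens) from trivial))
  exact Ideal.mem_of_dvd _ (Finset.dvd_prod_of_mem m hU) (hm' U t ht htU)

lemma flat_specRL [IsLocalization M L] : Flat (specRL R L) := by
  rw [Flat.SpecMap_iff, CommRingCat.hom_ofHom, RingHom.flat_algebraMap_iff]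
  exact IsLocalization.flat L M

lemma isPreimmersion_specRL [IsLocalization M L] : IsPreimmersion (specRL R L) :=
  IsPreimmersion.of_isLocalization M

lemma isIso_stalkMap {T T' : Scheme.{u}} (q : T' ⟶ T) [Flat q] [IsPreimmersion q] (t : T') :
    IsIso (q.stalkMap t) := by
  have h1 : Function.Surjective (q.stalkMap t) := q.stalkMap_surjective t
  have h2 : (q.stalkMap t).hom.Flat := Flat.stalkMap q t
  have h3 : Function.Injective (q.stalkMap t).hom := by
    algebraize [(q.stalkMap t).hom]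
    have : IsLocalHom (algebraMap (T.presheaf.stalk (q t)) (T'.presheaf.stalk t)) :=
      inferInstanceAs (IsLocalHom (q.stalkMap t).hom)
    have := Module.FaithfullyFlat.of_flat_of_isLocalHom (A := T.presheaf.stalk (q t))
      (B := T'.presheaf.stalk t)
    exact FaithfulSMul.algebraMap_injective (T.presheaf.stalk (q t)) (T'.presheaf.stalk t)
  rw [ConcreteCategory.isIso_iff_bijective]
  exact ⟨h3, h1⟩

/-- If `g : T ⟶ Spec R` is smooth over the localization `L` then it is smooth at all points over `Spec L`. -/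
lemma mem_smoothLocus [IsLocalization M L] {T : Scheme.{u}} (g : T ⟶ Spec (CommRingCat.of R))
    [LocallyOfFinitePresentation g] {T' : Scheme.{u}} {q : T' ⟶ T} {g' : T' ⟶ Spec (CommRingCat.of L)}
    (H : IsPullback q g' g (specRL R L)) [Smooth g'] (t : T) (ht : g t ∈ Set.range (specRL R L)) :
    t ∈ g.smoothLocus := by
  have := flat_specRL M L
  have := isPreimmersion_specRL M L
  have hq1 : Flat q := MorphismProperty.of_isPullback (P := @Flat) H.flip (flat_specRL M L)
  have hq2 : IsPreimmersion q := MorphismProperty.of_isPullback (P := @IsPreimmersion) H.flip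
    (isPreimmersion_specRL M L)
  obtain ⟨y, hy⟩ := ht
  obtain ⟨t', rfl, ht'⟩ := Scheme.exists_preimage_of_isPullback H t y hy.symm
  have := isIso_stalkMap q t'
  have := isIso_stalkMap (specRL R L) (g' t')
  have h1 : t' ∈ g'.smoothLocus := by rw [g'.smoothLocus_eq_top]; trivial
  rw [Scheme.Hom.mem_smoothLocus] at h1 ⊢
  have h2 : ((g' ≫ specRL R L).stalkMap t').hom.FormallySmooth := by
    rw [Scheme.Hom.stalkMap_comp]
    exact (RingHom.FormallySmooth.respectsIso.cancel_left_isIso ((specRL R L).stalkMap (g' t')) _).mpr h1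
  have h3 : ((q ≫ g).stalkMap t').hom.FormallySmooth := H.w ▸ h2
  rw [Scheme.Hom.stalkMap_comp] at h3
  exact (RingHom.FormallySmooth.respectsIso.cancel_right_isIso _ _).mp h3

/-- The morphism `Spec R[1/m] ⟶ Spec R`. -/
noncomputable abbrev specAway (m : R) : Spec (CommRingCat.of (Localization.Away m)) ⟶ Spec (CommRingCat.of R) :=
  Spec.map (CommRingCat.ofHom (algebraMap R (Localization.Away m)))

lemma notMem_specAway (m : R) (y : Spec (CommRingCat.of (Localization.Away m))) :
    m ∉ PrimeSpectrum.asIdeal (specAway m y) := by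
  have : specAway m y ∈ Set.range (PrimeSpectrum.comap (algebraMap R (Localization.Away m))) := ⟨y, rfl⟩
  rw [PrimeSpectrum.localization_away_comap_range (Localization.Away m) m] at this
  exact this

/-- Smoothness over `Spec R[1/m]` from smoothness at points. -/
lemma smooth_pullback_snd {T : Scheme.{u}} (g : T ⟶ Spec (CommRingCat.of R))
    [LocallyOfFinitePresentation g] (m : R)
    (h : ∀ t : T, m ∉ PrimeSpectrum.asIdeal (g t) → t ∈ g.smoothLocus) :
    Smooth (pullback.snd g (specAway m)) := by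
  have h1 : Smooth (pullback.fst g (specAway m) ≫ g) := by
    rw [← Scheme.Hom.smoothLocus_eq_top_iff, ← Scheme.Hom.preimage_smoothLocus_eq, ← top_le_iff]
    intro x _
    refine h _ ?_
    rw [← Scheme.Hom.comp_apply, pullback.condition, Scheme.Hom.comp_apply]
    exact notMem_specAway m _
  rw [pullback.condition] at h1
  have H : IsPullback (𝟙 _) (pullback.snd g (specAway m)) (pullback.snd g (specAway m) ≫ specAway m)
      (specAway m) := by
    exact IsPullback.of_horiz_isIso_mono ⟨by simp⟩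
  exact MorphismProperty.of_isPullback H h1

/-- Spreading out of smooth stratifications. -/
theorem exists_hasSmoothStrat [CompactSpace Z] [QuasiSeparatedSpace Z] [LocallyOfFinitePresentation π]
    [IsLocalization M L] (h : HasSmoothStrat (pullback.snd π (specRL R L))) :
    ∃ m ∈ M, HasSmoothStrat (pullback.snd π (specAway m)) := by
  classical
  obtain ⟨t, J, hmono, hlast, hsupp, hfg, hsm⟩ := h
  obtain ⟨J', hmono', hlast', hfg', hcomap⟩ := exists_chain M L π t J hmono hlast hfg
  have H := IsPullback.of_hasPullback π (specRL R L)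
  obtain ⟨m₀, hm₀, h₀⟩ : ∃ m ∈ M, ∀ z : Z, z ∉ (J' 0).support → m ∈ PrimeSpectrum.asIdeal (π z) := by
    have : CompactSpace ((J' 0).support.compl : Z.Opens) :=
      isCompact_iff_compactSpace.mp (isCompact_support_compl (J' 0) (hfg' 0))
    obtain ⟨m, hm, h⟩ := exists_mem_forall M L (Scheme.Opens.ι (J' 0).support.compl ≫ π) Set.univ isClosed_univ (by
      rintro t - ⟨y, hy⟩
      obtain ⟨z', hz', -⟩ := Scheme.exists_preimage_of_isPullback H
        (Scheme.Opens.ι (J' 0).support.compl t) y hy.symm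
      have h1 : z' ∈ ((J 0).support : Set _) := by rw [hsupp]; trivial
      rw [← hcomap 0, Scheme.IdealSheafData.support_comap] at h1
      refine t.2 ?_
      have h2 : pullback.fst π (specRL R L) z' ∈ (J' 0).support := h1
      rw [show pullback.fst π (specRL R L) z' = _ from hz'] at h2
      exact h2)
    exact ⟨m, hm, fun z hz ↦ h ⟨z, hz⟩ trivial⟩
  have h₁ : ∀ i : Fin t, ∃ m ∈ M, ∀ x : strat (J' i.castSucc) (J' i.succ),
      ∀ (_ : LocallyOfFinitePresentation (stratι (J' i.castSucc) (J' i.succ) ≫ π)),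
      x ∉ (stratι (J' i.castSucc) (J' i.succ) ≫ π).smoothLocus →
        m ∈ PrimeSpectrum.asIdeal ((stratι (J' i.castSucc) (J' i.succ) ≫ π) x) := by
    intro i
    have := compactSpace_strat (J' i.castSucc) (J' i.succ) (hfg' _)
    have := lfp_stratι (J' i.castSucc) (J' i.succ) (hfg' _)
    obtain ⟨q, Hq⟩ := exists_isPullback_strat_base H (J' i.castSucc) (J' i.succ)
    have : Smooth (stratι ((J' i.castSucc).comap (pullback.fst π (specRL R L)))
        ((J' i.succ).comap (pullback.fst π (specRL R L))) ≫ pullback.snd π (specRL R L)) := by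
      rw [hcomap, hcomap]
      exact hsm i
    obtain ⟨m, hm, h⟩ := exists_mem_forall M L (stratι (J' i.castSucc) (J' i.succ) ≫ π)
      ((stratι (J' i.castSucc) (J' i.succ) ≫ π).smoothLocus : Set _)ᶜ
      (stratι (J' i.castSucc) (J' i.succ) ≫ π).smoothLocus.isOpen.isClosed_compl (by
        intro x hx hx'
        exact hx (mem_smoothLocus M L _ Hq x hx'))
    exact ⟨m, hm, fun x _ hx ↦ h x hx⟩
  choose m₁ hm₁ h₁ using h₁
  refine ⟨m₀ * ∏ i, m₁ i, mul_mem hm₀ (prod_mem fun i _ ↦ hm₁ i), ?_⟩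
  refine HasSmoothStrat.of_isPullback_of_chain (IsPullback.of_hasPullback π (specAway (m₀ * ∏ i, m₁ i))) t J'
    hmono' hlast' ?_ hfg' ?_
  · intro z'
    by_contra hz
    have h2 := h₀ _ hz
    have h3 := notMem_specAway (m₀ * ∏ i, m₁ i) (pullback.snd π (specAway (m₀ * ∏ i, m₁ i)) z')
    rw [← Scheme.Hom.comp_apply, ← pullback.condition, Scheme.Hom.comp_apply] at h3
    exact h3 (Ideal.mul_mem_right _ _ h2)
  · intro i
    have := lfp_stratι (J' i.castSucc) (J' i.succ) (hfg' _)
    refine smooth_pullback_snd _ _ fun x hx ↦ ?_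
    by_contra hx'
    refine hx (Ideal.mul_mem_left _ _ ?_)
    exact Ideal.mem_of_dvd _ (Finset.dvd_prod_of_mem m₁ (Finset.mem_univ i)) (h₁ i x inferInstance hx')

end Groth.Agent.Flat2G.StratSpread
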