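import Groth.Agent.Flat2G.Versal
import Mathlib.AlgebraicGeometry.Morphisms.QuasiFinite
import Mathlib.AlgebraicGeometry.Morphisms.Finite
import Mathlib.AlgebraicGeometry.Morphisms.FinitePresentation
import Mathlib.AlgebraicGeometry.Morphisms.QuasiSeparated
import Mathlib.AlgebraicGeometry.Pullbacks
import Mathlib.AlgebraicGeometry.PullbackCarrier

/-!
# Universal finite opens

Flat2G / helper446.
-/

set_option autoImplicit false
universe u

open AlgebraicGeometry CategoryTheory Limits TensorProduct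

namespace Groth.Agent.Flat2G.UnivFin

lemma isFinite_of_clopen {X T Y : Scheme.{u}} (j : X ⟶ T) [IsOpenImmersion j] (π : T ⟶ Y) [IsFinite π]
    (D : T.Opens) (hD : IsClosed (D : Set T)) (hDj : D ≤ j.opensRange) : IsFinite ((j ⁻¹ᵁ D).ι ≫ j ≫ π) := by
  have h1 : IsClosedImmersion D.ι := .of_isPreimmersion _ (by simpa using hD)
  have h2 : Surjective (j ∣_ D) := by
    refine ⟨fun ⟨x, hx⟩ => ?_⟩
    obtain ⟨y, rfl⟩ := hDj hx
    refine ⟨⟨y, hx⟩, Subtype.ext ?_⟩
    exact morphismRestrict_base_coe _ _ _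
  have h3 : IsIso (j ∣_ D) := by
    exact (isIso_iff_isOpenImmersion_and_surjective _).mpr ⟨inferInstance, h2⟩
  have h4 : (j ⁻¹ᵁ D).ι ≫ j ≫ π = (j ∣_ D) ≫ D.ι ≫ π := by
    rw [← Category.assoc, ← morphismRestrict_ι, Category.assoc]
  rw [h4]
  infer_instance

lemma isClosed_image_of_isFinite {X T Y : Scheme.{u}} (j : X ⟶ T) [IsOpenImmersion j] (π : T ⟶ Y) [IsFinite π]
    (U : X.Opens) (h : IsFinite (U.ι ≫ j ≫ π)) : IsClosed ((j ''ᵁ U : T.Opens) : Set T) := by
  have h1 : IsFinite (U.ι ≫ j) := by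
    rw [← Category.assoc] at h
    exact IsFinite.of_comp (U.ι ≫ j) π
  have h2 := (U.ι ≫ j).isClosedMap.isClosed_range
  convert! h2 using 1
  ext x
  constructor
  · rintro ⟨y, hy, rfl⟩
    exact ⟨⟨y, hy⟩, rfl⟩
  · rintro ⟨⟨y, hy⟩, rfl⟩
    exact ⟨y, hy, rfl⟩

section Ring

variable {A B C : Type u} [CommRing A] [CommRing B] [CommRing C] [Algebra A B] [Algebra A C] (j : C →ₐ[A] B)

/-- base change of `j : C → B` along `A → A'`. -/
noncomputable abbrev bc (A' : Type u) [CommRing A'] [Algebra A A'] : C ⊗[A] A' →ₐ[A] B ⊗[A] A' :=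
  Algebra.TensorProduct.map j (AlgHom.id A A')

lemma isPullback_tensor (A' : Type u) [CommRing A'] [Algebra A A'] :
    IsPullback (Spec.map (CommRingCat.ofHom (Algebra.TensorProduct.includeLeftRingHom : B →+* B ⊗[A] A')))
      (Spec.map (CommRingCat.ofHom (Algebra.TensorProduct.includeRight : A' →ₐ[A] B ⊗[A] A').toRingHom))
      (Spec.map (CommRingCat.ofHom (algebraMap A B))) (Spec.map (CommRingCat.ofHom (algebraMap A A'))) :=
  isPullback_SpecMap_of_isPushout _ _ _ _ (CommRingCat.isPushout_tensorProduct A B A')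

lemma isPullback_bc (A' : Type u) [CommRing A'] [Algebra A A'] :
    IsPullback (Spec.map (CommRingCat.ofHom (Algebra.TensorProduct.includeLeftRingHom : B →+* B ⊗[A] A')))
      (Spec.map (CommRingCat.ofHom (bc j A').toRingHom)) (Spec.map (CommRingCat.ofHom j.toRingHom))
      (Spec.map (CommRingCat.ofHom (Algebra.TensorProduct.includeLeftRingHom : C →+* C ⊗[A] A'))) := by
  refine IsPullback.of_bot (t := isPullback_tensor (A := A) (B := C) A') ?_ ?_
  · have h1 : Spec.map (CommRingCat.ofHom (bc j A').toRingHom) ≫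
        Spec.map (CommRingCat.ofHom (Algebra.TensorProduct.includeRight : A' →ₐ[A] C ⊗[A] A').toRingHom) =
        Spec.map (CommRingCat.ofHom (Algebra.TensorProduct.includeRight : A' →ₐ[A] B ⊗[A] A').toRingHom) := by
      rw [← Spec.map_comp, ← CommRingCat.ofHom_comp]
      congr 2
      ext x
      simp
    have h2 : Spec.map (CommRingCat.ofHom j.toRingHom) ≫ Spec.map (CommRingCat.ofHom (algebraMap A C)) =
        Spec.map (CommRingCat.ofHom (algebraMap A B)) := by
      rw [← Spec.map_comp, ← CommRingCat.ofHom_comp]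
      congr 2
      exact j.comp_algebraMap
    rw [h1, h2]
    exact isPullback_tensor A'
  · rw [← Spec.map_comp, ← Spec.map_comp, ← CommRingCat.ofHom_comp, ← CommRingCat.ofHom_comp]
    congr 2

instance isOpenImmersion_bc (A' : Type u) [CommRing A'] [Algebra A A']
    [IsOpenImmersion (Spec.map (CommRingCat.ofHom j.toRingHom))] :
    IsOpenImmersion (Spec.map (CommRingCat.ofHom (bc j A').toRingHom)) :=
  MorphismProperty.of_isPullback (P := @IsOpenImmersion) (isPullback_bc j A') inferInstance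

/-- A point of `Spec (C ⊗ A')` lies in the image of `Spec (B ⊗ A')` iff its image in `Spec C` lies in the image of
`Spec B`. -/
lemma mem_range_bc_iff (A' : Type u) [CommRing A'] [Algebra A A'] (P : Spec (.of (C ⊗[A] A'))) :
    P ∈ Set.range (Spec.map (CommRingCat.ofHom (bc j A').toRingHom)) ↔
      (Spec.map (CommRingCat.ofHom (Algebra.TensorProduct.includeLeftRingHom : C →+* C ⊗[A] A'))) P ∈
        Set.range (Spec.map (CommRingCat.ofHom j.toRingHom)) := by
  have h := isPullback_bc j A'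
  constructor
  · rintro ⟨Q, rfl⟩
    refine ⟨Spec.map (CommRingCat.ofHom (Algebra.TensorProduct.includeLeftRingHom : B →+* B ⊗[A] A')) Q, ?_⟩
    rw [← Scheme.Hom.comp_apply, ← Scheme.Hom.comp_apply, h.w]
  · rintro ⟨Q, hQ⟩
    obtain ⟨R, -, hR⟩ := Scheme.exists_preimage_of_isPullback h Q P hQ
    exact ⟨R, hR⟩

/-- The kernel criterion. -/
lemma basicOpen_subset_range_iff (A' : Type u) [CommRing A'] [Algebra A A'] (I : Ideal C)
    (hI : (PrimeSpectrum.zeroLocus (I : Set C))ᶜ = Set.range (Spec.map (CommRingCat.ofHom j.toRingHom)))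
    (e : C ⊗[A] A') (he : IsIdempotentElem e) :
    (PrimeSpectrum.basicOpen e : Set (PrimeSpectrum (C ⊗[A] A'))) ⊆
      Set.range (Spec.map (CommRingCat.ofHom (bc j A').toRingHom)) ↔
    Algebra.TensorProduct.map (Ideal.Quotient.mkₐ A I) (AlgHom.id A A') e = 0 := by
  constructor
  · intro h
    have h1 : IsIdempotentElem (Algebra.TensorProduct.map (Ideal.Quotient.mkₐ A I) (AlgHom.id A A') e) := he.map _
    have h2 : IsNilpotent (Algebra.TensorProduct.map (Ideal.Quotient.mkₐ A I) (AlgHom.id A A') e) := by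
      rw [nilpotent_iff_mem_prime]
      intro Q hQ
      by_contra hn
      let P : PrimeSpectrum (C ⊗[A] A') :=
        ⟨Q.comap (Algebra.TensorProduct.map (Ideal.Quotient.mkₐ A I) (AlgHom.id A A')).toRingHom, inferInstance⟩
      have hP : P ∈ (PrimeSpectrum.basicOpen e : Set (PrimeSpectrum (C ⊗[A] A'))) := hn
      have hP2 := (mem_range_bc_iff j A' P).mp (h hP)
      rw [← hI] at hP2
      apply hP2
      intro c hc
      change Algebra.TensorProduct.map (Ideal.Quotient.mkₐ A I) (AlgHom.id A A') (c ⊗ₜ 1) ∈ Q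
      rw [Algebra.TensorProduct.map_tmul, Ideal.Quotient.mkₐ_eq_mk, Ideal.Quotient.eq_zero_iff_mem.mpr hc,
        TensorProduct.zero_tmul]
      exact Q.zero_mem
    obtain ⟨n, hn⟩ := h2
    rcases Nat.eq_zero_or_pos n with rfl | hpos
    · rw [pow_zero] at hn
      have := subsingleton_of_zero_eq_one hn.symm
      exact Subsingleton.elim _ _
    · rwa [h1.pow_eq (by omega)] at hn
  · intro h P hP
    refine (mem_range_bc_iff j A' P).mpr ?_
    rw [← hI]
    intro hPI
    apply hP
    have h1 : RingHom.ker (Algebra.TensorProduct.map (Ideal.Quotient.mkₐ A I) (AlgHom.id A A')) =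
        I.map (Algebra.TensorProduct.includeLeft : C →ₐ[A] C ⊗[A] A') := by
      refine (Algebra.TensorProduct.rTensor_ker (R := A) (S := A) (C := A') (Ideal.Quotient.mkₐ A I)
        (Ideal.Quotient.mkₐ_surjective A I)).trans ?_
      congr 1
      exact Ideal.mk_ker
    have h2 : e ∈ RingHom.ker (Algebra.TensorProduct.map (Ideal.Quotient.mkₐ A I) (AlgHom.id A A')) := h
    rw [h1] at h2
    refine (Ideal.map_le_iff_le_comap.mpr ?_) h2
    intro c hc
    exact hPI hc

lemma Spec_includeRight_eq (A' : Type u) [CommRing A'] [Algebra A A'] :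
    Spec.map (CommRingCat.ofHom (Algebra.TensorProduct.includeRight : A' →ₐ[A] B ⊗[A] A').toRingHom) =
    Spec.map (CommRingCat.ofHom (bc j A').toRingHom) ≫
      Spec.map (CommRingCat.ofHom (Algebra.TensorProduct.includeRight : A' →ₐ[A] C ⊗[A] A').toRingHom) := by
  rw [← Spec.map_comp, ← CommRingCat.ofHom_comp]
  congr 2
  ext x
  simp

lemma isFinite_includeRight (A' : Type u) [CommRing A'] [Algebra A A'] [Module.Finite A C] :
    IsFinite (Spec.map (CommRingCat.ofHom
        (Algebra.TensorProduct.includeRight : A' →ₐ[A] C ⊗[A] A').toRingHom)) := by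
  have h1 : IsFinite (Spec.map (CommRingCat.ofHom (algebraMap A C))) := by
    rw [IsFinite.SpecMap_iff]
    exact RingHom.finite_algebraMap.mpr inferInstance
  exact MorphismProperty.of_isPullback (P := @IsFinite) (isPullback_tensor (A := A) (B := C) A') h1

theorem exists_versal [Module.Finite A C] [Algebra.FinitePresentation A C]
    [IsOpenImmersion (Spec.map (CommRingCat.ofHom j.toRingHom))] :
    ∃ (Au : Type u) (_ : CommRing Au) (_ : Algebra A Au) (e : B ⊗[A] Au), Algebra.FinitePresentation A Au ∧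
      IsFinite (Scheme.Opens.ι (X := Spec (.of (B ⊗[A] Au))) (PrimeSpectrum.basicOpen e) ≫
        Spec.map (CommRingCat.ofHom (Algebra.TensorProduct.includeRight : Au →ₐ[A] B ⊗[A] Au).toRingHom)) ∧
      ∀ (A' : Type u) [CommRing A'] [Algebra A A'] (U : (Spec (.of (B ⊗[A] A'))).Opens),
        IsFinite (U.ι ≫
          Spec.map (CommRingCat.ofHom (Algebra.TensorProduct.includeRight : A' →ₐ[A] B ⊗[A] A').toRingHom)) →
        ∃ φ : Au →ₐ[A] A', U = PrimeSpectrum.basicOpen (Algebra.TensorProduct.map (AlgHom.id A B) φ e) := by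
  obtain ⟨I, hIfg, hI⟩ := PrimeSpectrum.isCompact_isOpen_iff_ideal.mp
    (⟨isCompact_range (Spec.map (CommRingCat.ofHom j.toRingHom)).continuous,
      (Spec.map (CommRingCat.ofHom j.toRingHom)).isOpenEmbedding.isOpen_range⟩ :
      IsCompact (Set.range (Spec.map (CommRingCat.ofHom j.toRingHom))) ∧
        IsOpen (Set.range (Spec.map (CommRingCat.ofHom j.toRingHom))))
  have h1 : Algebra.FinitePresentation A (C ⧸ I) := Algebra.FinitePresentation.quotient hIfg
  have h2 : Module.FinitePresentation A (C ⧸ I) := Module.FinitePresentation.of_finite_of_finitePresentation A (C ⧸ I)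
  obtain ⟨A₁, _, _, e₁, hA₁, he₁, hA₁u⟩ := Groth.Agent.S1458.result (A := A) (B := C)
  obtain ⟨Au, _, _, ψ, hAu, hψ, hAuu⟩ := Versal.exists_versal_vanishing (A := A) (C ⧸ I) A₁
    (Algebra.TensorProduct.map (Ideal.Quotient.mkₐ A I) (AlgHom.id A A₁) e₁)
  let eu : C ⊗[A] Au := Algebra.TensorProduct.map (AlgHom.id A C) ψ e₁
  have hcomm : ∀ (R S : Type u) [CommRing R] [CommRing S] [Algebra A R] [Algebra A S] (φ : R →ₐ[A] S) (x : C ⊗[A] R),
      Algebra.TensorProduct.map (Ideal.Quotient.mkₐ A I) (AlgHom.id A S)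
        (Algebra.TensorProduct.map (AlgHom.id A C) φ x) =
      (φ.toLinearMap.lTensor (C ⧸ I)) (Algebra.TensorProduct.map (Ideal.Quotient.mkₐ A I) (AlgHom.id A R) x) := by
    intro R S _ _ _ _ φ x
    induction x with
    | zero => simp
    | tmul a b => simp
    | add a b ha hb => simp only [map_add, ha, hb]
  have hcommB : ∀ (R S : Type u) [CommRing R] [CommRing S] [Algebra A R] [Algebra A S] (φ : R →ₐ[A] S) (x : C ⊗[A] R),
      Algebra.TensorProduct.map (AlgHom.id A B) φ (bc j R x) =
      bc j S (Algebra.TensorProduct.map (AlgHom.id A C) φ x) := by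
    intro R S _ _ _ _ φ x
    induction x with
    | zero => simp
    | tmul a b => simp
    | add a b ha hb => simp only [map_add, ha, hb]
  have heu : IsIdempotentElem eu := he₁.map _
  have heu0 : Algebra.TensorProduct.map (Ideal.Quotient.mkₐ A I) (AlgHom.id A Au) eu = 0 := by
    rw [hcomm, hψ]
  refine ⟨Au, inferInstance, inferInstance, bc j Au eu, hAu, ?_, ?_⟩
  · have hfin := isFinite_includeRight (A := A) (C := C) Au
    rw [Spec_includeRight_eq j Au]
    exact isFinite_of_clopen (Spec.map (CommRingCat.ofHom (bc j Au).toRingHom)) _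
      (PrimeSpectrum.basicOpen eu) (PrimeSpectrum.isClopen_iff.mpr ⟨eu, heu, rfl⟩).1
      ((basicOpen_subset_range_iff j Au I hI eu heu).mpr heu0)
  · intro A' _ _ U hU
    have hfin := isFinite_includeRight (A := A) (C := C) A'
    rw [Spec_includeRight_eq j A'] at hU
    have hcl := isClosed_image_of_isFinite (Spec.map (CommRingCat.ofHom (bc j A').toRingHom)) _ U hU
    obtain ⟨e', he', hUe'⟩ := PrimeSpectrum.isClopen_iff.mp ⟨hcl, (Spec.map (CommRingCat.ofHom (bc j A').toRingHom) ''ᵁ U).2⟩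
    have he'0 : Algebra.TensorProduct.map (Ideal.Quotient.mkₐ A I) (AlgHom.id A A') e' = 0 := by
      rw [← basicOpen_subset_range_iff j A' I hI e' he', ← hUe']
      rintro _ ⟨x, -, rfl⟩
      exact ⟨x, rfl⟩
    obtain ⟨φ₁, hφ₁⟩ := hA₁u A' e' he'
    obtain ⟨φ, hφ⟩ := hAuu A' φ₁ (by rw [← hcomm, hφ₁, he'0])
    refine ⟨φ, ?_⟩
    have h3 : Algebra.TensorProduct.map (AlgHom.id A C) φ eu = e' := by
      rw [← hφ₁, ← hφ]
      simp only [eu]
      rw [← AlgHom.comp_apply, ← Algebra.TensorProduct.map_comp, AlgHom.id_comp]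
    rw [hcommB, h3]
    have h4 : U = (Spec.map (CommRingCat.ofHom (bc j A').toRingHom)) ⁻¹ᵁ
        (Spec.map (CommRingCat.ofHom (bc j A').toRingHom) ''ᵁ U) := (Scheme.Hom.preimage_image_eq _ _).symm
    have h5 : Spec.map (CommRingCat.ofHom (bc j A').toRingHom) ''ᵁ U = PrimeSpectrum.basicOpen e' :=
      TopologicalSpace.Opens.ext hUe'
    rw [h4, h5]
    rfl

end Ring

end Groth.Agent.Flat2G.UnivFin
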