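import Groth.Agent.S1458

/-!
# Versal vanishing in `M ⊗ A'`

Flat2G / helper446.
-/

set_option autoImplicit false
universe u

open TensorProduct

namespace Groth.Agent.Flat2G.Versal

variable {A : Type u} [CommRing A]

/-- Versal vanishing of an element of `M ⊗ P` for a finitely presented module `M`. -/
theorem exists_versal_vanishing (M : Type u) [AddCommGroup M] [Module A M] [Module.FinitePresentation A M]
    (P : Type u) [CommRing P] [Algebra A P] [Algebra.FinitePresentation A P] (w : M ⊗[A] P) :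
    ∃ (P₂ : Type u) (_ : CommRing P₂) (_ : Algebra A P₂) (ψ : P →ₐ[A] P₂), Algebra.FinitePresentation A P₂ ∧
      (ψ.toLinearMap.lTensor M) w = 0 ∧
      ∀ (A' : Type u) [CommRing A'] [Algebra A A'] (φ : P →ₐ[A] A'), (φ.toLinearMap.lTensor M) w = 0 →
        ∃ φ₂ : P₂ →ₐ[A] A', φ₂.comp ψ = φ := by
  obtain ⟨n, m, f, g, hf, hfg⟩ := Module.FinitePresentation.exists_fin' A M
  obtain ⟨y, rfl⟩ := Groth.Agent.S1458.exists_rep f hf w
  let b : Fin n → M := fun i => f (Pi.single i 1)
  have hrel : ∀ l, ∑ k, (g (Pi.single l 1) k) • b k = 0 := by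
    intro l
    have h1 : f (g (Pi.single l 1)) = 0 := (hfg _).2 ⟨_, rfl⟩
    conv_lhs at h1 => rw [← Finset.univ_sum_single (g (Pi.single l 1)), map_sum]
    rw [← h1]
    refine Finset.sum_congr rfl fun i _ => ?_
    simp only [b]
    rw [← map_smul]
    congr 1
    ext j
    by_cases h : j = i
    · subst h; simp
    · simp [Pi.single_eq_of_ne h]
  let Q : Type u := MvPolynomial (Fin m) P
  let rel : Fin n → Q := fun k => algebraMap P Q (y k) - ∑ l, algebraMap A Q (g (Pi.single l 1) k) * MvPolynomial.X l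
  let I : Ideal Q := Ideal.span (Set.range rel)
  have hI : I.FG := Submodule.fg_span (Set.finite_range rel)
  have hQ : Algebra.FinitePresentation A Q := Algebra.FinitePresentation.trans A P Q
  let ψ : P →ₐ[A] Q ⧸ I := (Ideal.Quotient.mkₐ A I).comp (IsScalarTower.toAlgHom A P Q)
  have hψy : ∀ k, ψ (y k) = ∑ l, algebraMap A (Q ⧸ I) (g (Pi.single l 1) k) *
      (Ideal.Quotient.mk I (MvPolynomial.X l)) := by
    intro k
    have h2 : Ideal.Quotient.mk I (rel k) = 0 := Ideal.Quotient.eq_zero_iff_mem.2 (Ideal.subset_span ⟨k, rfl⟩)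
    simp only [rel, map_sub, map_sum, map_mul] at h2
    rw [sub_eq_zero] at h2
    exact h2
  refine ⟨Q ⧸ I, inferInstance, inferInstance, ψ, Algebra.FinitePresentation.quotient hI, ?_, ?_⟩
  · simp only [map_sum, LinearMap.lTensor_tmul, AlgHom.toLinearMap_apply, hψy, TensorProduct.tmul_sum]
    rw [Finset.sum_comm]
    refine Finset.sum_eq_zero fun l _ => ?_
    have : ∀ k, f (Pi.single k 1) ⊗ₜ[A] (algebraMap A (Q ⧸ I) (g (Pi.single l 1) k) *
        Ideal.Quotient.mk I (MvPolynomial.X l)) =
        ((g (Pi.single l 1) k) • b k) ⊗ₜ[A] (Ideal.Quotient.mk I (MvPolynomial.X l)) := by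
      intro k
      rw [TensorProduct.smul_tmul]
      congr 1
      exact (Algebra.smul_def _ _).symm
    simp only [this]
    rw [← TensorProduct.sum_tmul, hrel, TensorProduct.zero_tmul]
  · intro A' _ _ φ hφ
    simp only [map_sum, LinearMap.lTensor_tmul, AlgHom.toLinearMap_apply] at hφ
    obtain ⟨a, ha⟩ := Groth.Agent.S1458.exists_coeff f hf g hfg _ hφ
    let Φ : Q →ₐ[A] A' := MvPolynomial.aevalTower φ a
    have hΦ : ∀ p ∈ I, Φ p = 0 := by
      intro p hp
      have : I ≤ RingHom.ker Φ.toRingHom := by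
        rw [Ideal.span_le]
        rintro _ ⟨k, rfl⟩
        simp only [SetLike.mem_coe, RingHom.mem_ker, AlgHom.toRingHom_eq_coe, RingHom.coe_coe]
        simp only [rel, map_sub, map_sum, map_mul, AlgHom.commutes]
        have h1 : Φ (algebraMap P Q (y k)) = φ (y k) := MvPolynomial.aevalTower_C φ a (y k)
        have h2 : ∀ l, Φ (MvPolynomial.X l) = a l := fun l => MvPolynomial.aevalTower_X φ a l
        simp only [h1, h2, ha k, sub_self]
      exact this hp
    refine ⟨Ideal.Quotient.liftₐ I Φ hΦ, ?_⟩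
    ext p
    change Φ (algebraMap P Q p) = φ p
    exact MvPolynomial.aevalTower_C φ a p

end Groth.Agent.Flat2G.Versal
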