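import Groth.Agent.Ega3B.LimInv4

/-!
# Noetherian models of `X ⟶ Y ⟶ S` with `X ⟶ Y` proper and `X ⟶ S` flat
-/

set_option autoImplicit false
universe u
open CategoryTheory Limits AlgebraicGeometry TopologicalSpace Opposite

namespace Groth.Agent.Flat2G.XYSModel

open Groth.Agent.CalgA.LimFP Groth.Agent.Ega3B.LimInv

attribute [local instance] Mdl.lfp Mdl.qc Mdl.qs

section Lim

variable {I : Type u} [SmallCategory I] {D : I ⥤ Scheme.{u}} {c : Cone D}
  [IsCofiltered I] [∀ (i j : I) (f : i ⟶ j), IsAffineHom (D.map f)] (hc : IsLimit c)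
  [∀ i, CompactSpace (D.obj i)] [∀ i, QuasiSeparatedSpace (D.obj i)]

include hc in
/-- `X ⟶ Y` proper and finitely presented, `Y` affine and finitely presented over the limit,
`X` flat over the limit: there is a model at some stage with the same properties. -/
theorem exists_model {X Y : Scheme.{u}} (f : X ⟶ Y) (g : Y ⟶ c.pt) [IsAffine Y] [IsProper f]
    [LocallyOfFinitePresentation f] [LocallyOfFinitePresentation g] [QuasiCompact g]
    [QuasiSeparated g] [Flat (f ≫ g)] :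
    ∃ (i : I) (X₀ Y₀ : Scheme.{u}) (f₀ : X₀ ⟶ Y₀) (g₀ : Y₀ ⟶ D.obj i) (p : X ⟶ X₀) (q : Y ⟶ Y₀),
      IsPullback p f f₀ q ∧ IsPullback q g g₀ (c.π.app i) ∧ IsAffine Y₀ ∧ IsProper f₀ ∧
      LocallyOfFinitePresentation f₀ ∧ LocallyOfFinitePresentation g₀ ∧ Flat (f₀ ≫ g₀) := by
  obtain ⟨i, ⟨N⟩⟩ := exists_mdl (D := D) (c := c) hc (f' := g)
  let D1 := bcDiagram D N.f
  let c1 : Cone D1 := bcCone N.h
  let hc1 : IsLimit c1 := isLimitBcCone hc N.h
  have a1 : ∀ (j k : Over i) (a : j ⟶ k), IsAffineHom (D1.map a) := fun j k a =>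
    isAffineHom_bcDiagram_map a
  have a2 : ∀ j, CompactSpace (D1.obj j) := fun j => compactSpace_bcDiagram_obj j
  have a3 : ∀ j, QuasiSeparatedSpace (D1.obj j) := fun j => quasiSeparatedSpace_bcDiagram_obj j
  -- affineness of `Y`
  have a4 : IsAffine c1.pt := ‹IsAffine Y›
  obtain ⟨j1, hj1⟩ := Scheme.exists_isAffine_of_isLimit D1 c1 hc1
  -- a proper model of `X ⟶ Y`
  have b1 : LocallyOfFinitePresentation (Y := c1.pt) f := ‹_›
  have b2 : IsProper (Y := c1.pt) f := ‹_›
  obtain ⟨j2, ⟨M0⟩⟩ := exists_mdl (D := D1) (c := c1) hc1 (f' := f)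
  obtain ⟨j3, a, hM1⟩ := Mdl.exists_isProper hc1 M0
  obtain ⟨k, b, b', -⟩ := IsCofilteredOrEmpty.cone_objs j3 j1
  let M := (M0.bc a).bc b
  have hM : IsProper M.f := Mdl.isProper_bc (M0.bc a) b
  have hk : IsAffine (D1.obj k) := isAffine_of_isAffineHom (D1.map b')
  -- the model of `X` over the stage `k.left`
  have hNk : IsPullback (c1.π.app k) g (pullback.snd N.f (D.map k.hom)) (c.π.app k.left) :=
    (N.bc k.hom).h
  have d1 : LocallyOfFinitePresentation (pullback.snd N.f (D.map k.hom)) := inferInstance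
  have d2 : QuasiCompact (pullback.snd N.f (D.map k.hom)) := inferInstance
  have d3 : QuasiSeparated (pullback.snd N.f (D.map k.hom)) := inferInstance
  let s : D1.obj k ⟶ D.obj k.left := pullback.snd N.f (D.map k.hom)
  have d1' : LocallyOfFinitePresentation s := d1
  have d2' : QuasiCompact s := d2
  have d3' : QuasiSeparated s := d3
  have hpb : IsPullback M.p (f ≫ g) (M.f ≫ s) (c.π.app k.left) := M.h.paste_vert hNk
  let M2 : Mdl (D := D) (c := c) (f ≫ g) k.left :=
    { A := M.A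
      f := M.f ≫ s
      p := M.p
      h := hpb
      lfp := inferInstance
      qc := inferInstance
      qs := inferInstance }
  obtain ⟨l, e, hfl⟩ := Mdl.exists_flat hc M2
  -- the final model
  let f₀ : pullback (M.f ≫ s) (D.map e) ⟶ pullback s (D.map e) :=
    pullback.lift (pullback.fst (M.f ≫ s) (D.map e) ≫ M.f) (pullback.snd (M.f ≫ s) (D.map e))
      (by rw [Category.assoc]; exact pullback.condition)
  have hf₀1 : f₀ ≫ pullback.fst s (D.map e) = pullback.fst (M.f ≫ s) (D.map e) ≫ M.f :=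
    pullback.lift_fst _ _ _
  have hf₀2 : f₀ ≫ pullback.snd s (D.map e) = pullback.snd (M.f ≫ s) (D.map e) :=
    pullback.lift_snd _ _ _
  have h1 : IsPullback f₀ (pullback.fst (M.f ≫ s) (D.map e)) (pullback.fst s (D.map e)) M.f := by
    refine IsPullback.of_right (h₁₂ := pullback.snd s (D.map e)) (h₂₂ := s) (v₁₃ := D.map e) ?_ hf₀1
      (IsPullback.of_hasPullback s (D.map e)).flip
    rw [hf₀2]
    exact (IsPullback.of_hasPullback (M.f ≫ s) (D.map e)).flip
  let p : X ⟶ pullback (M.f ≫ s) (D.map e) := pullback.lift M.p ((f ≫ g) ≫ c.π.app l) (by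
    rw [Category.assoc, c.w]; exact hpb.w)
  let q : Y ⟶ pullback s (D.map e) := pullback.lift (c1.π.app k) (g ≫ c.π.app l) (by
    rw [Category.assoc, c.w]; exact hNk.w)
  have hq : IsPullback q g (pullback.snd s (D.map e)) (c.π.app l) := by
    refine IsPullback.of_right (h₁₂ := pullback.fst s (D.map e)) (h₂₂ := D.map e) (v₁₃ := s) ?_
      (pullback.lift_snd _ _ _) (IsPullback.of_hasPullback s (D.map e))
    rw [pullback.lift_fst, c.w]
    exact hNk
  have hp : IsPullback p f f₀ q := by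
    refine IsPullback.of_right (h₁₂ := pullback.fst (M.f ≫ s) (D.map e))
      (h₂₂ := pullback.fst s (D.map e)) (v₁₃ := M.f) ?_ ?_ h1.flip
    · rw [pullback.lift_fst, pullback.lift_fst]
      exact M.h
    · apply pullback.hom_ext
      · rw [Category.assoc, hf₀1, pullback.lift_fst_assoc, Category.assoc, pullback.lift_fst]
        exact M.h.w
      · rw [Category.assoc, hf₀2, pullback.lift_snd, Category.assoc, Category.assoc,
          pullback.lift_snd]
  refine ⟨l, _, _, f₀, pullback.snd s (D.map e), p, q, hp, hq, ?_, ?_, ?_, inferInstance, ?_⟩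
  · exact isAffine_of_isAffineHom (pullback.fst s (D.map e))
  · exact MorphismProperty.of_isPullback (P := @IsProper) h1.flip hM
  · exact MorphismProperty.of_isPullback (P := @LocallyOfFinitePresentation) h1.flip
      (inferInstanceAs (LocallyOfFinitePresentation M.f))
  · rw [hf₀2]
    exact hfl

end Lim

section Spec

open Groth.Agent.Flat2D.SpecFGLimit

/-- Noetherian model of `X ⟶ Y ⟶ Spec R`, `X ⟶ Y` proper, `X ⟶ Spec R` flat, `Y` affine. -/
theorem exists_model_Spec (R : Type u) [CommRing R] {X Y : Scheme.{u}} (f : X ⟶ Y)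
    (g : Y ⟶ Spec (CommRingCat.of R)) [IsAffine Y] [IsProper f]
    [LocallyOfFinitePresentation f] [LocallyOfFinitePresentation g] [Flat (f ≫ g)] :
    ∃ (S : Subalgebra ℤ R) (_ : S.FG) (X₀ Y₀ : Scheme.{u}) (f₀ : X₀ ⟶ Y₀)
      (g₀ : Y₀ ⟶ Spec (CommRingCat.of S)) (p : X ⟶ X₀) (q : Y ⟶ Y₀),
      IsPullback p f f₀ q ∧ IsPullback q g g₀ (Spec.map (CommRingCat.ofHom S.val.toRingHom)) ∧
      IsAffine Y₀ ∧ IsProper f₀ ∧ LocallyOfFinitePresentation f₀ ∧ LocallyOfFinitePresentation g₀ ∧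
      Flat (f₀ ≫ g₀) := by
  have i1 : ∀ i, CompactSpace ((specDiagram R).obj i) := fun i => inferInstance
  have i2 : ∀ i, QuasiSeparatedSpace ((specDiagram R).obj i) := fun i => inferInstance
  have i3 : LocallyOfFinitePresentation (Y := (specCone R).pt) g := ‹_›
  have i4 : QuasiCompact (Y := (specCone R).pt) g :=
    inferInstanceAs (QuasiCompact (Y := Spec (CommRingCat.of R)) g)
  have i5 : QuasiSeparated (Y := (specCone R).pt) g :=
    inferInstanceAs (QuasiSeparated (Y := Spec (CommRingCat.of R)) g)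
  have i6 : Flat (Y := (specCone R).pt) (f ≫ g) := ‹Flat (f ≫ g)›
  obtain ⟨i, X₀, Y₀, f₀, g₀, p, q, h1, h2, h3, h4, h5, h6, h7⟩ := exists_model (D := specDiagram R)
    (c := specCone R) (isLimitSpecCone R) f g
  exact ⟨i.unop.1, i.unop.2, X₀, Y₀, f₀, g₀, p, q, h1, h2, h3, h4, h5, h6, h7⟩

/-- Noetherian model of `X ⟶ Y ⟶ S`, `X ⟶ Y` proper, `X ⟶ S` flat, `Y` and `S` affine. -/
theorem exists_noetherian_model {X Y S : Scheme.{u}} (f : X ⟶ Y) (g : Y ⟶ S) [IsAffine Y] [IsAffine S]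
    [IsProper f] [LocallyOfFinitePresentation f] [LocallyOfFinitePresentation g] [Flat (f ≫ g)] :
    ∃ (X₀ Y₀ S₀ : Scheme.{u}) (f₀ : X₀ ⟶ Y₀) (g₀ : Y₀ ⟶ S₀) (p : X ⟶ X₀) (q : Y ⟶ Y₀) (r : S ⟶ S₀),
      IsPullback p f f₀ q ∧ IsPullback q g g₀ r ∧ IsAffine Y₀ ∧ IsAffine S₀ ∧ IsNoetherian S₀ ∧
      IsProper f₀ ∧ LocallyOfFinitePresentation f₀ ∧ LocallyOfFinitePresentation g₀ ∧
      Flat (f₀ ≫ g₀) := by
  have hfl : Flat (f ≫ g ≫ S.isoSpec.hom) := by
    rw [← Category.assoc]; infer_instance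
  obtain ⟨A, hA, X₀, Y₀, f₀, g₀, p, q, h1, h2, h3, h4, h5, h6, h7⟩ :=
    exists_model_Spec Γ(S, ⊤) f (g ≫ S.isoSpec.hom)
  have hN : IsNoetherianRing A := by
    have := (Subalgebra.fg_iff_finiteType _).1 hA
    exact Algebra.FiniteType.isNoetherianRing ℤ _
  refine ⟨X₀, Y₀, Spec (CommRingCat.of A), f₀, g₀, p, q,
    S.isoSpec.hom ≫ Spec.map (CommRingCat.ofHom A.val.toRingHom), h1, ?_, h3, inferInstance,
    inferInstance, h4, h5, h6, h7⟩
  exact IsPullback.of_iso h2 (Iso.refl _) (Iso.refl _) S.isoSpec.symm (Iso.refl _) (by simp) (by simp)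
    (by simp) (by simp)

end Spec

end Groth.Agent.Flat2G.XYSModel
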