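import Mathlib.RingTheory.FinitePresentation
import Mathlib.RingTheory.Localization.Away.Basic
import Mathlib.RingTheory.Localization.Finiteness
import Mathlib.RingTheory.RingHom.FinitePresentation

/-!
Finite algebras are, locally on the finitely presented locus, quotients of finite and finitely
presented algebras.
-/

set_option autoImplicit false
universe u

namespace Groth.Agent.Flat2G.ZMTAlg

/-- A finite algebra is a quotient of a finite and finitely presented algebra. -/
theorem exists_surjective (A A' : Type u) [CommRing A] [CommRing A'] [Algebra A A']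
    [Module.Finite A A'] :
    ∃ (P : Type u) (_ : CommRing P) (_ : Algebra A P) (ψ : P →ₐ[A] A'),
      Module.Finite A P ∧ Algebra.FinitePresentation A P ∧ Function.Surjective ψ := by
  classical
  obtain ⟨n, g, hg⟩ := Algebra.FiniteType.iff_quotient_mvPolynomial''.mp
    (inferInstance : Algebra.FiniteType A A')
  have hint : ∀ i : Fin n, IsIntegral A (g (MvPolynomial.X i)) := fun i ↦
    Algebra.IsIntegral.isIntegral _
  choose p hp hp0 using hint
  let s : Finset (MvPolynomial (Fin n) A) :=
    Finset.univ.image fun i ↦ Polynomial.aeval (MvPolynomial.X i) (p i)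
  let I : Ideal (MvPolynomial (Fin n) A) := Ideal.span s
  have hI : I ≤ RingHom.ker g.toRingHom := by
    rw [Ideal.span_le]
    intro x hx
    obtain ⟨i, -, rfl⟩ := Finset.mem_image.mp (Finset.mem_coe.mp hx)
    change g _ = 0
    rw [← Polynomial.aeval_algHom_apply]
    exact hp0 i
  refine ⟨MvPolynomial (Fin n) A ⧸ I, inferInstance, inferInstance,
    Ideal.Quotient.liftₐ I g (fun a ha ↦ hI ha), ?_, ?_, ?_⟩
  · have h1 : Algebra.FiniteType A (MvPolynomial (Fin n) A ⧸ I) := inferInstance
    have h2 : Algebra.IsIntegral A (MvPolynomial (Fin n) A ⧸ I) := by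
      constructor
      intro x
      obtain ⟨y, rfl⟩ := Ideal.Quotient.mk_surjective x
      have hy : y ∈ Algebra.adjoin A (Set.range (MvPolynomial.X : Fin n → MvPolynomial (Fin n) A)) := by
        rw [MvPolynomial.adjoin_range_X]; trivial
      induction hy using Algebra.adjoin_induction with
      | mem x hx =>
        obtain ⟨i, rfl⟩ := hx
        refine ⟨p i, hp i, ?_⟩
        have : (Ideal.Quotient.mk I) (Polynomial.aeval (MvPolynomial.X i) (p i)) = 0 :=
          Ideal.Quotient.eq_zero_iff_mem.mpr (Ideal.subset_span (by simp [s]))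
        have h3 := Polynomial.aeval_algHom_apply (Ideal.Quotient.mkₐ A I)
          (MvPolynomial.X i) (p i)
        rw [← Polynomial.aeval_def]
        exact h3.trans this
      | algebraMap r =>
        exact isIntegral_algebraMap (R := A) (A := MvPolynomial (Fin n) A ⧸ I) (x := r)
      | add x y _ _ hx hy => rw [map_add]; exact hx.add hy
      | mul x y _ _ hx hy => rw [map_mul]; exact hx.mul hy
    exact Algebra.IsIntegral.finite
  · exact Algebra.FinitePresentation.quotient ⟨s, rfl⟩
  · exact Ideal.Quotient.lift_surjective_of_surjective _ _ hg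

/-- Key lemma. -/
theorem exists_fg_ideal {A P A' : Type u} [CommRing A] [CommRing P] [CommRing A']
    [Algebra A P] [Algebra A A'] [Algebra.FinitePresentation A P] (ψ : P →ₐ[A] A')
    (hψ : Function.Surjective ψ) (s : Finset P)
    (H : ∀ h ∈ s, Algebra.FinitePresentation A (Localization.Away (ψ h))) :
    ∃ I : Ideal P, I.FG ∧ I ≤ RingHom.ker ψ.toRingHom ∧
      ∀ h ∈ s, ∀ x : P, ψ x = 0 → ∃ n : ℕ, h ^ n * x ∈ I := by
  classical
  have key : ∀ h ∈ s, ∃ I : Ideal P, I.FG ∧ I ≤ RingHom.ker ψ.toRingHom ∧
      ∀ x : P, ψ x = 0 → ∃ n : ℕ, h ^ n * x ∈ I := by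
    intro h hs
    have := H h hs
    let L := Localization.Away h
    let M := Localization.Away (ψ h)
    let Φ : L →ₐ[A] M := IsLocalization.Away.mapₐ L M ψ h
    have hΦ : ∀ x, Φ (algebraMap P L x) = algebraMap A' M (ψ x) := by
      intro x
      exact IsLocalization.map_eq (M := Submonoid.powers h) (T := Submonoid.powers (ψ h))
        (g := ψ.toRingHom) (show Submonoid.powers h ≤ (Submonoid.powers (ψ h)).comap ψ.toRingHom by
          rw [Submonoid.powers_le]; exact ⟨1, by simp⟩) x
    have hΦs : Function.Surjective Φ :=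
      IsLocalization.Away.mapₐ_surjective_of_surjective (Aₚ := L) (Bₚ := M) h hψ
    have hPL : Algebra.FinitePresentation P L := IsLocalization.Away.finitePresentation h
    have hL : Algebra.FinitePresentation A L := Algebra.FinitePresentation.trans A P L
    obtain ⟨K, hK⟩ := Algebra.FinitePresentation.ker_fG_of_surjective Φ hΦs
    have h1 : ∀ k ∈ K, ∃ (b : P) (m : ℕ), ψ b = 0 ∧
        k * algebraMap P L h ^ m = algebraMap P L b := by
      intro k hk
      have hk0 : Φ k = 0 := by
        have : k ∈ Ideal.span (K : Set L) := Ideal.subset_span hk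
        rw [hK] at this
        exact this
      obtain ⟨n, a, ha⟩ := IsLocalization.Away.surj h k
      have h2 : algebraMap A' M (ψ a) = algebraMap A' M 0 := by
        rw [← hΦ, ← ha, map_mul, hk0, zero_mul, map_zero]
      obtain ⟨m, hm⟩ := IsLocalization.Away.exists_of_eq (ψ h) h2
      refine ⟨h ^ m * a, m + n, ?_, ?_⟩
      · rw [map_mul, map_pow, hm, mul_zero]
      · rw [map_mul, map_pow, ← ha]; ring
    choose! b m hb0 hb using h1
    refine ⟨Ideal.span (K.image b : Finset P), ⟨_, rfl⟩, ?_, ?_⟩
    · rw [Ideal.span_le]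
      intro x hx
      obtain ⟨k, hk, rfl⟩ := Finset.mem_image.mp (Finset.mem_coe.mp hx)
      exact hb0 k hk
    · intro x hx
      have h2 : algebraMap P L x ∈ Ideal.span (K : Set L) := by
        rw [hK]
        change Φ _ = 0
        rw [hΦ, hx, map_zero]
      have h3 : Ideal.span (K : Set L) ≤
          (Ideal.span (K.image b : Finset P) : Ideal P).map (algebraMap P L) := by
        rw [Ideal.span_le]
        intro k hk
        have hu : IsUnit (algebraMap P L h ^ m k) :=
          (IsLocalization.Away.algebraMap_isUnit (S := L) h).pow _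
        rw [SetLike.mem_coe, ← Ideal.mul_unit_mem_iff_mem _ hu, hb k hk]
        refine Ideal.mem_map_of_mem _ (Ideal.subset_span ?_)
        exact Finset.mem_coe.mpr (Finset.mem_image_of_mem _ hk)
      have h4 := h3 h2
      rw [IsLocalization.algebraMap_mem_map_algebraMap_iff (Submonoid.powers h)] at h4
      obtain ⟨_, ⟨n, rfl⟩, hn⟩ := h4
      exact ⟨n, hn⟩
  choose! I h1 h2 h3 using key
  refine ⟨s.sup I, ?_, ?_, ?_⟩
  · exact Submodule.fg_finset_sup s I h1
  · exact Finset.sup_le h2
  · intro h hs x hx
    obtain ⟨n, hn⟩ := h3 h hs x hx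
    exact ⟨n, (Finset.le_sup (f := I) hs) hn⟩

/-- A finite algebra `A'` over `A` which is of finite presentation on the opens `D(h)`, `h ∈ s`,
and `D(r)`, `r ∈ w`, is a quotient of a finite and finitely presented algebra `B`, with
`B_b = A'_h` for lifts `b` of the `h ∈ s` and `B_r = A'_r` for `r ∈ w`. -/
theorem exists_finite_finitePresentation {A A' : Type u} [CommRing A] [CommRing A']
    [Algebra A A'] [Module.Finite A A'] (s : Finset A') (w : Finset A)
    (H : ∀ h ∈ s, Algebra.FinitePresentation A (Localization.Away h))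
    (H' : ∀ r ∈ w, Algebra.FinitePresentation A (Localization.Away (algebraMap A A' r))) :
    ∃ (B : Type u) (_ : CommRing B) (_ : Algebra A B) (φ : B →ₐ[A] A'),
      Module.Finite A B ∧ Algebra.FinitePresentation A B ∧ Function.Surjective φ ∧
      (∀ h ∈ s, ∃ b : B, φ b = h ∧ ∀ x : B, φ x = 0 → ∃ n : ℕ, b ^ n * x = 0) ∧
      ∀ r ∈ w, ∀ x : B, φ x = 0 → ∃ n : ℕ, (algebraMap A B r) ^ n * x = 0 := by
  classical
  obtain ⟨P, _, _, ψ, hP, hP', hψ⟩ := exists_surjective A A'
  obtain ⟨I, hI, hIle, hIs⟩ := exists_fg_ideal ψ hψ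
    (s.image (Function.surjInv hψ) ∪ w.image (algebraMap A P)) (by
    intro h' hh'
    rcases Finset.mem_union.mp hh' with hh' | hh'
    · obtain ⟨h, hh, rfl⟩ := Finset.mem_image.mp hh'
      rw [Function.surjInv_eq hψ]
      exact H h hh
    · obtain ⟨r, hr, rfl⟩ := Finset.mem_image.mp hh'
      rw [ψ.commutes]
      exact H' r hr)
  refine ⟨P ⧸ I, inferInstance, inferInstance, Ideal.Quotient.liftₐ I ψ (fun a ha ↦ hIle ha),
    inferInstance, Algebra.FinitePresentation.quotient hI,
    Ideal.Quotient.lift_surjective_of_surjective _ _ hψ, ?_, ?_⟩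
  · intro h hh
    refine ⟨Ideal.Quotient.mk I (Function.surjInv hψ h), Function.surjInv_eq hψ h, ?_⟩
    intro x hx
    obtain ⟨x, rfl⟩ := Ideal.Quotient.mk_surjective x
    obtain ⟨n, hn⟩ := hIs _ (Finset.mem_union_left _ (Finset.mem_image_of_mem _ hh)) x hx
    refine ⟨n, ?_⟩
    rw [← map_pow, ← map_mul]
    exact Ideal.Quotient.eq_zero_iff_mem.mpr hn
  · intro r hr x hx
    obtain ⟨x, rfl⟩ := Ideal.Quotient.mk_surjective x
    obtain ⟨n, hn⟩ := hIs _ (Finset.mem_union_right _ (Finset.mem_image_of_mem _ hr)) x hx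
    refine ⟨n, ?_⟩
    have : algebraMap A (P ⧸ I) r = Ideal.Quotient.mk I (algebraMap A P r) := rfl
    rw [this, ← map_pow, ← map_mul]
    exact Ideal.Quotient.eq_zero_iff_mem.mpr hn

/-- The conclusion of `exists_finite_finitePresentation` in terms of localizations. -/
theorem awayMap_bijective {B A' : Type u} [CommRing B] [CommRing A'] (φ : B →+* A')
    (hφ : Function.Surjective φ) (b : B) (hb : ∀ x : B, φ x = 0 → ∃ n : ℕ, b ^ n * x = 0) :
    Function.Bijective (Localization.awayMap φ b) := by
  constructor
  · rw [injective_iff_map_eq_zero]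
    intro y hy
    obtain ⟨n, a, ha⟩ := IsLocalization.Away.surj b y
    have h1 : algebraMap A' (Localization.Away (φ b)) (φ a) = 0 := by
      have h2 : Localization.awayMap φ b (algebraMap B _ a) = algebraMap A' _ (φ a) :=
        IsLocalization.map_eq _ _
      rw [← h2, ← ha, map_mul, hy, zero_mul]
    rw [← map_zero (algebraMap A' (Localization.Away (φ b)))] at h1
    obtain ⟨m, hm⟩ := IsLocalization.Away.exists_of_eq (φ b) h1
    rw [mul_zero, ← map_pow, ← map_mul] at hm
    obtain ⟨k, hk⟩ := hb _ hm
    have hu : IsUnit (algebraMap B (Localization.Away b) b ^ (k + m + n)) :=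
      (IsLocalization.Away.algebraMap_isUnit (S := Localization.Away b) b).pow _
    rw [← hu.mul_left_inj, zero_mul]
    have : y * algebraMap B (Localization.Away b) b ^ (k + m + n) =
        algebraMap B (Localization.Away b) (b ^ k * (b ^ m * a)) := by
      rw [map_mul, map_mul, map_pow, map_pow, ← ha]; ring
    rw [this, hk, map_zero]
  · rw [Localization.awayMap_surjective_iff]
    intro x
    obtain ⟨y, rfl⟩ := hφ x
    exact ⟨y, 0, by simp⟩

end Groth.Agent.Flat2G.ZMTAlg
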