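import Mathlib.AlgebraicGeometry.ZariskisMainTheorem
import Groth.Agent.FlatA.ZMTFactor
import Groth.Agent.Flat2G.ZMTAlg

/-!
Zariski's main theorem with a finite and finitely presented factorization (Stacks 0F2N).
-/

set_option autoImplicit false
universe u

open AlgebraicGeometry CategoryTheory Limits

namespace Groth.Agent.Flat2G.ZMTFinPres

open FlatA Flat2G.ZMTAlg

set_option backward.isDefEq.respectTransparency false in
/-- If `f` is finite over the open `W`, a factorization into a dominant open immersion `j` and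
a separated morphism `π` has `π⁻¹ W ⊆ range j`. -/
theorem preimage_le_opensRange {X T S : Scheme.{u}} (j : X ⟶ T) (π : T ⟶ S) [IsOpenImmersion j]
    [IsDominant j] [IsSeparated π] (W : S.Opens) (hfin : IsFinite ((j ≫ π) ∣_ W)) :
    π ⁻¹ᵁ W ≤ j.opensRange := by
  rw [morphismRestrict_comp] at hfin
  have h2 : IsFinite (j ∣_ (π ⁻¹ᵁ W)) := IsFinite.of_comp _ (π ∣_ W)
  have h3 : IsDominant (j ∣_ (π ⁻¹ᵁ W)) :=
    IsZariskiLocalAtTarget.restrict (P := @IsDominant) inferInstance _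
  have h4 : Surjective (j ∣_ (π ⁻¹ᵁ W)) :=
    surjective_of_isDominant_of_isClosed_range _ (j ∣_ (π ⁻¹ᵁ W)).isClosedMap.isClosed_range
  intro t ht
  obtain ⟨x, hx⟩ := h4.surj ⟨t, ht⟩
  refine ⟨(j ⁻¹ᵁ π ⁻¹ᵁ W).ι x, ?_⟩
  rw [← Scheme.Hom.comp_apply, ← morphismRestrict_ι, Scheme.Hom.comp_apply, hx]
  rfl

set_option backward.isDefEq.respectTransparency false in
/-- Affine case. -/
theorem affine_step {R : CommRingCat.{u}} {X : Scheme.{u}} (f : X ⟶ Spec R)
    [LocallyQuasiFinite f] [LocallyOfFinitePresentation f] [QuasiCompact f] [IsSeparated f]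
    (W : (Spec R).Opens) (hW : IsCompact (W : Set (Spec R))) (hfin : IsFinite (f ∣_ W)) :
    ∃ (T : Scheme.{u}) (j : X ⟶ T) (π : T ⟶ Spec R), IsAffine T ∧ IsOpenImmersion j ∧
      IsFinite π ∧ LocallyOfFinitePresentation π ∧ j ≫ π = f ∧
      ∀ t : T, π t ∈ W → t ∈ Set.range j := by
  classical
  obtain ⟨T', j', π', hT', hj', hjd, hπ', hjπ⟩ := ZMTFactor.exists_factor_of_isAffine f
  obtain ⟨A', ⟨e⟩⟩ : ∃ A' : CommRingCat.{u}, Nonempty (T' ≅ Spec A') := ⟨_, ⟨T'.isoSpec⟩⟩
  let j₀ : X ⟶ Spec A' := j' ≫ e.hom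
  obtain ⟨α, hα⟩ := Spec.map_surjective (e.inv ≫ π')
  have hjα : j₀ ≫ Spec.map α = f := by
    rw [hα]; simp [j₀, hjπ]
  have hαfin : IsFinite (Spec.map α) := by rw [hα]; infer_instance
  have hWj : Spec.map α ⁻¹ᵁ W ≤ j₀.opensRange :=
    preimage_le_opensRange j₀ (Spec.map α) W (by rw [hjα]; exact hfin)
  have hαf : α.hom.Finite := (IsFinite.SpecMap_iff _).mp hαfin
  algebraize [α.hom]
  have : QuasiCompact (j₀ ≫ Spec.map α) := by rw [hjα]; infer_instance
  have : QuasiCompact j₀ := QuasiCompact.of_comp j₀ (Spec.map α)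
  have hcomp : IsCompact (j₀.opensRange : Set (Spec A')) := by
    have : CompactSpace X := QuasiCompact.compactSpace_of_compactSpace j₀
    simpa using isCompact_range j₀.continuous
  obtain ⟨t, ht⟩ := PrimeSpectrum.isCompact_isOpen_iff.mp ⟨hcomp, j₀.opensRange.2⟩
  have hmem : ∀ x : PrimeSpectrum A', x ∈ Set.range j₀ ↔ ∃ g ∈ t, g ∉ x.asIdeal := by
    intro x
    have : x ∈ Set.range j₀ ↔ x ∈ (PrimeSpectrum.zeroLocus (t : Set A'))ᶜ := by
      rw [ht]; rfl
    rw [this]
    simp [PrimeSpectrum.mem_zeroLocus, Set.not_subset]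
  obtain ⟨w, hw⟩ := PrimeSpectrum.isCompact_isOpen_iff.mp ⟨hW, W.2⟩
  have hmemW : ∀ x : PrimeSpectrum R, x ∈ W ↔ ∃ g ∈ w, g ∉ x.asIdeal := by
    intro x
    have : x ∈ W ↔ x ∈ (PrimeSpectrum.zeroLocus (w : Set R))ᶜ := by
      rw [hw]; rfl
    rw [this]
    simp [PrimeSpectrum.mem_zeroLocus, Set.not_subset]
  have hfp : ∀ g : A', (∀ x : Spec A', g ∉ x.asIdeal → x ∈ Set.range j₀) →
      Algebra.FinitePresentation R (Localization.Away g) := by
    intro g hg
    have hr : Set.range (Spec.map (CommRingCat.ofHom (algebraMap A' (Localization.Away g))))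
        ⊆ Set.range j₀ := by
      intro x hx
      exact hg x ((PrimeSpectrum.localization_away_comap_range (Localization.Away g) g).le hx)
    let k := IsOpenImmersion.lift j₀
      (Spec.map (CommRingCat.ofHom (algebraMap A' (Localization.Away g)))) hr
    have hk : k ≫ j₀ = Spec.map (CommRingCat.ofHom (algebraMap A' (Localization.Away g))) :=
      IsOpenImmersion.lift_fac _ _ _
    have h1 : LocallyOfFinitePresentation (k ≫ j₀ ≫ Spec.map α) := by
      rw [hjα]; infer_instance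
    rw [reassoc_of% hk, ← Spec.map_comp, LocallyOfFinitePresentation.SpecMap_iff] at h1
    rw [← RingHom.finitePresentation_algebraMap]
    exact h1
  obtain ⟨B, _, _, φ, hB, hB', hφ, hs, hw'⟩ := exists_finite_finitePresentation t w
    (fun g hg ↦ hfp g fun x hx ↦ (hmem x).mpr ⟨g, hg, hx⟩)
    (fun r hr ↦ hfp (algebraMap R A' r) fun x hx ↦ hWj ((hmemW _).mpr ⟨r, hr, hx⟩))
  let β : R ⟶ .of B := CommRingCat.ofHom (algebraMap R B)
  let γ : CommRingCat.of B ⟶ A' := CommRingCat.ofHom φ.toRingHom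
  have hβγ : β ≫ γ = α := by
    ext x
    exact φ.commutes x
  choose! b hb hb0 using hs
  refine ⟨Spec (.of B), j₀ ≫ Spec.map γ, Spec.map β, inferInstance, ?_, ?_, ?_, ?_, ?_⟩
  · let U : {x // x ∈ t} → (Spec (.of B)).Opens := fun g ↦ PrimeSpectrum.basicOpen (b g.1)
    refine IsZariskiLocalAtTarget.of_range_subset_iSup (P := @IsOpenImmersion) U ?_ ?_
    · rintro _ ⟨x, rfl⟩
      obtain ⟨g, hg, hgx⟩ := (hmem (j₀ x)).mp ⟨x, rfl⟩
      simp only [TopologicalSpace.Opens.coe_iSup, Set.mem_iUnion, SetLike.mem_coe]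
      refine ⟨⟨g, hg⟩, ?_⟩
      have := hb g hg
      rw [← this] at hgx
      exact hgx
    · intro g
      rw [morphismRestrict_comp]
      have : IsIso (Spec.map γ ∣_ U g) := by
        refine (MorphismProperty.arrow_mk_iso_iff (.isomorphisms _)
          (SpecMapRestrictBasicOpenIso γ (b g.1))).mpr ?_
        have hbij : Function.Bijective (Localization.awayMap γ.hom (b g.1)) :=
          awayMap_bijective _ hφ _ (hb0 g.1 g.2)
        have : IsIso (CommRingCat.ofHom (Localization.awayMap γ.hom (b g.1))) :=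
          (ConcreteCategory.isIso_iff_bijective _).mpr hbij
        exact inferInstanceAs (IsIso (Spec.map (CommRingCat.ofHom
            (Localization.awayMap γ.hom (b g.1)))))
      infer_instance
  · rw [IsFinite.SpecMap_iff]
    exact RingHom.finite_algebraMap.mpr hB
  · rw [LocallyOfFinitePresentation.SpecMap_iff]
    exact RingHom.finitePresentation_algebraMap.mpr hB'
  · rw [Category.assoc, ← Spec.map_comp, hβγ, hjα]
  · intro x hx
    obtain ⟨r, hr, hrx⟩ := (hmemW _).mp hx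
    have h1 : x ∈ Set.range (Spec.map γ) := by
      have h2 : x ∈ PrimeSpectrum.zeroLocus (RingHom.ker φ.toRingHom : Set B) := by
        intro k hk
        obtain ⟨n, hn⟩ := hw' r hr k hk
        have h3 : (algebraMap R B r) ^ n * k ∈ x.asIdeal := by rw [hn]; exact zero_mem _
        refine (x.2.mem_or_mem h3).resolve_left fun h4 ↦ hrx ?_
        exact x.2.mem_of_pow_mem _ h4
      rw [← range_comap_of_surjective _ φ.toRingHom hφ] at h2
      exact h2
    obtain ⟨y, rfl⟩ := h1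
    have h2 : y ∈ Spec.map α ⁻¹ᵁ W := by
      change Spec.map α y ∈ W
      rw [← hβγ, Spec.map_comp]
      exact hx
    obtain ⟨z, rfl⟩ := hWj h2
    exact ⟨z, rfl⟩

theorem restrict_of_le (P : MorphismProperty Scheme.{u}) [IsZariskiLocalAtTarget P]
    {X S : Scheme.{u}} (f : X ⟶ S) (U V : S.Opens) (hUV : U ≤ V) (h : P (f ∣_ V)) : P (f ∣_ U) := by
  have h1 : P ((f ∣_ V) ∣_ (V.ι ⁻¹ᵁ U)) := IsZariskiLocalAtTarget.restrict h _
  rw [P.arrow_mk_iso_iff (morphismRestrictRestrict _ _ _)] at h1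
  have h2 : V.ι ''ᵁ (V.ι ⁻¹ᵁ U) = U := by
    rw [Scheme.Hom.image_preimage_eq_opensRange_inf, Scheme.Opens.opensRange_ι]
    exact inf_eq_right.mpr hUV
  rwa [P.arrow_mk_iso_iff (morphismRestrictEq _ h2)] at h1

theorem restrict_restrict (P : MorphismProperty Scheme.{u}) [IsZariskiLocalAtTarget P]
    {X S : Scheme.{u}} (f : X ⟶ S) (U V : S.Opens) (h : P (f ∣_ V)) :
    P ((f ∣_ U) ∣_ (U.ι ⁻¹ᵁ V)) := by
  rw [P.arrow_mk_iso_iff (morphismRestrictRestrict _ _ _)]
  refine restrict_of_le P f _ V ?_ h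
  rw [Scheme.Hom.image_preimage_eq_opensRange_inf]
  exact inf_le_right

set_option backward.isDefEq.respectTransparency false in
/-- Quasi-finite and finitely presented morphisms to an affine scheme. -/
theorem affine_step' {S X : Scheme.{u}} [IsAffine S] (f : X ⟶ S)
    [LocallyQuasiFinite f] [LocallyOfFinitePresentation f] [QuasiCompact f] [IsSeparated f]
    (W : S.Opens) (hW : IsCompact (W : Set S)) (hfin : IsFinite (f ∣_ W)) :
    ∃ (T : Scheme.{u}) (j : X ⟶ T) (π : T ⟶ S), IsAffine T ∧ IsOpenImmersion j ∧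
      IsFinite π ∧ LocallyOfFinitePresentation π ∧ j ≫ π = f ∧
      ∀ t : T, π t ∈ W → t ∈ Set.range j := by
  let e := S.isoSpec
  have hW' : IsCompact ((e.inv ⁻¹ᵁ W : (Spec Γ(S, ⊤)).Opens) : Set (Spec Γ(S, ⊤))) :=
    QuasiCompact.isCompact_preimage (f := e.inv) _ W.2 hW
  obtain ⟨T, j, π, h1, h2, h3, h4, h5, h6⟩ := affine_step (f ≫ e.hom) (e.inv ⁻¹ᵁ W) hW' (by
    rw [morphismRestrict_comp]
    have h1 : e.hom ⁻¹ᵁ e.inv ⁻¹ᵁ W = W := by
      rw [← Scheme.Hom.comp_preimage, e.hom_inv_id]; rfl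
    have h2 : IsFinite (f ∣_ (e.hom ⁻¹ᵁ e.inv ⁻¹ᵁ W)) := by
      rwa [MorphismProperty.arrow_mk_iso_iff @IsFinite (morphismRestrictEq _ h1)]
    infer_instance)
  refine ⟨T, j, π ≫ e.inv, h1, h2, inferInstance, inferInstance, by simp [reassoc_of% h5], ?_⟩
  intro t ht
  exact h6 t (by simpa using ht)

set_option backward.isDefEq.respectTransparency false in
/-- Induction step: make a quasi-finite separated morphism finite over one more affine open. -/
theorem step {X S : Scheme.{u}} (f : X ⟶ S) [LocallyQuasiFinite f]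
    [LocallyOfFinitePresentation f] [QuasiCompact f] [IsSeparated f] (S₁ : S.Opens)
    (hS₁c : IsCompact (S₁ : Set S)) (hS₁ : IsFinite (f ∣_ S₁)) (V : S.Opens)
    (hV : IsAffineOpen V) [QuasiCompact V.ι] :
    ∃ (X' : Scheme.{u}) (i : X ⟶ X') (f' : X' ⟶ S), IsOpenImmersion i ∧
      LocallyQuasiFinite f' ∧ LocallyOfFinitePresentation f' ∧ QuasiCompact f' ∧
      IsSeparated f' ∧ i ≫ f' = f ∧ IsFinite (f' ∣_ (S₁ ⊔ V)) := by
  have : IsAffine V := hV
  obtain ⟨T, j, p, -, hj, hp, hpfp, hjp, hjW⟩ := affine_step' (f ∣_ V) (V.ι ⁻¹ᵁ S₁)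
    (QuasiCompact.isCompact_preimage (f := V.ι) _ S₁.2 hS₁c) (restrict_restrict @IsFinite f V S₁ hS₁)
  let X' := pushout (f ⁻¹ᵁ V).ι j
  let inl : X ⟶ X' := pushout.inl (f ⁻¹ᵁ V).ι j
  let inr : T ⟶ X' := pushout.inr (f ⁻¹ᵁ V).ι j
  let f' : X' ⟶ S := pushout.desc f (p ≫ V.ι) (by simp [reassoc_of% hjp])
  have hinl : inl ≫ f' = f := pushout.inl_desc ..
  have hinr : inr ≫ f' = p ≫ V.ι := pushout.inr_desc ..
  have : IsOpenImmersion inl := OpenPushout.instInl _ _
  have : IsOpenImmersion inr := OpenPushout.instInr _ _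
  have hcov : inl.opensRange ⊔ inr.opensRange = ⊤ := OpenPushout.opensRange_sup _ _
  have hVr1 : inr.opensRange ≤ f' ⁻¹ᵁ V := by
    rintro _ ⟨t, rfl⟩
    change f' (inr t) ∈ V
    rw [← Scheme.Hom.comp_apply, hinr]
    exact (p t).2
  have hVr2 : f' ⁻¹ᵁ V ≤ inr.opensRange := by
    intro z hz
    obtain ⟨x, rfl⟩ | h := OpenPushout.exists_inl_or_inr (f ⁻¹ᵁ V).ι j z
    · have hx : x ∈ f ⁻¹ᵁ V := by
        change f x ∈ V
        rw [← hinl]
        exact hz
      refine ⟨j ⟨x, hx⟩, ?_⟩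
      exact ((OpenPushout.inl_eq_inr_iff (f ⁻¹ᵁ V).ι j _ _).mpr ⟨⟨x, hx⟩, rfl, rfl⟩).symm
    · exact h
  have hVr : f' ⁻¹ᵁ V = inr.opensRange := le_antisymm hVr2 hVr1
  have hsep1 : IsSeparated (inl ≫ f') := by rw [hinl]; infer_instance
  have hsep2 : IsSeparated (inr ≫ f') := by rw [hinr]; infer_instance
  have hsep : IsSeparated f' := OpenPushout.isSeparated_of_cover f' inl inr V hVr2 hVr1 hcov
  let 𝒰 : Bool → X'.Opens := fun b ↦ cond b inl.opensRange inr.opensRange
  have h𝒰 : iSup 𝒰 = ⊤ := by rw [iSup_bool_eq]; exact hcov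
  have hlqf : LocallyQuasiFinite f' := by
    refine IsZariskiLocalAtSource.of_iSup_eq_top (P := @LocallyQuasiFinite) 𝒰 h𝒰 ?_
    rintro (_ | _)
    · rw [← MorphismProperty.cancel_left_of_respectsIso @LocallyQuasiFinite inr.isoOpensRange.hom]
      have : inr.isoOpensRange.hom ≫ inr.opensRange.ι ≫ f' = p ≫ V.ι := by
        rw [← hinr]; simp
      change LocallyQuasiFinite (inr.isoOpensRange.hom ≫ inr.opensRange.ι ≫ f')
      rw [this]
      infer_instance
    · rw [← MorphismProperty.cancel_left_of_respectsIso @LocallyQuasiFinite inl.isoOpensRange.hom]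
      have : inl.isoOpensRange.hom ≫ inl.opensRange.ι ≫ f' = f := by
        rw [← hinl]; simp
      change LocallyQuasiFinite (inl.isoOpensRange.hom ≫ inl.opensRange.ι ≫ f')
      rw [this]
      infer_instance
  have hlft : LocallyOfFinitePresentation f' := by
    refine IsZariskiLocalAtSource.of_iSup_eq_top (P := @LocallyOfFinitePresentation) 𝒰 h𝒰 ?_
    rintro (_ | _)
    · rw [← MorphismProperty.cancel_left_of_respectsIso @LocallyOfFinitePresentation
        inr.isoOpensRange.hom]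
      have : inr.isoOpensRange.hom ≫ inr.opensRange.ι ≫ f' = p ≫ V.ι := by
        rw [← hinr]; simp
      change LocallyOfFinitePresentation (inr.isoOpensRange.hom ≫ inr.opensRange.ι ≫ f')
      rw [this]
      infer_instance
    · rw [← MorphismProperty.cancel_left_of_respectsIso @LocallyOfFinitePresentation
        inl.isoOpensRange.hom]
      have : inl.isoOpensRange.hom ≫ inl.opensRange.ι ≫ f' = f := by
        rw [← hinl]; simp
      change LocallyOfFinitePresentation (inl.isoOpensRange.hom ≫ inl.opensRange.ι ≫ f')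
      rw [this]
      infer_instance
  have hqc : QuasiCompact f' := by
    refine ⟨fun W hW hWc ↦ ?_⟩
    have h1 : f' ⁻¹' W = inl '' (f ⁻¹' W) ∪ inr '' ((p ≫ V.ι) ⁻¹' W) := by
      ext z
      constructor
      · intro hz
        obtain ⟨x, rfl⟩ | ⟨t, rfl⟩ := OpenPushout.exists_inl_or_inr (f ⁻¹ᵁ V).ι j z
        · left
          refine ⟨x, ?_, rfl⟩
          change f x ∈ W
          rw [← hinl]
          exact hz
        · right
          refine ⟨t, ?_, rfl⟩
          change (p ≫ V.ι) t ∈ W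
          rw [← hinr]
          exact hz
      · rintro (⟨x, hx, rfl⟩ | ⟨t, ht, rfl⟩)
        · change (inl ≫ f') x ∈ W
          rw [hinl]
          exact hx
        · change (inr ≫ f') t ∈ W
          rw [hinr]
          exact ht
    rw [h1]
    refine IsCompact.union ?_ ?_
    · exact (QuasiCompact.isCompact_preimage (f := f) W hW hWc).image inl.continuous
    · exact (QuasiCompact.isCompact_preimage (f := p ≫ V.ι) W hW hWc).image inr.continuous
  refine ⟨X', inl, f', inferInstance, hlqf, hlft, hqc, hsep, hinl, ?_⟩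
  refine ZMTFactor.restrict_sup @IsFinite f' S₁ V ?_ ?_
  · have h1 : IsFinite ((inl ≫ f') ∣_ S₁) := by rw [hinl]; exact hS₁
    rw [morphismRestrict_comp] at h1
    have h4 : Surjective (inl ∣_ (f' ⁻¹ᵁ S₁)) := by
      refine ⟨?_⟩
      rintro ⟨z, hz⟩
      have h5 : ∃ x : X, inl x = z := by
        obtain ⟨x, rfl⟩ | ⟨t, rfl⟩ := OpenPushout.exists_inl_or_inr (f ⁻¹ᵁ V).ι j z
        · exact ⟨x, rfl⟩
        · have h6 : p t ∈ V.ι ⁻¹ᵁ S₁ := by
            change (p ≫ V.ι) t ∈ S₁
            rw [← hinr]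
            exact hz
          obtain ⟨x, rfl⟩ := hjW t h6
          refine ⟨(f ⁻¹ᵁ V).ι x, ?_⟩
          exact (OpenPushout.inl_eq_inr_iff (f ⁻¹ᵁ V).ι j _ _).mpr ⟨x, rfl, rfl⟩
      obtain ⟨x, rfl⟩ := h5
      refine ⟨⟨x, hz⟩, ?_⟩
      apply (f' ⁻¹ᵁ S₁).ι.injective
      rw [← Scheme.Hom.comp_apply, morphismRestrict_ι, Scheme.Hom.comp_apply]
      rfl
    have h5 : IsIso (inl ∣_ (f' ⁻¹ᵁ S₁)) :=
      (isIso_iff_isOpenImmersion_and_surjective _).mpr ⟨inferInstance, inferInstance⟩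
    rwa [MorphismProperty.cancel_left_of_respectsIso @IsFinite] at h1
  · rw [OpenPushout.restrict_iff @IsFinite f' V inr p hinr hVr]
    exact hp

/-- Intermediate form: finite over a quasi-compact open. -/
theorem exists_finite_over {X S : Scheme.{u}} (f : X ⟶ S) [QuasiSeparatedSpace S]
    [LocallyQuasiFinite f] [LocallyOfFinitePresentation f] [QuasiCompact f] [IsSeparated f]
    (W : S.Opens) (hW : IsCompact (W : Set S)) :
    ∃ (X' : Scheme.{u}) (i : X ⟶ X') (f' : X' ⟶ S), IsOpenImmersion i ∧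
      LocallyQuasiFinite f' ∧ LocallyOfFinitePresentation f' ∧ QuasiCompact f' ∧
      IsSeparated f' ∧ i ≫ f' = f ∧ IsFinite (f' ∣_ W) := by
  refine compact_open_induction_on (P := fun W ↦ ∃ (X' : Scheme.{u}) (i : X ⟶ X') (f' : X' ⟶ S),
      IsOpenImmersion i ∧
      LocallyQuasiFinite f' ∧ LocallyOfFinitePresentation f' ∧ QuasiCompact f' ∧
      IsSeparated f' ∧ i ≫ f' = f ∧ IsFinite (f' ∣_ W)) W hW ?_ ?_
  · refine ⟨X, 𝟙 X, f, inferInstance, inferInstance, inferInstance, inferInstance,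
      inferInstance, Category.id_comp f, ?_⟩
    have : IsEmpty (f ⁻¹ᵁ (⊥ : S.Opens)) := ⟨fun x ↦ x.2⟩
    have : IsEmpty (⊥ : S.Opens) := ⟨fun x ↦ x.2⟩
    have : IsIso (f ∣_ ⊥) := isIso_of_isEmpty _
    infer_instance
  · intro S₁ hS₁ V ih
    obtain ⟨X₁, i₁, f₁, h1, h3, h4, h5, h6, h7, h8⟩ := ih
    have : QuasiCompact V.1.ι := by
      refine ⟨fun W hW hWc ↦ ?_⟩
      rw [Topology.IsInducing.isCompact_iff V.1.ι.isOpenEmbedding.isInducing,
        Set.image_preimage_eq_inter_range]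
      have : Set.range V.1.ι = V.1 := by simp
      rw [this]
      exact QuasiSeparatedSpace.inter_isCompact W V.1 hW hWc V.1.2 V.2.isCompact
    obtain ⟨X₂, i₂, f₂, k1, k3, k4, k5, k6, k7, k8⟩ := step f₁ S₁ hS₁ h8 V.1 V.2
    exact ⟨X₂, i₁ ≫ i₂, f₂, inferInstance, k3, k4, k5, k6, by simp [k7, h7], k8⟩

set_option backward.isDefEq.respectTransparency false in
/-- Stacks 0F2N: a quasi-finite separated morphism locally of finite presentation to a
quasi-compact and quasi-separated scheme is a quasi-compact open immersion followed by a finite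
morphism of finite presentation. -/
theorem exists_factor {X S : Scheme.{u}} (f : X ⟶ S) [CompactSpace S] [QuasiSeparatedSpace S]
    [LocallyQuasiFinite f] [LocallyOfFinitePresentation f] [QuasiCompact f] [IsSeparated f] :
    ∃ (T : Scheme.{u}) (j : X ⟶ T) (π : T ⟶ S), IsOpenImmersion j ∧
      QuasiCompact j ∧ IsFinite π ∧ LocallyOfFinitePresentation π ∧ j ≫ π = f := by
  obtain ⟨X', i, f', h1, h3, h4, h5, h6, h7, h8⟩ := exists_finite_over f ⊤
    (by simpa using CompactSpace.isCompact_univ (X := S))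
  have hf' : IsFinite f' := by
    exact IsZariskiLocalAtTarget.of_iSup_eq_top (P := (@IsFinite : MorphismProperty Scheme.{u}))
      (fun _ : PUnit.{1} ↦ (⊤ : S.Opens)) (by simp) (fun _ ↦ h8)
  refine ⟨X', i, f', h1, ?_, hf', h4, h7⟩
  have : QuasiCompact (i ≫ f') := by rw [h7]; infer_instance
  exact QuasiCompact.of_comp i f'

end Groth.Agent.Flat2G.ZMTFinPres
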